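import Cfsg.Agent.Chevalley.WeylGroup
/-!
The Borel subgroup `B = U H`: subgroups spanned by sets of roots, triangularity, `B ∩ U⁻ = 1`,
`B ∩ N = H`, and the splitting of `U` at a simple root.
-/

set_option autoImplicit false

namespace CfsgLib.Chevalley

open Cfsg.Lie
open scoped MatrixGroups

variable {D : ChevalleyDatum} {F : Type*} [Field F]

/-- The subgroup generated by the root subgroups of a set of roots. -/
def rootGen (hD : Good D) (F : Type*) [Field F] (S : Set (Root D)) : Subgroup (GL D.Idx F) :=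
  Subgroup.closure {g | ∃ r ∈ S, ∃ t, X hD r t = g}

theorem X_mem_rootGen (hD : Good D) {S : Set (Root D)} {r : Root D} (hr : r ∈ S) (t : F) :
    X hD r t ∈ rootGen hD F S :=
  Subgroup.subset_closure ⟨r, hr, t, rfl⟩

theorem rootGen_le (hD : Good D) {S : Set (Root D)} {K : Subgroup (GL D.Idx F)}
    (h : ∀ r ∈ S, ∀ t, X hD r t ∈ K) : rootGen hD F S ≤ K :=
  (Subgroup.closure_le _).2 fun _ ⟨r, hr, t, e⟩ => e ▸ h r hr t

theorem rootGen_mono (hD : Good D) {S T : Set (Root D)} (h : S ⊆ T) :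
    rootGen hD F S ≤ rootGen hD F T :=
  rootGen_le hD fun _ hr t => X_mem_rootGen hD (h hr) t

/-- The positive roots. -/
def posSet (D : ChevalleyDatum) : Set (Root D) := {r | half D ≤ r}

/-- The negative roots. -/
def negSet (D : ChevalleyDatum) : Set (Root D) := {r | (r : ℕ) < half D}

theorem key_true_iff (hD : Good D) (r : Root D) :
    half D ≤ key true r ↔ (r : ℕ) < half D := by
  have := hD.two_half
  have := r.isLt
  simp [key, Fin.val_rev]
  omega

theorem posUnipotent_eq_rootGen (hD : Good D) :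
    D.posUnipotent F = rootGen hD F (posSet D) := by
  rw [posUnipotent_eq hD]
  refine le_antisymm ((Subgroup.closure_le _).2 ?_) (rootGen_le hD fun r hr t => X_mem_uGe (b := false) hD hr hr t)
  rintro _ ⟨r, hr, -, t, rfl⟩
  exact X_mem_rootGen hD (S := posSet D) hr t

theorem negUnipotent_eq_rootGen (hD : Good D) :
    D.negUnipotent F = rootGen hD F (negSet D) := by
  rw [negUnipotent_eq hD]
  refine le_antisymm ((Subgroup.closure_le _).2 ?_) (rootGen_le hD fun r hr t => ?_)
  · rintro _ ⟨r, hr, -, t, rfl⟩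
    exact X_mem_rootGen hD ((key_true_iff hD r).1 hr) t
  · exact X_mem_uGe hD ((key_true_iff hD r).2 hr) ((key_true_iff hD r).2 hr) t

theorem X_mem_pos (hD : Good D) {r : Root D} (hr : half D ≤ r) (t : F) :
    X hD r t ∈ D.posUnipotent F :=
  posUnipotent_eq_rootGen (F := F) hD ▸ X_mem_rootGen hD hr t

theorem X_mem_neg (hD : Good D) {r : Root D} (hr : (r : ℕ) < half D) (t : F) :
    X hD r t ∈ D.negUnipotent F :=
  negUnipotent_eq_rootGen (F := F) hD ▸ X_mem_rootGen hD hr t

theorem MonBy.conj_rootGen {hW : GoodWeyl D} {g : GL D.Idx F} {π : Equiv.Perm (Root D)}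
    (hg : MonBy hW g π) {S T : Set (Root D)} (h : ∀ r ∈ S, π r ∈ T) {u : GL D.Idx F}
    (hu : u ∈ rootGen hW.good F S) : g * u * g⁻¹ ∈ rootGen hW.good F T := by
  refine (rootGen_le hW.good (K := (rootGen hW.good F T).comap (MulAut.conj g).toMonoidHom)
    fun r hr t => ?_) hu
  obtain ⟨c, hc⟩ := hg.conj_X r
  show g * _ * g⁻¹ ∈ rootGen hW.good F T
  rw [hc]
  exact X_mem_rootGen _ (h r hr) _

theorem diag_conj_rootGen (hW : GoodWeyl D) {g u : GL D.Idx F} {S : Set (Root D)}
    (hg : g ∈ D.diagonalSubgroup F) (hu : u ∈ rootGen hW.good F S) :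
    g * u * g⁻¹ ∈ rootGen hW.good F S :=
  (monBy_diag hW hg).conj_rootGen (fun _ hr => hr) hu

theorem diag_le_normalizer_rootGen (hW : GoodWeyl D) (S : Set (Root D)) :
    D.diagonalSubgroup F ≤ Subgroup.normalizer (rootGen hW.good F S : Set (GL D.Idx F)) := by
  intro g hg
  refine Subgroup.mem_normalizer_iff.2 fun u => ⟨fun h => diag_conj_rootGen hW hg h, fun h => ?_⟩
  have := diag_conj_rootGen hW (inv_mem hg) h
  rwa [show g⁻¹ * (g * u * g⁻¹) * g⁻¹⁻¹ = u by group] at this

theorem diag_le_normalizer_pos (hW : GoodWeyl D) :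
    D.diagonalSubgroup F ≤ Subgroup.normalizer (D.posUnipotent F : Set (GL D.Idx F)) := by
  rw [posUnipotent_eq_rootGen hW.good]
  exact diag_le_normalizer_rootGen hW _

theorem diag_le_normalizer_neg (hW : GoodWeyl D) :
    D.diagonalSubgroup F ≤ Subgroup.normalizer (D.negUnipotent F : Set (GL D.Idx F)) := by
  rw [negUnipotent_eq_rootGen hW.good]
  exact diag_le_normalizer_rootGen hW _

theorem mem_borel_iff (hW : GoodWeyl D) {g : GL D.Idx F} :
    g ∈ D.borelSubgroup F ↔
      ∃ u ∈ D.posUnipotent F, ∃ h ∈ D.diagonalSubgroup F, u * h = g := by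
  rw [ChevalleyDatum.borelSubgroup, ← SetLike.mem_coe,
    Subgroup.coe_mul_of_right_le_normalizer_left _ _ (diag_le_normalizer_pos hW), Set.mem_mul]
  rfl

theorem pos_le_borel (D : ChevalleyDatum) : D.posUnipotent F ≤ D.borelSubgroup F := le_sup_left

theorem diag_le_borel (D : ChevalleyDatum) : D.diagonalSubgroup F ≤ D.borelSubgroup F := le_sup_right

/-! ### Triangularity -/

theorem ord_true (hD : Good D) (a : D.Idx) : ord true a + ord false a = 2 * half D := by
  have := hD.two_half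
  rcases a with j | r
  · simp [ord]; omega
  · have := r.isLt
    simp only [ord, Sum.elim_inr, key, Fin.val_rev, if_true, Bool.false_eq_true, if_false]
    split_ifs <;> omega

/-- An element lower for both sides, up to a diagonal factor, is trivial. -/
theorem eq_one_of_lower_diag (hW : GoodWeyl D) {u v h : GL D.Idx F} {m m' : ℕ}
    (hu : u ∈ uGe hW.good F false m) (hv : v ∈ uGe hW.good F true m')
    (hh : h ∈ D.diagonalSubgroup F) (e : u * h = v) : h = 1 ∧ u = 1 := by
  rw [diagonalSubgroup_eq_range hW] at hh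
  obtain ⟨c, rfl⟩ := hh
  have hu' := isLower_of_mem hW.good hu
  have hv' := isLower_of_mem hW.good hv
  set d : D.Idx → F := Sum.elim (fun _ => 1)
    fun s => ((∏ k : Fin D.rank, c k ^ D.cartan k s : Fˣ) : F) with hd
  have hval : ∀ a b, (v : Matrix D.Idx D.Idx F) a b = (u : Matrix D.Idx D.Idx F) a b * d b := by
    intro a b
    rw [← e, Units.val_mul]
    exact Matrix.mul_diagonal d _ _ _
  have hd1 : ∀ a, d a = 1 := fun a => by
    have := hval a a
    rwa [hu'.1, hv'.1, one_mul, eq_comm] at this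
  have hh1 : torHom D F c = 1 := by
    apply Units.ext
    show Matrix.diagonal d = 1
    rw [show d = fun _ => 1 from funext hd1, Matrix.diagonal_one]
  refine ⟨hh1, Units.ext (Matrix.ext fun a b => ?_)⟩
  rcases eq_or_ne a b with rfl | hab
  · rw [hu'.1, Units.val_one, Matrix.one_apply_eq]
  · rw [Units.val_one, Matrix.one_apply_ne hab]
    by_cases h1 : ord false a ≤ ord false b
    · exact hu'.2 a b hab h1
    · have := ord_true hW.good a
      have := ord_true hW.good b
      have h2 := hval a b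
      rw [hv'.2 a b hab (by omega), hd1, mul_one] at h2
      exact h2.symm

theorem borel_inf_neg (hW : GoodWeyl D) : D.borelSubgroup F ⊓ D.negUnipotent F = ⊥ := by
  rw [eq_bot_iff]
  rintro g ⟨hb, hn⟩
  obtain ⟨u, hu, h, hh, rfl⟩ := (mem_borel_iff hW).1 hb
  rw [posUnipotent_eq hW.good] at hu
  rw [SetLike.mem_coe, negUnipotent_eq hW.good] at hn
  obtain ⟨rfl, rfl⟩ := eq_one_of_lower_diag hW hu hn hh rfl
  simp

theorem pos_inf_diag (hW : GoodWeyl D) : D.posUnipotent F ⊓ D.diagonalSubgroup F = ⊥ := by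
  rw [eq_bot_iff]
  rintro g ⟨hu, hh⟩
  rw [SetLike.mem_coe, posUnipotent_eq hW.good] at hu
  obtain ⟨h1, -⟩ := eq_one_of_lower_diag hW hu (one_mem (uGe hW.good F true (half D)))
    (inv_mem hh) (mul_inv_cancel g)
  simpa using h1

theorem pos_apply_of_mem_borel (hW : GoodWeyl D) {g : GL D.Idx F} {π : Equiv.Perm (Root D)}
    (hg : MonBy hW g π) (hb : g ∈ D.borelSubgroup F) {r : Root D} (hr : half D ≤ r) :
    half D ≤ (π r : ℕ) := by
  obtain ⟨c, hc⟩ := hg.conj_X r
  have hnorm : g ∈ Subgroup.normalizer (D.posUnipotent F : Set (GL D.Idx F)) :=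
    sup_le Subgroup.le_normalizer (diag_le_normalizer_pos hW) hb
  have hmem := (Subgroup.mem_normalizer_iff.1 hnorm _).1 (X_mem_pos hW.good hr (1 : F))
  rw [hc, posUnipotent_eq hW.good] at hmem
  exact key_of_X_mem (b := false) hW.toGoodUni (by simp) hmem

/-! ### Connection with the Coxeter group -/

variable {C : Weyl.Cert D.rank} {M : CoxeterMatrix (Fin D.rank)} {R : Weyl.RootTable}

theorem posIdx_iff (hD : Good D) (h : Weyl.RootGood C M R) (r : Root D) :
    Weyl.PosIdx r ↔ half D ≤ r := by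
  rw [h.pos_iff, hD.isPosRoot_iff]
  exact ⟨fun e => e.1, fun e => ⟨e, r.isLt⟩⟩

theorem weylHom_eq_one_of_mem_borel (hW : GoodWeyl D) (h : Weyl.RootGood C M R)
    {g : ↥(D.monomialSubgroup F)} (hb : (g : GL D.Idx F) ∈ D.borelSubgroup F) :
    weylHom hW h g = 1 := by
  refine h.eq_one_of_invSet_empty (Finset.eq_empty_of_forall_notMem fun r hr => ?_)
  rw [Weyl.RootGood.mem_invSet, posIdx_iff hW.good h, posIdx_iff hW.good h] at hr
  exact hr.2 (pos_apply_of_mem_borel hW (monBy_weylHom hW h g) hb hr.1)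

/-- `B ∩ N = H`. -/
theorem borel_inf_monomial (hW : GoodWeyl D) (h : Weyl.RootGood C M R) :
    D.borelSubgroup F ⊓ D.monomialSubgroup F = D.diagonalSubgroup F := by
  refine le_antisymm ?_ (le_inf (diag_le_borel D) (diag_le_monomial D))
  rintro g ⟨hb, hn⟩
  have h1 : (⟨g, hn⟩ : ↥(D.monomialSubgroup F)) ∈ (weylHom hW h).ker :=
    weylHom_eq_one_of_mem_borel hW h hb
  rw [ker_weylHom] at h1
  exact h1

theorem pos_inf_monomial (hW : GoodWeyl D) (h : Weyl.RootGood C M R) :
    D.posUnipotent F ⊓ D.monomialSubgroup F = ⊥ := by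
  rw [eq_bot_iff]
  rintro g ⟨hu, hn⟩
  rw [← pos_inf_diag (F := F) hW]
  refine ⟨hu, ?_⟩
  rw [← borel_inf_monomial hW h]
  exact ⟨pos_le_borel D hu, hn⟩

/-! ### Splitting `U` at a simple root -/

/-- The positive roots other than `α_i`. -/
def posCompl (hW : GoodWeyl D) (i : Fin D.rank) : Set (Root D) :=
  {r | half D ≤ r ∧ r ≠ pRoot hW i}

theorem pRoot_pos (hW : GoodWeyl D) (i : Fin D.rank) : half D ≤ (pRoot hW i : ℕ) :=
  by
  have := hW.good.pos_iff_ht (pRoot hW i)
  have h2 : sgn false * ht D (Sum.inr (pRoot hW i)) = 2 := hW.good.ht_genR false i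
  simp [sgn] at h2
  omega

theorem pRoot_rev_neg (hW : GoodWeyl D) (i : Fin D.rank) : ((pRoot hW i).rev : ℕ) < half D := by
  have := pRoot_pos hW i
  have := hW.good.two_half
  rw [Fin.val_rev]
  omega

theorem X_conj_posCompl (hW : GoodWeyl D) (i : Fin D.rank) (v : F) {u : GL D.Idx F}
    (hu : u ∈ rootGen hW.good F (posCompl hW i)) :
    X hW.good (pRoot hW i) v * u * (X hW.good (pRoot hW i) v)⁻¹ ∈
      rootGen hW.good F (posCompl hW i) := by
  set a := pRoot hW i
  have ha : half D ≤ key false a := pRoot_pos hW i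
  have hC : GoodComm D := hW.toGoodComm
  refine (rootGen_le hW.good (K := (rootGen hW.good F (posCompl hW i)).comap
    (MulAut.conj (X hW.good a v)).toMonoidHom) fun s hs w => ?_) hu
  show X hC.good a v * X hC.good s w * (X hC.good a v)⁻¹ ∈ rootGen hW.good F (posCompl hW i)
  have hsa : a ≠ s.rev := hC.good.rev_ne_of_key (b := false) hs.1 ha
  rw [X_comm hC s a hs.2.symm hsa w v,
    show ∀ p q W : GL D.Idx F, p * q * W * q⁻¹ = p * (q * W * q⁻¹) from fun p q W => by group]
  refine mul_mem (X_mem_rootGen _ hs _) ?_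
  have hmem : X hC.good a v * commRhs hC.good s a w v * (X hC.good a v)⁻¹ ∈
      uGe hC.good F false (key false a + 1) :=
    conj_mem_uGe hC ha v _ (commRhs_mem_uGe (b := false) hC hs.1 ha (Or.inr le_rfl) w v)
  refine (Subgroup.closure_le _).2 ?_ hmem
  rintro _ ⟨r, hr, hra, t, rfl⟩
  exact X_mem_rootGen _ (S := posCompl hW i) (show half D ≤ (r : ℕ) ∧ r ≠ a from ⟨hr, fun e => by subst e; omega⟩) t

/-- `U = U_i X_{α_i}`. -/
theorem exists_split_pos (hW : GoodWeyl D) (i : Fin D.rank) {u : GL D.Idx F}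
    (hu : u ∈ D.posUnipotent F) :
    ∃ v ∈ rootGen hW.good F (posCompl hW i), ∃ t : F, u = v * X hW.good (pRoot hW i) t := by
  rw [posUnipotent_eq_rootGen hW.good] at hu
  induction hu using Subgroup.closure_induction with
  | mem x hx =>
    obtain ⟨r, hr, t, rfl⟩ := hx
    by_cases h : r = pRoot hW i
    · subst h; exact ⟨1, one_mem _, t, by rw [one_mul]⟩
    · exact ⟨_, X_mem_rootGen _ (S := posCompl hW i) (show half D ≤ (r : ℕ) ∧ r ≠ pRoot hW i from ⟨hr, h⟩) t, 0, by rw [X_zero, mul_one]⟩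
  | one => exact ⟨1, one_mem _, 0, by rw [X_zero, mul_one]⟩
  | mul x y _ _ hx hy =>
    obtain ⟨v, hv, t, rfl⟩ := hx
    obtain ⟨v', hv', t', rfl⟩ := hy
    refine ⟨v * (X hW.good (pRoot hW i) t * v' * (X hW.good (pRoot hW i) t)⁻¹),
      mul_mem hv (X_conj_posCompl hW i t hv'), t + t', ?_⟩
    rw [← X_mul]
    group
  | inv x _ hx =>
    obtain ⟨v, hv, t, rfl⟩ := hx
    refine ⟨_, X_conj_posCompl hW i (-t) (inv_mem hv), -t, ?_⟩
    rw [mul_inv_rev, X_inv]
    group

/-- `U = X_{α_i} U_i`. -/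
theorem exists_split_pos' (hW : GoodWeyl D) (i : Fin D.rank) {u : GL D.Idx F}
    (hu : u ∈ D.posUnipotent F) :
    ∃ t : F, ∃ v ∈ rootGen hW.good F (posCompl hW i), u = X hW.good (pRoot hW i) t * v := by
  obtain ⟨v, hv, t, e⟩ := exists_split_pos hW i (inv_mem hu)
  exact ⟨-t, v⁻¹, inv_mem hv, by rw [← inv_inv u, e, mul_inv_rev, X_inv]⟩

/-- `n_i` normalises `U_i`. -/
theorem nR_conj_posCompl (hW : GoodWeyl D) (i : Fin D.rank) {u : GL D.Idx F}
    (hu : u ∈ rootGen hW.good F (posCompl hW i)) :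
    nR hW i * u * (nR hW i)⁻¹ ∈ rootGen hW.good F (posCompl hW i) :=
  (monBy_nR hW i).conj_rootGen (fun _ hr => hW.wPerm_pos i hr.1 hr.2) hu

theorem nR_inv_conj_posCompl (hW : GoodWeyl D) (i : Fin D.rank) {u : GL D.Idx F}
    (hu : u ∈ rootGen hW.good F (posCompl hW i)) :
    (nR hW i)⁻¹ * u * nR hW i ∈ rootGen hW.good F (posCompl hW i) := by
  have := (monBy_nR (F := F) hW i).inv.conj_rootGen (T := posCompl hW i) (fun r hr => ?_) hu
  · rwa [inv_inv] at this
  · rw [show (wPerm hW i)⁻¹ r = wPerm hW i r from (wPerm hW i).injective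
      (((wPerm hW i).apply_symm_apply r).trans (hW.wPerm_wPerm i r).symm)]
    exact hW.wPerm_pos i hr.1 hr.2

theorem rootGen_posCompl_le (hW : GoodWeyl D) (i : Fin D.rank) :
    rootGen hW.good F (posCompl hW i) ≤ D.posUnipotent F :=
  posUnipotent_eq_rootGen (F := F) hW.good ▸ rootGen_mono hW.good fun _ hr => hr.1

end CfsgLib.Chevalley
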