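import Cfsg.Agent.Chevalley.Bruhat
import Cfsg.Prelude.Def_LieExceptional
/-!
`(B, N)` is a BN pair of the Chevalley group.
-/

set_option autoImplicit false

namespace CfsgLib.Chevalley

open Cfsg.Lie
open scoped MatrixGroups

variable {D : ChevalleyDatum} {C : Weyl.Cert D.rank} {M : CoxeterMatrix (Fin D.rank)}
  {R : Weyl.RootTable} {F : Type*} [Field F]

theorem pRoot_injective (hW : GoodWeyl D) : Function.Injective (pRoot hW) := by
  intro i j e
  have h1 := hW.good.coroot_simple i.isLt i.isLt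
  have h2 := hW.good.coroot_simple j.isLt i.isLt
  rw [show D.simple i = D.simple j from congrArg Fin.val e] at h1
  rw [h1] at h2
  by_contra hne
  rw [if_pos rfl, if_neg (fun e' => hne (Fin.ext e'.symm))] at h2
  exact one_ne_zero h2

theorem wPerm_injective (hW : GoodWeyl D) : Function.Injective (wPerm hW) := by
  intro i j e
  have h1 : wPerm hW j (pRoot hW i) = (pRoot hW i).rev := by rw [← e, hW.wPerm_pRoot]
  rcases eq_pRoot_of_wPerm_rev hW h1 with h2 | h2
  · exact pRoot_injective hW h2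
  · have := pRoot_pos hW i
    have := pRoot_rev_neg hW j
    rw [h2] at *
    omega

theorem borel_sup_monomial (hW : GoodWeyl D) :
    D.borelSubgroup F ⊔ D.monomialSubgroup F = D.group F := by
  refine le_antisymm (sup_le (borel_le_group hW) (monomial_le_group hW)) ?_
  rw [group_eq_borel_sup hW]
  refine sup_le_sup_left ((Subgroup.closure_le _).2 ?_) _
  rintro _ ⟨i, rfl⟩
  exact nR_mem_monomial hW i

/-- `n_i` as an element of the group. -/
def nG (hW : GoodWeyl D) (F : Type*) [Field F] (i : Fin D.rank) : ↥(D.group F) :=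
  ⟨nR hW i, nR_mem_group hW i⟩

theorem eq_nG_iff (hW : GoodWeyl D) {n : ↥(D.group F)} :
    (∃ i < D.rank, ((n : GL D.Idx F) : Matrix D.Idx D.Idx F) = D.nMat F (D.simple i) 1) ↔
      ∃ i : Fin D.rank, n = nG hW F i :=
  ⟨fun ⟨i, hi, e⟩ => ⟨⟨i, hi⟩, Subtype.ext (Units.ext (e.trans (coe_nR hW ⟨i, hi⟩).symm))⟩,
    fun ⟨i, e⟩ => ⟨i, i.isLt, e ▸ coe_nR hW i⟩⟩

theorem exists_bnPair (hW : GoodWeyl D) (h : Weyl.RootGood C M R) :
    ∃ P : Cfsg.BNPair ↥(D.group F),
      P.B = (D.borelSubgroup F).subgroupOf (D.group F) ∧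
      P.N = (D.monomialSubgroup F).subgroupOf (D.group F) ∧
      P.S = {n : ↥(D.group F) | ∃ i < D.rank,
        ((n : GL D.Idx F) : Matrix D.Idx D.Idx F) = D.nMat F (D.simple i) 1} := by
  refine ⟨{
    B := (D.borelSubgroup F).subgroupOf (D.group F)
    N := (D.monomialSubgroup F).subgroupOf (D.group F)
    S := {n : ↥(D.group F) | ∃ i < D.rank,
      ((n : GL D.Idx F) : Matrix D.Idx D.Idx F) = D.nMat F (D.simple i) 1}
    sup_eq_top := ?_
    conj_mem := ?_
    subset := ?_
    sq_mem := ?_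
    inj := ?_
    closure_sup := ?_
    mul_mem_union := ?_
    conj_ne := ?_ }, rfl, rfl, rfl⟩
  · rw [← Subgroup.subgroupOf_sup (borel_le_group hW) (monomial_le_group hW),
      borel_sup_monomial hW, Subgroup.subgroupOf_self]
  · rintro n hn t ⟨htB, htN⟩
    have htH : (t : GL D.Idx F) ∈ D.diagonalSubgroup F :=
      borel_inf_monomial (F := F) hW h ▸ (⟨htB, htN⟩ : (t : GL D.Idx F) ∈
        D.borelSubgroup F ⊓ D.monomialSubgroup F)
    exact diag_le_borel D
      ((Subgroup.mem_normalizer_iff.1 (monomial_le_normalizer hW hn) _).1 htH)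
  · intro n hn
    obtain ⟨i, rfl⟩ := (eq_nG_iff hW).1 hn
    exact nR_mem_monomial hW i
  · intro n hn
    obtain ⟨i, rfl⟩ := (eq_nG_iff hW).1 hn
    exact diag_le_borel D (nR_mul_self_mem_diag hW i)
  · intro a ha b hb hab
    obtain ⟨i, rfl⟩ := (eq_nG_iff hW).1 ha
    obtain ⟨j, rfl⟩ := (eq_nG_iff hW).1 hb
    let ni : ↥(D.monomialSubgroup F) := ⟨nR hW i, nR_mem_monomial hW i⟩
    let nj : ↥(D.monomialSubgroup F) := ⟨nR hW j, nR_mem_monomial hW j⟩
    have h1 := weylHom_eq_one_of_mem_borel hW h (g := ni⁻¹ * nj) hab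
    rw [map_mul, map_inv, inv_mul_eq_one, weylHom_nR, weylHom_nR] at h1
    have h2 : wPerm hW i = wPerm hW j := by
      rw [wPerm_eq_rootPerm hW h, wPerm_eq_rootPerm hW h, h1]
    rw [wPerm_injective hW h2]
  · apply Subgroup.map_injective (f := (D.group F).subtype) (Subgroup.subtype_injective _)
    rw [Subgroup.map_sup, MonoidHom.map_closure,
      Subgroup.map_inf _ _ _ (Subgroup.subtype_injective _)]
    simp only [Subgroup.subgroupOf_map_subtype]
    rw [inf_eq_left.2 (monomial_le_group hW), inf_eq_left.2 (borel_le_group hW),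
      borel_inf_monomial hW h, monomialSubgroup_eq hW, sup_comm]
    congr 2
    ext g
    constructor
    · rintro ⟨n, hn, rfl⟩
      obtain ⟨i, rfl⟩ := (eq_nG_iff hW).1 hn
      exact ⟨i, rfl⟩
    · rintro ⟨i, rfl⟩
      exact ⟨nG hW F i, (eq_nG_iff hW).2 ⟨i, rfl⟩, rfl⟩
  · intro s hs n hn b hb
    obtain ⟨i, rfl⟩ := (eq_nG_iff hW).1 hs
    let ni : ↥(D.monomialSubgroup F) := ⟨nR hW i, nR_mem_monomial hW i⟩
    let n' : ↥(D.monomialSubgroup F) := ⟨n, hn⟩
    have key : ∀ (m : ↥(D.monomialSubgroup F)) (hm : (m : GL D.Idx F) ∈ D.group F)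
        (g : ↥(D.group F)), (g : GL D.Idx F) ∈ cell hW h F (weylHom hW h m) →
        g ∈ DoubleCoset.doubleCoset (⟨m, hm⟩ : ↥(D.group F))
          (((D.borelSubgroup F).subgroupOf (D.group F) : Subgroup ↥(D.group F)) : Set ↥(D.group F))
          ((D.borelSubgroup F).subgroupOf (D.group F)) := by
      rintro m hm g ⟨c, hc, c', hc', e⟩
      obtain ⟨k, hk, ek⟩ := exists_eq_nW_mul hW h m
      refine DoubleCoset.mem_doubleCoset.2 ⟨⟨c, borel_le_group hW hc⟩, hc,
        ⟨k⁻¹ * c', mul_mem (inv_mem (borel_le_group hW (diag_le_borel D hk)))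
          (borel_le_group hW hc')⟩, mul_mem (inv_mem (diag_le_borel D hk)) hc', Subtype.ext ?_⟩
      show (g : GL D.Idx F) = c * m * (k⁻¹ * c')
      rw [← e, ek]
      group
    have h1 : ((nG hW F i * b * n : ↥(D.group F)) : GL D.Idx F) ∈
        cell hW h F (weylHom hW h (ni * n')) ∪ cell hW h F (weylHom hW h n') := by
      rw [map_mul, weylHom_nR, Subgroup.coe_mul, Subgroup.coe_mul]
      show nR hW i * (b : GL D.Idx F) * (n : GL D.Idx F) ∈ _
      rw [mul_assoc]
      exact nR_mul_cell hW h i (borel_mul_mem_cell hW h hb (mem_cell_self hW h n'))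
    rcases h1 with h1 | h1
    · exact Or.inl (key (ni * n') (mul_mem (nR_mem_group hW i) n.2) _ h1)
    · exact Or.inr (key n' n.2 _ h1)
  · intro s hs e
    obtain ⟨i, rfl⟩ := (eq_nG_iff hW).1 hs
    let x : ↥(D.group F) := ⟨X hW.good (pRoot hW i) (1 : F), X_mem_group _ _ _⟩
    have h1 : nG hW F i * x * nG hW F i ∈
        ((D.borelSubgroup F).subgroupOf (D.group F) : Set ↥(D.group F)) :=
      e ▸ ⟨x, X_pRoot_mem_borel hW i 1, rfl⟩
    have h2 : nR hW i * X hW.good (pRoot hW i) (1 : F) * nR hW i * (nR hW i * nR hW i)⁻¹ ∈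
        D.borelSubgroup F :=
      mul_mem h1 (inv_mem (diag_le_borel D (nR_mul_self_mem_diag hW i)))
    rw [show nR hW i * X hW.good (pRoot hW i) (1 : F) * nR hW i * (nR hW i * nR hW i)⁻¹ =
      nR hW i * X hW.good (pRoot hW i) (1 : F) * (nR hW i)⁻¹ by group, nR_conj,
      hW.wPerm_pRoot] at h2
    have h3 : X hW.good (pRoot hW i).rev ((eta D i (pRoot hW i) : F) * 1) ∈
        D.borelSubgroup F ⊓ D.negUnipotent F := ⟨h2, X_mem_neg hW.good (pRoot_rev_neg hW i) _⟩
    rw [borel_inf_neg hW, Subgroup.mem_bot, ← X_zero hW.good (pRoot hW i).rev] at h3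
    have := X_injective hW.good _ h3
    rw [hW.eta_pRoot] at this
    simp at this

end CfsgLib.Chevalley
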