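import Cfsg.Agent.Chevalley.Checks
/-!
The finite checks behind the commutator formula: for every pair of roots whose sum is a root, one of
the two chains consists of pairwise commuting root elements, or the formula is evaluated at `(1, 1)`.
-/

set_option autoImplicit false

namespace CfsgLib.Chevalley

open Cfsg.Lie

/-- The number whose binary digits mark the given places. -/
def maskOf : List ℕ → ℕ
  | [] => 0
  | k :: L => Nat.lor (Nat.shiftLeft 1 k) (maskOf L)

theorem testBit_maskOf (L : List ℕ) (k : ℕ) : (maskOf L).testBit k = true ↔ k ∈ L := by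
  induction L with
  | nil => simp [maskOf]
  | cons a L ih =>
    rw [maskOf, show Nat.lor (Nat.shiftLeft 1 a) (maskOf L) = (1 <<< a) ||| maskOf L from rfl,
      Nat.testBit_lor, Bool.or_eq_true, ih, Nat.shiftLeft_eq, one_mul, Nat.testBit_two_pow,
      decide_eq_true_eq, List.mem_cons, eq_comm]

/-- Add an entry to a row, merging equal columns. -/
def rowIns (p : ℕ × ℤ) : List (ℕ × ℤ) → List (ℕ × ℤ)
  | [] => [p]
  | q :: L => bif q.1 == p.1 then (q.1, q.2 + p.2) :: L else q :: rowIns p L

theorem rowVal_rowIns (p : ℕ × ℤ) (L : List (ℕ × ℤ)) (c : ℕ) :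
    rowVal (rowIns p L) c = rowVal (p :: L) c := by
  induction L with
  | nil => rfl
  | cons q L ih =>
    rw [rowIns]
    by_cases h : q.1 = p.1
    · rw [beq_iff_eq.2 h, cond_true, rowVal_cons, rowVal_cons, rowVal_cons, h]
      split_ifs <;> ring
    · rw [beq_false_of_ne h, cond_false, rowVal_cons, ih, rowVal_cons, rowVal_cons, rowVal_cons]
      ring

/-- A row with equal columns merged and zeros removed. -/
def rowNorm : List (ℕ × ℤ) → List (ℕ × ℤ)
  | [] => []
  | p :: L => bif p.2 == 0 then rowNorm L else rowIns p (rowNorm L)

theorem rowVal_rowNorm (L : List (ℕ × ℤ)) (c : ℕ) : rowVal (rowNorm L) c = rowVal L c := by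
  induction L with
  | nil => rfl
  | cons p L ih =>
    rw [rowNorm]
    by_cases h : p.2 = 0
    · simp [beq_iff_eq.2 h, ih, rowVal_cons, h]
    · simp [beq_false_of_ne h, rowVal_rowIns, rowVal_cons, ih]

/-- A sparse matrix with merged rows. -/
def SMat.norm (A : SMat) : SMat := Trie.mapRows rowNorm A

theorem SMat.toMat_norm (l n : ℕ) (A : SMat) : SMat.toMat l n (SMat.norm A) = SMat.toMat l n A := by
  ext a b
  simp only [SMat.toMat_apply, SMat.den, SMat.norm, Trie.get_mapRows rowNorm rfl, rowVal_rowNorm]

variable (D : ChevalleyDatum)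

/-- For each root the mask of the partners with which it has a chain. -/
def maskTrie : Trie ℕ :=
  Trie.ofRows ((List.range D.nroots).map fun r => [maskOf (((chainTrie D).get r).map Prod.fst)])

/-- The roots `a` and `b` are not opposite and their sum is not a root. -/
def commB (M : Trie ℕ) (a b : ℕ) : Bool :=
  (b != opp D a) && !((M.get a).headD 0).testBit b

/-- The listed roots commute pairwise. -/
def commList (M : Trie ℕ) : List ℕ → Bool
  | [] => true
  | a :: L => (L.all fun b => commB D M a b && commB D M b a) && commList M L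

/-- The identity as a sparse matrix. -/
def oneSMat : SMat :=
  SMat.ofEntries ((List.range (D.rank + D.nroots)).map fun a => (a, a, 1))

/-- The root element `x_r(c)` over `ℤ` as a sparse matrix. -/
def xSMat (r : ℕ) (c : ℤ) : SMat :=
  Trie.add (oneSMat D)
    (Trie.add (SMat.smul c (eMat D r 1))
      (Trie.add (SMat.smul (c * c) (eMat D r 2)) (SMat.smul (c * (c * c)) (eMat D r 3))))

/-- The product of a word in integral root elements, with the boundedness of every factor. -/
def wordSMat : List (ℕ × ℤ) → SMat × Bool
  | [] => (oneSMat D, true)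
  | p :: L =>
    let A := xSMat D p.1 p.2
    (SMat.norm (SMat.mul A (wordSMat L).1),
      decide (p.1 < D.nroots) && SMat.bounded (D.rank + D.nroots) A && (wordSMat L).2)

/-- The formula for the pair `(r, s)` holds at `t = u = 1`, and all its terms have the right weights. -/
def evalComm (r s : ℕ) : Bool :=
  let W := wtTrie D
  let T := D.commTerms r s
  let lhs := wordSMat D [(s, 1), (r, 1)]
  let rhs := wordSMat D ((r, 1) :: (s, 1) :: T.map fun c => (c.1, c.2.1 * (-1) ^ c.2.2.1))
  lhs.2 && rhs.2 && SMat.eqB lhs.1 rhs.1 &&
    (T.all fun c => W.get c.1 ==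
      List.zipWith (fun (a b : ℤ) => (c.2.2.1 : ℤ) * a + (c.2.2.2 : ℤ) * b) (W.get r) (W.get s)) &&
    ((List.range D.rank).any fun i => (List.range D.rank).any fun j =>
      cartanT D i r * cartanT D j s != cartanT D j r * cartanT D i s)

/-- The check for all pairs of roots whose sum is a root. -/
def chkComm : Bool :=
  let M := maskTrie D
  (List.range D.nroots).all fun r =>
    ((chainTrie D).get r).all fun e =>
      (e.2.all fun q => q.2 != 0) &&
      (bif commList D M (e.1 :: e.2.map Prod.fst) then true
      else
        let cs := entryT D e.1 r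
        bif !cs.isEmpty && commList D M (r :: cs.map Prod.fst) then true else evalComm D r e.1)

end CfsgLib.Chevalley
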