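import Cfsg.Agent.Chevalley.Element
import Cfsg.Agent.Chevalley.CommChecks
import Mathlib.RingTheory.Nilpotent.Exp
import Mathlib.Algebra.MvPolynomial.Eval
import Mathlib.Algebra.MvPolynomial.CommRing
/-!
Conjugation of root elements by automorphisms, and Chevalley's commutator formula.
-/

set_option autoImplicit false

namespace CfsgLib.Chevalley

open Cfsg.Lie

variable {D : ChevalleyDatum}

section Exp

variable {K : Type*} [CommRing K] [Algebra ℚ K]

theorem map_E_pow (hD : Good D) (r : Root D) (t : K) (k : ℕ) :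
    (t • (E D r 1).map (Int.cast : ℤ → K)) ^ k =
      (k.factorial : ℚ) • (t ^ k • (E D r k).map (Int.cast : ℤ → K)) := by
  have h : ((E D r 1).map (Int.cast : ℤ → K)) ^ k = (k.factorial : K) • (E D r k).map (Int.cast : ℤ → K) := by
    rw [show (E D r 1).map (Int.cast : ℤ → K) = (Int.castRingHom K).mapMatrix (E D r 1) from rfl,
      ← map_pow, hD.A_pow]
    ext a b
    simp only [RingHom.mapMatrix_apply, Matrix.map_apply, Matrix.smul_apply, smul_eq_mul,
      Int.coe_castRingHom, Int.cast_mul, Int.cast_natCast]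
  rw [smul_pow, h, Nat.cast_smul_eq_nsmul, Nat.cast_smul_eq_nsmul, smul_comm]

/-- `t • ad e_r` is nilpotent of order at most `4`. -/
theorem smul_E_pow_four (hD : Good D) (r : Root D) (t : K) :
    (t • (E D r 1).map (Int.cast : ℤ → K)) ^ 4 = 0 := by
  rw [map_E_pow hD, E_high r le_rfl]
  simp

theorem exp_smul_E (hD : Good D) (r : Root D) (t : K) :
    IsNilpotent.exp (t • (E D r 1).map (Int.cast : ℤ → K)) = xR D K r t := by
  rw [IsNilpotent.exp_eq_sum (smul_E_pow_four hD r t), xR]
  refine Finset.sum_congr rfl fun k _ => ?_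
  rw [map_E_pow hD, smul_smul, inv_mul_cancel₀ (by exact_mod_cast k.factorial_ne_zero), one_smul]

/-- An intertwiner of two nilpotent elements intertwines their exponentials. -/
theorem mul_exp_of_semiconj {A : Type*} [Ring A] [Module ℚ A] [SMulCommClass ℚ A A]
    [IsScalarTower ℚ A A] {g a b : A} (h : SemiconjBy g a b)
    (ha : IsNilpotent a) (hb : IsNilpotent b) : g * IsNilpotent.exp a = IsNilpotent.exp b * g := by
  obtain ⟨m, hm⟩ := ha
  obtain ⟨n, hn⟩ := hb
  rw [IsNilpotent.exp_eq_sum (k := m + n) (pow_eq_zero_of_le (by omega) hm),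
    IsNilpotent.exp_eq_sum (k := m + n) (pow_eq_zero_of_le (by omega) hn), Finset.mul_sum,
    Finset.sum_mul]
  refine Finset.sum_congr rfl fun i _ => ?_
  rw [mul_smul_comm, smul_mul_assoc, (h.pow_right i).eq]

theorem exp_list_sum {A : Type*} [Ring A] [Module ℚ A] [SMulCommClass ℚ A A]
    [IsScalarTower ℚ A A] : ∀ L : List A, L.Pairwise Commute → (∀ a ∈ L, IsNilpotent a) →
      IsNilpotent L.sum ∧ IsNilpotent.exp L.sum = (L.map IsNilpotent.exp).prod := by
  intro L
  induction L with
  | nil => exact fun _ _ => ⟨IsNilpotent.zero, IsNilpotent.exp_zero⟩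
  | cons a L ih =>
    intro hp hn
    rw [List.pairwise_cons] at hp
    obtain ⟨hnil, hexp⟩ := ih hp.2 fun b hb => hn b (by simp [hb])
    have hc : Commute a L.sum := Commute.list_sum_right _ _ fun b hb => hp.1 b hb
    have ha := hn a (by simp)
    refine ⟨by simpa using hc.isNilpotent_add ha hnil, ?_⟩
    rw [List.sum_cons, IsNilpotent.exp_add_of_commute hc ha hnil, hexp, List.map_cons,
      List.prod_cons]

theorem adV_list_sum {R : Type*} [CommRing R] (L : List (D.Idx → R)) :
    adV D L.sum = (L.map (adV D)).sum := by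
  induction L with
  | nil => simp [adV_zero]
  | cons v L ih => simp [adV_add, ih]

/-- An automorphism conjugates a root element into the product of the root elements of the image of
the root vector, when these commute. -/
theorem mul_xR_of_list (hD : Good D) {g : Matrix D.Idx D.Idx K} (hg : IsAut D g) (s : Root D)
    (u : K) (L : List (Root D × K))
    (hv : g.mulVec (Pi.single (Sum.inr s) 1) = (L.map fun p => Pi.single (Sum.inr p.1) p.2).sum)
    (hL : (L.map fun p => E D p.1 1).Pairwise Commute) :
    g * xR D K s u = (L.map fun p => xR D K p.1 (u * p.2)).prod * g := by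
  let f : Root D × K → Matrix D.Idx D.Idx K := fun p =>
    (u * p.2) • (E D p.1 1).map (Int.cast : ℤ → K)
  have hp : (L.map f).Pairwise Commute := by
    rw [List.pairwise_map] at hL ⊢
    refine hL.imp fun {p q} h => ?_
    refine (Commute.smul_left (Commute.smul_right ?_ _) _)
    exact h.map (Int.castRingHom K).mapMatrix
  have hn : ∀ a ∈ L.map f, IsNilpotent a := by
    intro a ha
    obtain ⟨p, -, rfl⟩ := List.mem_map.1 ha
    exact ⟨4, smul_E_pow_four hD p.1 _⟩
  obtain ⟨hnil, hexp⟩ := exp_list_sum _ hp hn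
  have hadV : (L.map f).sum = u • adV D (g.mulVec (Pi.single (Sum.inr s) 1)) := by
    rw [hv, adV_list_sum, List.map_map, List.smul_sum, List.map_map]
    congr 1
    apply List.map_congr_left
    intro p _
    simp [f, adV_single, smul_smul]
  have hsc : SemiconjBy g (u • (E D s 1).map (Int.cast : ℤ → K)) (L.map f).sum := by
    rw [SemiconjBy, hadV, mul_smul_comm, smul_mul_assoc, ← hg, adV_single, one_smul, adB_inr]
  rw [← exp_smul_E hD, mul_exp_of_semiconj hsc ⟨4, smul_E_pow_four hD s u⟩ hnil, hexp, List.map_map]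
  congr 2
  apply List.map_congr_left
  intro p _
  exact exp_smul_E hD p.1 _

end Exp

/-! ### Antisymmetry and commuting root vectors -/

theorem Good.exists_coroot_ne (hD : Good D) (u : Root D) :
    ∃ i : Fin D.rank, (D.coroot.getD u #[]).getD i 0 ≠ 0 := by
  by_contra hne
  push Not at hne
  have h0 : ∀ c ∈ (coTrie D).get u, c = 0 := by
    intro c hc
    obtain ⟨i, hi, rfl⟩ := List.mem_iff_getElem.1 hc
    have hi' : i < D.rank := by rw [hD.coTrie_length u.isLt] at hi; exact hi
    have := hne ⟨i, hi'⟩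
    rw [← coT_eq, coT, List.getD_eq_getElem?_getD, List.getElem?_eq_getElem hi] at this
    exact this
  obtain ⟨h1, h2, -⟩ := hD.basic'.2.2.1 u u.isLt
  rw [List.all_eq_true.2 (fun c hc => by simp [h0 c hc]), eq_comm, decide_eq_true_eq] at h1
  rw [List.all_eq_true.2 (fun c hc => by simp [h0 c hc]), eq_comm, decide_eq_true_eq] at h2
  omega

theorem Good.adV_root_entry (hD : Good D) (v : D.Idx → ℤ) (u : Root D) (i : Fin D.rank) :
    adV D v (Sum.inl i) (Sum.inr u.rev) =
      v (Sum.inr u) * (D.coroot.getD u #[]).getD i 0 := by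
  rw [adV_int, Matrix.sum_apply, Fintype.sum_sum_type]
  have h1 : ∀ j, (v (Sum.inl j) • adB D (Sum.inl j)) (Sum.inl i) (Sum.inr u.rev) = 0 := by
    intro j; simp [hM]
  simp only [h1, Finset.sum_const_zero, zero_add, Matrix.smul_apply, smul_eq_mul, adB_inr,
    E_apply_one hD, Fin.rev_inj]
  simp [eq_comm]

theorem Good.chainVal_antisymm (hD : Good D) {r s : Root D} (hne : s ≠ r.rev) (u : Root D) :
    chainVal D r s 0 u = -chainVal D s r 0 u := by
  have hne' : r ≠ s.rev := fun e => hne (by rw [e, Fin.rev_rev])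
  have h1 := hD.isDer_root r (Sum.inr s)
  have h2 := hD.isDer_root s (Sum.inr r)
  rw [CompatAt, adB_inr] at h1 h2
  obtain ⟨i, hi⟩ := hD.exists_coroot_ne u
  have e := congrFun (congrFun (show adV D (fun a => E D r 1 a (Sum.inr s)) =
    -adV D (fun a => E D s 1 a (Sum.inr r)) by rw [← h1, ← h2, neg_sub]) (Sum.inl i)) (Sum.inr u.rev)
  simp only [Matrix.neg_apply, hD.adV_root_entry, E_apply_one hD] at e
  exact mul_right_cancel₀ hi (by linear_combination e)

theorem Good.commute_of_chainEntry_nil (hD : Good D) {r s : Root D} (hne : s ≠ r.rev)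
    (h : D.chainEntry r s = []) : Commute (E D r 1) (E D s 1) := by
  have hcol : (fun a => E D r 1 a (Sum.inr s)) = 0 := by
    funext a
    rw [E_apply_one hD]
    rcases a with i | u
    · simp [hne]
    · simp [chainVal, h]
  have := hD.isDer_root r (Sum.inr s)
  rw [CompatAt, adB_inr, hcol, adV_zero, sub_eq_zero] at this
  exact this

/-- The column of `x_r(t)` at `e_s`, for `s ≠ -r`, is read off the chain. -/
theorem Good.xR_col (hD : Good D) {R : Type*} [CommRing R] (r s : Root D) (hne : s ≠ r.rev) (t : R) :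
    (xR D R r t).mulVec (Pi.single (Sum.inr s) 1) =
      Pi.single (Sum.inr s) 1 + (((D.chainEntry r s).zipIdx).map fun q =>
        (fun a : D.Idx => Sum.elim (fun _ => (0 : R))
          (fun v : Root D => if (v : ℕ) = q.1.1 then t ^ (q.2 + 1) * (q.1.2 : R) else 0) a)).sum := by
  rw [Matrix.mulVec_single_one]
  funext a
  have hlen := hD.chainEntry_length r.isLt s
  simp only [Matrix.col_apply, xR, Finset.sum_range_succ, Finset.sum_range_zero,
    zero_add, Matrix.add_apply, Matrix.smul_apply, Matrix.map_apply, smul_eq_mul, E_zero, E_apply_one hD,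
    E_apply_two hD, E_apply_three hD, pow_zero, one_mul, pow_one, Pi.add_apply]
  rcases a with i | v
  · rw [Pi.single_eq_of_ne (by simp)]
    have hs1 : (Sum.inl i : D.Idx) ≠ Sum.inr s := by simp
    have : ∀ L : List ((ℕ × ℤ) × ℕ), (L.map fun q => (fun a : D.Idx => Sum.elim (fun _ => (0 : R))
          (fun v : Root D => if (v : ℕ) = q.1.1 then t ^ (q.2 + 1) * (q.1.2 : R) else 0) a)).sum
            (Sum.inl i) = 0 := by
      intro L; induction L <;> simp_all
    rw [this]
    simp [Matrix.one_apply, hne, hs1]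
  · simp only [chainVal, hne, and_false, if_false, zero_add, Pi.single_apply, Matrix.one_apply,
      Sum.inr.injEq]
    generalize D.chainEntry r s = L at hlen ⊢
    by_cases hvs : v = s <;>
    rcases L with _ | ⟨a, _ | ⟨b, _ | ⟨c, _ | ⟨d, L⟩⟩⟩⟩ <;>
      simp [hvs, eq_comm] at hlen ⊢ <;>
      first
        | omega
        | (split_ifs <;> ring_nf <;> simp)

/-! ### The list of the terms of the formula -/

theorem getElem?_chainRoot (r s i : ℕ) :
    D.chainRoot r s i = ((D.chainEntry r s)[i - 1]?).map Prod.fst := rfl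

/-- The terms when the `r`-chain through `s` commutes. -/
theorem commTerms_left (hD : Good D) {r s : Root D} {cs : List (ℕ × ℤ)}
    (hcs : D.chainEntry r s = cs) (hcs' : (D.chainEntry s r).length ≤ 1)
    (hlast : ∀ q ∈ cs, D.chainEntry q.1 s = []) :
    D.commTerms r s = cs.zipIdx.map fun q => (q.1.1, q.1.2, q.2 + 1, 1) := by
  have hlen := hD.chainEntry_length r.isLt s
  rw [hcs] at hlen
  simp only [ChevalleyDatum.commTerms, ChevalleyDatum.chainRoot, ChevalleyDatum.chainM, hcs]
  generalize D.chainEntry s r = ds at hcs' ⊢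
  rcases ds with _ | ⟨d, _ | ⟨d', ds⟩⟩ <;>
  rcases cs with _ | ⟨a, _ | ⟨b, _ | ⟨c, _ | ⟨e, L⟩⟩⟩⟩ <;>
    first
      | (simp at hlen; omega)
      | simp_all [List.filterMap_cons]

/-- The terms when the `s`-chain through `r` commutes. -/
theorem commTerms_right (hD : Good D) {r s : Root D} {a d : ℕ × ℤ} {ds : List (ℕ × ℤ)}
    (hcs : D.chainEntry r s = [a]) (hds : D.chainEntry s r = d :: ds)
    (hlast : ∀ q ∈ d :: ds, D.chainEntry q.1 r = []) (h1 : a.1 = d.1) (h2 : a.2 = -d.2) :
    D.commTerms r s = (d :: ds).zipIdx.map fun q => (q.1.1, (-1) ^ (q.2 + 1) * q.1.2, 1, q.2 + 1) := by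
  have hlen := hD.chainEntry_length s.isLt r
  rw [hds] at hlen
  simp only [ChevalleyDatum.commTerms, ChevalleyDatum.chainRoot, ChevalleyDatum.chainM, hcs, hds]
  obtain ⟨a1, a2⟩ := a
  simp only at h1 h2
  subst h1 h2
  rcases ds with _ | ⟨b, _ | ⟨c, _ | ⟨e, L⟩⟩⟩ <;>
    first
      | (simp at hlen; omega)
      | simp_all [List.filterMap_cons]

/-! ### The check -/

/-- A datum that passes the checks for the commutator formula. -/
structure GoodComm (D : ChevalleyDatum) : Prop where
  good : Good D
  comm : chkComm D = true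

theorem maskTrie_testBit {r : ℕ} (hr : r < D.nroots) (s : ℕ) :
    (((maskTrie D).get r).headD 0).testBit s = true ↔ s ∈ ((chainTrie D).get r).map Prod.fst := by
  rw [maskTrie, Trie.get_ofRows, List.getD_eq_getElem?_getD, List.getElem?_map,
    List.getElem?_range hr]
  simp [testBit_maskOf]

theorem Good.commB_spec (hD : Good D) {a b : ℕ} (ha : a < D.nroots)
    (h : commB D (maskTrie D) a b = true) : b ≠ opp D a ∧ D.chainEntry a b = [] := by
  simp only [commB, Bool.and_eq_true, bne_iff_ne, Bool.not_eq_true'] at h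
  refine ⟨h.1, ?_⟩
  have hm : ¬ b ∈ ((chainTrie D).get a).map Prod.fst := fun hc => by
    rw [(maskTrie_testBit ha b).2 hc] at h; exact Bool.noConfusion h.2
  rw [← entryT_eq, entryT, List.find?_eq_none.2]
  intro e he
  simp only [beq_iff_eq]
  exact fun e' => hm (List.mem_map.2 ⟨e, he, e'⟩)

theorem Good.commList_spec (hD : Good D) : ∀ {L : List ℕ}, (∀ a ∈ L, a < D.nroots) →
    commList D (maskTrie D) L = true →
    L.Pairwise fun a b => b ≠ opp D a ∧ D.chainEntry a b = [] ∧ D.chainEntry b a = [] := by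
  intro L
  induction L with
  | nil => simp
  | cons a L ih =>
    intro hlt h
    simp only [commList, Bool.and_eq_true, List.all_eq_true] at h
    refine List.pairwise_cons.2 ⟨fun b hb => ?_, ih (fun b hb => hlt b (by simp [hb])) h.2⟩
    obtain ⟨h1, h2⟩ := hD.commB_spec (hlt a (by simp)) (h.1 b hb).1
    exact ⟨h1, h2, (hD.commB_spec (hlt b (by simp [hb])) (h.1 b hb).2).2⟩

theorem Good.chainEntry_head (hD : Good D) (hnz : ∀ (a b : Root D), ∀ q ∈ D.chainEntry a b, q.2 ≠ 0)
    {r s : Root D} (hne : s ≠ r.rev) {q : ℕ × ℤ} {cs : List (ℕ × ℤ)}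
    (h : D.chainEntry r s = q :: cs) :
    ∃ ds, D.chainEntry s r = (q.1, -q.2) :: ds := by
  have hq : q.1 < D.nroots := (hD.chainEntry_mem r.isLt (h ▸ List.mem_cons_self ..)).2.2.2.1
  have e := hD.chainVal_antisymm hne ⟨q.1, hq⟩
  simp only [chainVal, h, List.getElem?_cons_zero, if_true] at e
  cases hds : D.chainEntry s r with
  | nil =>
    rw [hds] at e
    simp at e
    exact absurd e (hnz r s q (h ▸ List.mem_cons_self ..))
  | cons d ds =>
    rw [hds] at e
    simp only [List.getElem?_cons_zero] at e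
    by_cases hd : d.1 = q.1
    · refine ⟨ds, ?_⟩
      rw [if_pos hd] at e
      rw [show d = (q.1, -q.2) from Prod.ext hd (by simp; omega)]
    · rw [if_neg hd, neg_zero] at e
      exact absurd e (hnz r s q (h ▸ List.mem_cons_self ..))

/-! ### The formula over a `ℚ`-algebra -/

section Formula

variable {K : Type*} [CommRing K] [Algebra ℚ K]

/-- Conjugating `x_s(u)` by `x_r(t)` when the chain commutes. -/
theorem Good.conj_chain (hD : Good D) (r s : Root D) (hne : s ≠ r.rev)
    (hcomm : ((s : ℕ) :: (D.chainEntry r s).map Prod.fst).Pairwise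
      fun a b => b ≠ opp D a ∧ D.chainEntry a b = [] ∧ D.chainEntry b a = []) (t u : K) :
    X hD r t * X hD s u = X hD s u *
      (((D.chainEntry r s).zipIdx).map fun q =>
        if h : q.1.1 < D.nroots then X hD ⟨q.1.1, h⟩ (u * (t ^ (q.2 + 1) * (q.1.2 : K))) else 1).prod *
      X hD r t := by
  let f : (ℕ × ℤ) × ℕ → Option (Root D × K) := fun q =>
    if h : q.1.1 < D.nroots then some (⟨q.1.1, h⟩, t ^ (q.2 + 1) * (q.1.2 : K)) else none
  have hlt : ∀ q ∈ (D.chainEntry r s).zipIdx, q.1.1 < D.nroots := fun q hq =>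
    (hD.chainEntry_mem r.isLt (List.fst_mem_of_mem_zipIdx hq)).2.2.2.1
  have hf : ∀ q ∈ (D.chainEntry r s).zipIdx, ∃ h : q.1.1 < D.nroots,
      f q = some (⟨q.1.1, h⟩, t ^ (q.2 + 1) * (q.1.2 : K)) := fun q hq => ⟨hlt q hq, dif_pos _⟩
  let L : List (Root D × K) := (s, 1) :: ((D.chainEntry r s).zipIdx).filterMap f
  have key : ∀ M : List ((ℕ × ℤ) × ℕ), (∀ q ∈ M, q.1.1 < D.nroots) →
      ((M.filterMap f).map fun p => (Pi.single (Sum.inr p.1) p.2 : D.Idx → K)).sum =
        (M.map fun q => (fun a : D.Idx => Sum.elim (fun _ => (0 : K))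
          (fun v : Root D => if (v : ℕ) = q.1.1 then t ^ (q.2 + 1) * (q.1.2 : K) else 0) a)).sum ∧
      (M.filterMap f).map (fun p => ((p.1 : Root D) : ℕ)) = M.map (fun q => q.1.1) ∧
      (((M.filterMap f).map fun p => X hD p.1 (u * p.2)).prod =
        (M.map fun q => if h : q.1.1 < D.nroots then
          X hD ⟨q.1.1, h⟩ (u * (t ^ (q.2 + 1) * (q.1.2 : K))) else 1).prod) := by
    intro M
    induction M with
    | nil => simp
    | cons q M ih =>
      intro hM
      have hq := hM q (by simp)
      obtain ⟨i1, i2, i3⟩ := ih fun p hp => hM p (by simp [hp])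
      simp only [f, List.filterMap_cons, dif_pos hq, List.map_cons, List.sum_cons, List.prod_cons]
      refine ⟨?_, ?_, ?_⟩
      · rw [i1]
        congr 1
        funext a
        rcases a with i | v
        · simp
        · simp [Pi.single_apply, Fin.ext_iff]
      · rw [i2]
      · rw [i3]
  obtain ⟨k1, k2, k3⟩ := key _ hlt
  have hv : (xR D K r t).mulVec (Pi.single (Sum.inr s) 1) =
      (L.map fun p => Pi.single (Sum.inr p.1) p.2).sum := by
    rw [hD.xR_col r s hne, List.map_cons, List.sum_cons, k1]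
  have hL : (L.map fun p => E D p.1 1).Pairwise Commute := by
    have h2 : (L.map fun p => ((p.1 : Root D) : ℕ)) = (s : ℕ) :: (D.chainEntry r s).map Prod.fst := by
      rw [List.map_cons, k2]
      congr 1
      rw [show (fun q : (ℕ × ℤ) × ℕ => q.1.1) = Prod.fst ∘ Prod.fst from rfl, ← List.map_map,
        List.zipIdx_map_fst]
    rw [← h2, List.pairwise_map] at hcomm
    rw [List.pairwise_map]
    refine hcomm.imp fun {p q} h => hD.commute_of_chainEntry_nil (fun e => h.1 ?_) h.2.1
    rw [e, opp, Fin.val_rev]; omega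
  have main := mul_xR_of_list hD (hD.isAut_xR r t) s u L hv hL
  apply Units.ext
  rw [Units.val_mul, coe_X, coe_X, main]
  have hp : ∀ M : List (Root D × K), (M.map fun p => xR D K p.1 (u * p.2)).prod =
      ((M.map fun p => X hD p.1 (u * p.2)).prod : GL D.Idx K) := by
    intro M; induction M <;> simp_all
  rw [hp, ← coe_X hD r t, ← Units.val_mul, ← k3]
  simp [L, mul_assoc]

/-- The product of a word. -/
def wordGL (hD : Good D) {R : Type*} [CommRing R] (w : List (ℕ × R)) : GL D.Idx R :=
  (w.map fun p => if h : p.1 < D.nroots then X hD ⟨p.1, h⟩ p.2 else 1).prod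

/-- The right-hand side of the formula. -/
def commRhs (hD : Good D) {R : Type*} [CommRing R] (r s : ℕ) (t u : R) : GL D.Idx R :=
  wordGL hD ((D.commTerms r s).map fun c => (c.1, (c.2.1 : R) * (-t) ^ c.2.2.1 * u ^ c.2.2.2))

theorem comm_of_left (hC : GoodComm D) (r s : Root D) (hne : s ≠ r.rev)
    (hnz : ∀ (a b : Root D), ∀ q ∈ D.chainEntry a b, q.2 ≠ 0)
    (hc : ((s : ℕ) :: (D.chainEntry r s).map Prod.fst).Pairwise
      fun a b => b ≠ opp D a ∧ D.chainEntry a b = [] ∧ D.chainEntry b a = []) (t u : K) :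
    X hC.good s u * X hC.good r t = X hC.good r t * X hC.good s u * commRhs hC.good r s t u := by
  have hD := hC.good
  have hne' : r ≠ s.rev := fun e => hne (by rw [e, Fin.rev_rev])
  rw [List.pairwise_cons] at hc
  have hs1 : (D.chainEntry s r).length ≤ 1 := by
    rcases hds : D.chainEntry s r with _ | ⟨d, _ | ⟨d', ds⟩⟩ <;> simp
    obtain ⟨cs, hcs⟩ := hD.chainEntry_head hnz hne' hds
    have h1 : D.chainEntry s d.1 = [] := (hc.1 d.1 (by simp [hcs])).2.1
    have hd1 : d.1 < D.nroots := (hD.chainEntry_mem s.isLt (hds ▸ List.mem_cons_self ..)).2.2.2.1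
    have hd2 : d'.1 < D.nroots := (hD.chainEntry_mem s.isLt
      (q := d') (hds ▸ List.mem_cons_of_mem _ (List.mem_cons_self ..))).2.2.2.1
    have key := congrFun (congrFun (hD.powers' s).1 (Sum.inr ⟨d'.1, hd2⟩)) (Sum.inr r)
    rw [Matrix.mul_apply, Fintype.sum_sum_type] at key
    have z1 : ∀ x, E D s 1 (Sum.inl x) (Sum.inr r) = 0 := by
      intro x; rw [E_apply_one hD]; simp [hne']
    have z2 : ∀ x : Root D, E D s 1 (Sum.inr ⟨d'.1, hd2⟩) (Sum.inr x) * E D s 1 (Sum.inr x) (Sum.inr r) = 0 := by
      intro x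
      simp only [E_apply_one hD, chainVal, hds, List.getElem?_cons_zero]
      by_cases hx : d.1 = x
      · simp [← hx, h1]
      · simp [hx]
    simp only [z1, z2, mul_zero, Finset.sum_const_zero, add_zero, Matrix.smul_apply,
      E_apply_two hD, chainVal, hds, List.getElem?_cons_succ, List.getElem?_cons_zero,
      hne', and_false, if_false, zero_add, if_true, smul_eq_mul] at key
    exact absurd key (by
      have := hnz s r d' (hds ▸ List.mem_cons_of_mem _ (List.mem_cons_self ..)); omega)
  have hlast : ∀ q ∈ D.chainEntry r s, D.chainEntry q.1 s = [] := fun q hq =>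
    (hc.1 q.1 (List.mem_map.2 ⟨q, hq, rfl⟩)).2.2
  have hterms := commTerms_left hD rfl hs1 hlast
  have := hD.conj_chain r s hne (List.pairwise_cons.2 hc) (-t) u
  rw [commRhs, wordGL, hterms, List.map_map, List.map_map, Function.comp_assoc]
  have hprod : ((D.chainEntry r s).zipIdx.map fun q =>
      if h : q.1.1 < D.nroots then X hD ⟨q.1.1, h⟩ (u * ((-t) ^ (q.2 + 1) * (q.1.2 : K))) else 1) =
      (D.chainEntry r s).zipIdx.map
        ((fun p : ℕ × K => if h : p.1 < D.nroots then X hD ⟨p.1, h⟩ p.2 else 1) ∘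
          (fun c : ℕ × ℤ × ℕ × ℕ => (c.1, (c.2.1 : K) * (-t) ^ c.2.2.1 * u ^ c.2.2.2)) ∘
          fun q => (q.1.1, q.1.2, q.2 + 1, 1)) := by
    apply List.map_congr_left
    intro q _
    simp only [Function.comp_apply, pow_one]
    split_ifs <;> first | rfl | (congr 1; ring)
  rw [hprod, ← X_inv] at this
  calc X hD s u * X hD r t = X hD r t * ((X hD r t)⁻¹ * X hD s u) * X hD r t := by group
    _ = _ := by rw [this]; group

theorem comm_of_right (hC : GoodComm D) (r s : Root D) (hne : s ≠ r.rev)
    (hnz : ∀ (a b : Root D), ∀ q ∈ D.chainEntry a b, q.2 ≠ 0)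
    (hds0 : D.chainEntry s r ≠ [])
    (hc : ((r : ℕ) :: (D.chainEntry s r).map Prod.fst).Pairwise
      fun a b => b ≠ opp D a ∧ D.chainEntry a b = [] ∧ D.chainEntry b a = []) (t u : K) :
    X hC.good s u * X hC.good r t = X hC.good r t * X hC.good s u * commRhs hC.good r s t u := by
  have hD := hC.good
  have hne' : r ≠ s.rev := fun e => hne (by rw [e, Fin.rev_rev])
  rw [List.pairwise_cons] at hc
  obtain ⟨d, ds, hds⟩ : ∃ d ds, D.chainEntry s r = d :: ds := by
    cases h : D.chainEntry s r with
    | nil => exact absurd h hds0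
    | cons d ds => exact ⟨d, ds, rfl⟩
  obtain ⟨cs, hcs⟩ := hD.chainEntry_head hnz hne' hds
  have hcs1 : cs = [] := by
    rcases cs with _ | ⟨a', cs⟩
    · rfl
    exfalso
    have h1 : D.chainEntry r d.1 = [] := (hc.1 d.1 (by simp [hds])).2.1
    have hd1 : d.1 < D.nroots := (hD.chainEntry_mem s.isLt (hds ▸ List.mem_cons_self ..)).2.2.2.1
    have hd2 : a'.1 < D.nroots := (hD.chainEntry_mem r.isLt
      (q := a') (hcs ▸ List.mem_cons_of_mem _ (List.mem_cons_self ..))).2.2.2.1
    have key := congrFun (congrFun (hD.powers' r).1 (Sum.inr ⟨a'.1, hd2⟩)) (Sum.inr s)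
    rw [Matrix.mul_apply, Fintype.sum_sum_type] at key
    have z1 : ∀ x, E D r 1 (Sum.inl x) (Sum.inr s) = 0 := by
      intro x; rw [E_apply_one hD]; simp [hne]
    have z2 : ∀ x : Root D, E D r 1 (Sum.inr ⟨a'.1, hd2⟩) (Sum.inr x) * E D r 1 (Sum.inr x) (Sum.inr s) = 0 := by
      intro x
      simp only [E_apply_one hD, chainVal, hcs, List.getElem?_cons_zero]
      by_cases hx : d.1 = x
      · simp [← hx, h1]
      · simp [hx]
    simp only [z1, z2, mul_zero, Finset.sum_const_zero, add_zero, Matrix.smul_apply,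
      E_apply_two hD, chainVal, hcs, List.getElem?_cons_succ, List.getElem?_cons_zero,
      hne, and_false, if_false, zero_add, if_true, smul_eq_mul] at key
    have := hnz r s a' (hcs ▸ List.mem_cons_of_mem _ (List.mem_cons_self ..))
    omega
  subst hcs1
  have hlast : ∀ q ∈ d :: ds, D.chainEntry q.1 r = [] := fun q hq =>
    (hc.1 q.1 (List.mem_map.2 ⟨q, hds ▸ hq, rfl⟩)).2.2
  have hterms := commTerms_right hD hcs hds hlast rfl rfl
  -- the product commutes with `x_r`
  have hcomm : ∀ q ∈ (d :: ds), ∀ h : q.1 < D.nroots, ∀ a b : K,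
      Commute (X hD ⟨q.1, h⟩ a) (X hD r b) := by
    intro q hq h a b
    obtain ⟨o1, o2, o3⟩ := hc.1 q.1 (List.mem_map.2 ⟨q, hds ▸ hq, rfl⟩)
    have hneq : r ≠ (⟨q.1, h⟩ : Root D).rev := fun e => o1 (by
      have e2 := congrArg Fin.val e
      rw [Fin.val_rev] at e2
      simp at e2
      rw [opp]; omega)
    have hE : Commute ((a • (E D ⟨q.1, h⟩ 1).map (Int.cast : ℤ → K)))
        (b • (E D r 1).map (Int.cast : ℤ → K)) :=
      Commute.smul_left (Commute.smul_right
        ((hD.commute_of_chainEntry_nil (r := ⟨q.1, h⟩) (s := r) hneq o3).map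
          (Int.castRingHom K).mapMatrix) _) _
    refine Units.ext ?_
    show xR D K ⟨q.1, h⟩ a * xR D K r b = xR D K r b * xR D K ⟨q.1, h⟩ a
    rw [← exp_smul_E hD, ← exp_smul_E hD]
    exact mul_exp_of_semiconj
      (mul_exp_of_semiconj hE.symm ⟨4, smul_E_pow_four hD _ _⟩ ⟨4, smul_E_pow_four hD _ _⟩).symm
      ⟨4, smul_E_pow_four hD _ _⟩ ⟨4, smul_E_pow_four hD _ _⟩
  have := hD.conj_chain s r hne' (List.pairwise_cons.2 hc) (-u) (-t)
  rw [hds] at this
  rw [commRhs, wordGL, hterms, List.map_map, List.map_map, Function.comp_assoc]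
  have hprod : ((d :: ds).zipIdx.map fun q =>
      if h : q.1.1 < D.nroots then X hD ⟨q.1.1, h⟩ (-t * ((-u) ^ (q.2 + 1) * (q.1.2 : K))) else 1) =
      (d :: ds).zipIdx.map
        ((fun p : ℕ × K => if h : p.1 < D.nroots then X hD ⟨p.1, h⟩ p.2 else 1) ∘
          (fun c : ℕ × ℤ × ℕ × ℕ => (c.1, (c.2.1 : K) * (-t) ^ c.2.2.1 * u ^ c.2.2.2)) ∘
          fun q => (q.1.1, (-1) ^ (q.2 + 1) * q.1.2, 1, q.2 + 1)) := by
    apply List.map_congr_left
    intro q _
    simp only [Function.comp_apply, pow_one, Int.cast_mul, Int.cast_pow, Int.cast_neg, Int.cast_one]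
    split_ifs <;> first | rfl | (congr 1; rw [neg_pow u]; ring)
  rw [hprod, ← X_inv hD s u, ← X_inv hD r t] at this
  set P := ((d :: ds).zipIdx.map
        ((fun p : ℕ × K => if h : p.1 < D.nroots then X hD ⟨p.1, h⟩ p.2 else 1) ∘
          (fun c : ℕ × ℤ × ℕ × ℕ => (c.1, (c.2.1 : K) * (-t) ^ c.2.2.1 * u ^ c.2.2.2)) ∘
          fun q => (q.1.1, (-1) ^ (q.2 + 1) * q.1.2, 1, q.2 + 1))).prod with hP
  have hPc : Commute (X hD r t) P := by
    refine Commute.list_prod_right _ _ fun x hx => ?_
    obtain ⟨q, hq, rfl⟩ := List.mem_map.1 hx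
    simp only [Function.comp_apply]
    split_ifs with h
    · exact (hcomm q.1 (List.fst_mem_of_mem_zipIdx hq) h _ t).symm
    · exact Commute.one_right _
  have hW : (X hD s u)⁻¹ * (X hD r t)⁻¹ * X hD s u * X hD r t = P := by
    rw [this]
    calc (X hD r t)⁻¹ * P * (X hD s u)⁻¹ * X hD s u * X hD r t
        = (X hD r t)⁻¹ * (P * X hD r t) := by group
      _ = P := by rw [← hPc.eq]; group
  rw [← hW]
  group

end Formula

/-! ### Evaluation at `(1, 1)` decides a homogeneous identity -/

section Homogeneous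

open MvPolynomial

variable (D)

/-- Every monomial in the entry `(a, b)` has the bidegree prescribed by the weights. -/
def HomogMat (r s : Root D) (M : Matrix D.Idx D.Idx (MvPolynomial (Fin 2) ℤ)) : Prop :=
  ∀ a b, ∀ d ∈ (M a b).support, ∀ i : Fin D.rank,
    wt D i a = wt D i b + d 0 * D.cartan i r + d 1 * D.cartan i s

variable {D}

theorem HomogMat.one (r s : Root D) :
    HomogMat D r s (1 : Matrix D.Idx D.Idx (MvPolynomial (Fin 2) ℤ)) := by
  intro a b d hd i
  rw [Matrix.one_apply] at hd
  split_ifs at hd with h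
  · subst h
    rw [MvPolynomial.mem_support_iff, MvPolynomial.coeff_one] at hd
    obtain rfl : d = 0 := by by_contra h; exact hd (if_neg (Ne.symm h))
    simp
  · simp at hd

theorem HomogMat.mul {r s : Root D} {M N : Matrix D.Idx D.Idx (MvPolynomial (Fin 2) ℤ)}
    (hM : HomogMat D r s M) (hN : HomogMat D r s N) : HomogMat D r s (M * N) := by
  intro a b d hd i
  rw [Matrix.mul_apply] at hd
  obtain ⟨c, -, hc⟩ := Finset.mem_biUnion.1 (MvPolynomial.support_sum hd)
  obtain ⟨d1, h1, d2, h2, rfl⟩ := Finset.mem_add.1 (MvPolynomial.support_mul _ _ hc)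
  rw [hM a c d1 h1 i, hN c b d2 h2 i]
  simp only [Finsupp.coe_add, Pi.add_apply, Nat.cast_add]
  ring

theorem HomogMat.xR (hD : Good D) {r s w : Root D} (C : ℤ) (e : Fin 2 →₀ ℕ)
    (he : ∀ i : Fin D.rank, D.cartan i w = e 0 * D.cartan i r + e 1 * D.cartan i s) :
    HomogMat D r s (xR D (MvPolynomial (Fin 2) ℤ) w (monomial e C)) := by
  intro a b d hd i
  simp only [CfsgLib.Chevalley.xR, Matrix.sum_apply, Matrix.smul_apply, Matrix.map_apply,
    smul_eq_mul] at hd
  obtain ⟨k, -, hk⟩ := Finset.mem_biUnion.1 (MvPolynomial.support_sum hd)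
  rw [monomial_pow, mul_comm, ← map_intCast (MvPolynomial.C : ℤ →+* MvPolynomial (Fin 2) ℤ),
    MvPolynomial.C_mul_monomial,
    MvPolynomial.mem_support_iff, MvPolynomial.coeff_monomial] at hk
  split_ifs at hk with hek
  swap; · exact absurd rfl hk
  subst hek
  have hE : E D w k a b ≠ 0 := fun h0 => hk (by simp [h0])
  rw [hD.wt_of_E_ne_zero w k i hE, he i]
  simp
  ring

theorem HomogMat.eq_of_eval {r s : Root D} {i j : Fin D.rank}
    (hind : D.cartan i r * D.cartan j s ≠ D.cartan j r * D.cartan i s)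
    {M N : Matrix D.Idx D.Idx (MvPolynomial (Fin 2) ℤ)}
    (hM : HomogMat D r s M) (hN : HomogMat D r s N)
    (h : M.map (MvPolynomial.eval fun _ => (1 : ℤ)) = N.map (MvPolynomial.eval fun _ => (1 : ℤ))) :
    M = N := by
  refine Matrix.ext fun a b => ?_
  have hs : ∀ d ∈ (M a b).support ∪ (N a b).support, ∀ k : Fin D.rank,
      wt D k a = wt D k b + d 0 * D.cartan k r + d 1 * D.cartan k s := by
    intro d hd
    rcases Finset.mem_union.1 hd with h | h
    exacts [hM a b d h, hN a b d h]
  have huniq : ∀ d ∈ (M a b).support ∪ (N a b).support, ∀ d' ∈ (M a b).support ∪ (N a b).support,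
      d = d' := by
    intro d hd d' hd'
    have h1 := hs d hd i
    have h2 := hs d hd j
    have h3 := hs d' hd' i
    have h4 := hs d' hd' j
    have e0 : ((d 0 : ℤ) - d' 0) * (D.cartan i r * D.cartan j s - D.cartan j r * D.cartan i s) = 0 := by
      linear_combination (D.cartan j s) * (h3 - h1) - (D.cartan i s) * (h4 - h2)
    have e1 : ((d 1 : ℤ) - d' 1) * (D.cartan i r * D.cartan j s - D.cartan j r * D.cartan i s) = 0 := by
      linear_combination (D.cartan i r) * (h4 - h2) - (D.cartan j r) * (h3 - h1)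
    ext k
    fin_cases k
    · have := (mul_eq_zero.1 e0).resolve_right (sub_ne_zero.2 hind)
      simp; omega
    · have := (mul_eq_zero.1 e1).resolve_right (sub_ne_zero.2 hind)
      simp; omega
  have heval := congrFun (congrFun h a) b
  simp only [Matrix.map_apply, MvPolynomial.eval_eq] at heval
  simp only [one_pow, Finset.prod_const_one, mul_one] at heval
  rw [Finset.sum_subset (Finset.subset_union_left (s₂ := (N a b).support))
      (fun d _ hd => MvPolynomial.notMem_support_iff.1 hd),
    Finset.sum_subset (Finset.subset_union_right (s₁ := (M a b).support) (s₂ := (N a b).support))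
      (fun d _ hd => MvPolynomial.notMem_support_iff.1 hd)] at heval
  apply MvPolynomial.ext
  intro d
  by_cases hd : d ∈ (M a b).support ∪ (N a b).support
  · rwa [Finset.sum_eq_single d (fun d' hd' hne => absurd (huniq d' hd' d hd) hne)
        (fun h => absurd hd h),
      Finset.sum_eq_single d (fun d' hd' hne => absurd (huniq d' hd' d hd) hne)
        (fun h => absurd hd h)] at heval
  · rw [Finset.mem_union, not_or, MvPolynomial.notMem_support_iff, MvPolynomial.notMem_support_iff] at hd
    rw [hd.1, hd.2]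

end Homogeneous

theorem Good.toMat_one (D : ChevalleyDatum) :
    SMat.toMat D.rank D.nroots (oneSMat D) = 1 := by
  ext a b
  rw [SMat.toMat_apply, oneSMat, SMat.den_ofEntries, ← entVal]
  have : entVal ((List.range (D.rank + D.nroots)).map fun c => (c, c, (1 : ℤ)))
      (finSumFinEquiv a : ℕ) (finSumFinEquiv b : ℕ) =
      ((List.range (D.rank + D.nroots)).map fun c => if c = (finSumFinEquiv a : ℕ) then
        (if c = (finSumFinEquiv b : ℕ) then (1 : ℤ) else 0) else 0).sum := by
    rw [← List.flatMap_pure_eq_map, entVal_flatMap]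
    simp [entVal_cons, entVal_nil, ite_and]
  rw [this, sum_range_ite (finSumFinEquiv a).isLt, Matrix.one_apply]
  simp [Fin.val_eq_val]

theorem wordSMat_spec (hD : Good D) :
    ∀ w : List (ℕ × ℤ), (wordSMat D w).2 = true →
      SMat.toMat D.rank D.nroots (wordSMat D w).1 = (wordGL hD w : GL D.Idx ℤ) := by
  intro w
  induction w with
  | nil => intro _; simpa [wordSMat, wordGL] using Good.toMat_one D
  | cons p w ih =>
    intro h
    simp only [wordSMat, Bool.and_eq_true, decide_eq_true_eq] at h
    obtain ⟨⟨h1, h2⟩, h3⟩ := h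
    rw [wordSMat, SMat.toMat_norm, SMat.toMat_mul h2, ih h3]
    simp only [wordGL, List.map_cons, List.prod_cons, dif_pos h1, Units.val_mul, coe_X]
    congr 1
    simp only [xSMat, SMat.toMat_add, SMat.toMat_smul, Good.toMat_one, xR, Finset.sum_range_succ,
      Finset.sum_range_zero, zero_add, E_zero, ← E_pos (⟨p.1, h1⟩ : Root D) (show (1:ℕ) ≠ 0 by omega),
      ← E_pos (⟨p.1, h1⟩ : Root D) (show (2:ℕ) ≠ 0 by omega),
      ← E_pos (⟨p.1, h1⟩ : Root D) (show (3:ℕ) ≠ 0 by omega)]
    ext a b
    simp only [Matrix.add_apply, Matrix.smul_apply, Matrix.map_apply, smul_eq_mul, Int.cast_id,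
      pow_zero, one_mul, pow_one]
    ring

theorem wordGL_map (hD : Good D) {R S : Type*} [CommRing R] [CommRing S] (f : R →+* S)
    (w : List (ℕ × R)) :
    Matrix.GeneralLinearGroup.map f (wordGL hD w) = wordGL hD (w.map fun p => (p.1, f p.2)) := by
  rw [wordGL, wordGL, map_list_prod, List.map_map, List.map_map]
  congr 1
  apply List.map_congr_left
  intro p _
  simp only [Function.comp_apply]
  split_ifs
  · rw [X_map]
  · rw [map_one]

theorem wordGL_cons (hD : Good D) {R : Type*} [CommRing R] (r : Root D) (t : R) (w : List (ℕ × R)) :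
    wordGL hD (((r : ℕ), t) :: w) = X hD r t * wordGL hD w := by
  simp [wordGL]

theorem map_injective_GL {R S : Type*} [CommRing R] [CommRing S] {f : R →+* S}
    (hf : Function.Injective f) {n : Type*} [Fintype n] [DecidableEq n] :
    Function.Injective (Matrix.GeneralLinearGroup.map (n := n) f) := by
  intro g h e
  refine Units.ext (Matrix.ext fun a b => hf ?_)
  exact congrArg (fun x : GL n S => (x : Matrix n n S) a b) e

theorem coe_map_GL {R S : Type*} [CommRing R] [CommRing S] (f : R →+* S) {n : Type*} [Fintype n]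
    [DecidableEq n] (g : GL n R) :
    (Matrix.GeneralLinearGroup.map f g : Matrix n n S) = (g : Matrix n n R).map f := rfl

section Main

open MvPolynomial

theorem commRhs_map (hD : Good D) {R S : Type*} [CommRing R] [CommRing S] (f : R →+* S)
    (r s : ℕ) (t u : R) :
    Matrix.GeneralLinearGroup.map f (commRhs hD r s t u) = commRhs hD r s (f t) (f u) := by
  rw [commRhs, wordGL_map, commRhs, List.map_map]
  congr 1
  apply List.map_congr_left
  intro c _
  simp

/-- The formula in the universal case. -/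
theorem comm_universal (hC : GoodComm D) (r s : Root D) (hsr : s ≠ r) (hne : s ≠ r.rev) :
    X hC.good s (MvPolynomial.X 1 : MvPolynomial (Fin 2) ℤ) * X hC.good r (MvPolynomial.X 0) =
      X hC.good r (MvPolynomial.X 0) * X hC.good s (MvPolynomial.X 1) *
        commRhs hC.good r s (MvPolynomial.X 0) (MvPolynomial.X 1) := by
  have hD := hC.good
  have hne' : r ≠ s.rev := fun e => hne (by rw [e, Fin.rev_rev])
  have hchk := hC.comm
  simp only [chkComm, List.all_eq_true, List.mem_range] at hchk
  have hnz : ∀ (a b : Root D), ∀ q ∈ D.chainEntry a b, q.2 ≠ 0 := by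
    intro a b q hq
    rw [← entryT_eq, entryT] at hq
    cases hf : List.find? (fun e => e.1 == (b : ℕ)) ((chainTrie D).get a) with
    | none => simp [hf] at hq
    | some e =>
      rw [hf] at hq
      have := hchk a a.isLt e (List.mem_of_find?_eq_some hf)
      simp only [Bool.and_eq_true, List.all_eq_true, bne_iff_ne] at this
      exact this.1 q hq
  let ι : MvPolynomial (Fin 2) ℤ →+* MvPolynomial (Fin 2) ℚ := MvPolynomial.map (Int.castRingHom ℚ)
  have hι : Function.Injective ι := MvPolynomial.map_injective _ Int.cast_injective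
  have lift : (∀ t u : MvPolynomial (Fin 2) ℚ,
      X hD s u * X hD r t = X hD r t * X hD s u * commRhs hD r s t u) →
      X hC.good s (MvPolynomial.X 1 : MvPolynomial (Fin 2) ℤ) * X hC.good r (MvPolynomial.X 0) =
      X hC.good r (MvPolynomial.X 0) * X hC.good s (MvPolynomial.X 1) *
        commRhs hC.good r s (MvPolynomial.X 0) (MvPolynomial.X 1) := by
    intro h
    apply map_injective_GL hι
    simp only [map_mul, X_map, commRhs_map]
    exact h _ _
  cases hcs : D.chainEntry r s with
  | nil =>
    refine lift fun t u => comm_of_left hC r s hne hnz ?_ t u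
    rw [hcs]
    simp
  | cons q cs =>
    have hmem : ((s : ℕ), D.chainEntry r s) ∈ (chainTrie D).get r := by
      have h := hcs
      rw [← entryT_eq, entryT] at h
      cases hf : List.find? (fun e => e.1 == (s : ℕ)) ((chainTrie D).get r) with
      | none => simp [hf] at h
      | some e =>
        have e1 : e.1 = s := by simpa using List.find?_some hf
        rw [← entryT_eq, entryT, hf, ← e1]
        exact List.mem_of_find?_eq_some hf
    have := hchk r r.isLt _ hmem
    simp only [Bool.and_eq_true, Bool.cond_eq_ite, apply_ite (· = true), if_true_left] at this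
    obtain ⟨-, hthis⟩ := this
    by_cases h1 : commList D (maskTrie D) ((s : ℕ) :: (D.chainEntry r s).map Prod.fst) = true
    · refine lift fun t u => comm_of_left hC r s hne hnz (hD.commList_spec ?_ h1) t u
      intro a ha
      rcases List.mem_cons.1 ha with rfl | ha
      · exact s.isLt
      · obtain ⟨p, hp, rfl⟩ := List.mem_map.1 ha
        exact (hD.chainEntry_mem r.isLt hp).2.2.2.1
    have hthis := hthis h1
    simp only [entryT_eq] at hthis
    by_cases h2 : (!(D.chainEntry s r).isEmpty &&
        commList D (maskTrie D) ((r : ℕ) :: (D.chainEntry s r).map Prod.fst)) = true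
    · simp only [Bool.and_eq_true, Bool.not_eq_true', List.isEmpty_eq_false_iff] at h2
      refine lift fun t u => comm_of_right hC r s hne hnz h2.1 (hD.commList_spec ?_ h2.2) t u
      intro a ha
      rcases List.mem_cons.1 ha with rfl | ha
      · exact r.isLt
      · obtain ⟨p, hp, rfl⟩ := List.mem_map.1 ha
        exact (hD.chainEntry_mem s.isLt hp).2.2.2.1
    have hev := hthis (fun hh => h2 (by rw [Bool.and_eq_true]; exact hh))
    simp only [evalComm, Bool.and_eq_true, List.all_eq_true, beq_iff_eq, List.any_eq_true,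
      List.mem_range, bne_iff_ne] at hev
    obtain ⟨⟨⟨⟨e1, e2⟩, e3⟩, e4⟩, i, hi, j, hj, hind⟩ := hev
    rw [hD.cartanT_eq hi r.isLt, hD.cartanT_eq hj s.isLt, hD.cartanT_eq hj r.isLt,
      hD.cartanT_eq hi s.isLt] at hind
    have heq := SMat.toMat_eq_of_eqB D.rank D.nroots e3
    rw [wordSMat_spec hD _ e1, wordSMat_spec hD _ e2] at heq
    have hev' := (Units.ext heq : wordGL hD _ = wordGL hD _)
    have hhom : ∀ (w : Root D) (C : ℤ) (e : Fin 2 →₀ ℕ),
        (∀ k : Fin D.rank, D.cartan k w = e 0 * D.cartan k r + e 1 * D.cartan k s) →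
        HomogMat D r s (X hD w (monomial e C) : GL D.Idx (MvPolynomial (Fin 2) ℤ)) :=
      fun w C e he => HomogMat.xR hD C e he
    have hXs : HomogMat D r s (X hD s (MvPolynomial.X 1 : MvPolynomial (Fin 2) ℤ) : GL D.Idx _) :=
      hhom s 1 (Finsupp.single 1 1) (fun k => by simp)
    have hXr : HomogMat D r s (X hD r (MvPolynomial.X 0 : MvPolynomial (Fin 2) ℤ) : GL D.Idx _) :=
      hhom r 1 (Finsupp.single 0 1) (fun k => by simp)
    apply Units.ext
    refine HomogMat.eq_of_eval (i := ⟨i, hi⟩) (j := ⟨j, hj⟩) hind (hXs.mul hXr) ?_ ?_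
    · refine (hXr.mul hXs).mul ?_
      rw [commRhs, wordGL, List.map_map]
      have hT : ∀ c ∈ D.commTerms r s, ∀ h : c.1 < D.nroots, ∀ k : Fin D.rank,
          D.cartan k c.1 = (c.2.2.1 : ℤ) * D.cartan k r + (c.2.2.2 : ℤ) * D.cartan k s := by
        intro c hc h k
        have := congrArg (fun L : List ℤ => L.getD k 0) (e4 c hc)
        simpa [hD.wtTrie_get h, hD.wtTrie_get r.isLt, hD.wtTrie_get s.isLt,
          List.getD_eq_getElem?_getD, List.getElem?_zipWith'] using this
      generalize D.commTerms r s = T at hT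
      induction T with
      | nil => exact HomogMat.one r s
      | cons c T ih =>
        rw [List.map_cons, List.prod_cons, Units.val_mul]
        refine HomogMat.mul ?_ (ih fun c' hc' => hT c' (by simp [hc']))
        simp only [Function.comp_apply]
        split_ifs with h
        · have : ((c.2.1 : ℤ) : MvPolynomial (Fin 2) ℤ) * (-MvPolynomial.X 0) ^ c.2.2.1 *
              MvPolynomial.X 1 ^ c.2.2.2 =
              monomial (Finsupp.single 0 c.2.2.1 + Finsupp.single 1 c.2.2.2)
                (c.2.1 * (-1) ^ c.2.2.1) := by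
            rw [neg_pow, ← map_intCast (C : ℤ →+* MvPolynomial (Fin 2) ℤ), Int.cast_id,
              MvPolynomial.X_pow_eq_monomial, MvPolynomial.X_pow_eq_monomial,
              show ((-1 : MvPolynomial (Fin 2) ℤ)) ^ c.2.2.1 = C ((-1 : ℤ) ^ c.2.2.1) by simp,
              ← mul_assoc, ← map_mul, MvPolynomial.C_mul_monomial, MvPolynomial.monomial_mul]
            simp
          rw [this]
          exact hhom _ _ _ fun k => by simpa using hT c (by simp) h k
        · exact HomogMat.one r s
    · rw [← coe_map_GL, ← coe_map_GL]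
      refine congrArg (fun g : GL D.Idx ℤ => (g : Matrix D.Idx D.Idx ℤ)) ?_
      rw [map_mul, map_mul, map_mul, X_map, X_map, commRhs_map, MvPolynomial.eval_X,
        MvPolynomial.eval_X]
      rw [wordGL_cons, wordGL_cons, wordGL_cons, wordGL_cons] at hev'
      rw [commRhs]
      simpa [wordGL, mul_assoc, List.map_map, Function.comp_def] using hev'

/-- Chevalley's commutator formula over every commutative ring. -/
theorem X_comm (hC : GoodComm D) {R : Type*} [CommRing R] (r s : Root D) (hsr : s ≠ r)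
    (hne : s ≠ r.rev) (t u : R) :
    X hC.good s u * X hC.good r t = X hC.good r t * X hC.good s u * commRhs hC.good r s t u := by
  let f : MvPolynomial (Fin 2) ℤ →+* R := MvPolynomial.eval₂Hom (Int.castRingHom R) ![t, u]
  have h0 : f (MvPolynomial.X 0) = t := by simp [f]
  have h1 : f (MvPolynomial.X 1) = u := by simp [f]
  have h := congrArg (Matrix.GeneralLinearGroup.map f) (comm_universal hC r s hsr hne)
  simp only [map_mul, X_map, commRhs_map] at h
  rwa [h0, h1] at h

end Main

theorem coe_wordGL (hD : Good D) {F : Type*} [Field F] (w : List (ℕ × F)) :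
    ((wordGL hD w : GL D.Idx F) : Matrix D.Idx D.Idx F) = D.wordMat F w := by
  induction w with
  | nil => simp [wordGL, ChevalleyDatum.wordMat]
  | cons p w ih =>
    simp only [wordGL, ChevalleyDatum.wordMat, List.map_cons, List.prod_cons, Units.val_mul] at ih ⊢
    rw [ih]
    congr 1
    split_ifs with h
    · exact (x_eq_xR hD F ⟨p.1, h⟩ p.2).symm
    · rw [ChevalleyDatum.x, dif_neg h]; rfl

end CfsgLib.Chevalley
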