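import Cfsg.Agent.Chevalley.CommChecks
/-!
The finite checks on reflections in fundamental roots and on the matrices `n_p`.
-/

set_option autoImplicit false

namespace CfsgLib.Chevalley

open Cfsg.Lie

variable (D : ChevalleyDatum)

/-- The reflection of `s` in the `i`-th fundamental root, read off the tries. -/
def reflT (i s : ℕ) : ℕ :=
  let p := D.simple i
  let A := cartanT D i s
  bif s == p then opp D p
  else bif s == opp D p then p
  else bif decide (0 < A) then (((entryT D (opp D p) s)[A.toNat - 1]?).map Prod.fst).getD s
  else bif decide (A < 0) then (((entryT D p s)[(-A).toNat - 1]?).map Prod.fst).getD s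
  else s

/-- The product `x_p(1) x_{-p}(-1) x_p(1)`. -/
def nProd (i : ℕ) : SMat × Bool :=
  let p := D.simple i
  wordSMat D [(p, 1), (opp D p, -1), (p, 1)]

/-- The sign of `n_p` on `e_s`, read off its matrix. -/
def etaT (i s : ℕ) : ℤ := SMat.den (nProd D i).1 (D.rank + reflT D i s) (D.rank + s)

/-- `n_p` is the expected signed monomial matrix, and its signs obey the rules. -/
def chkRefl (i : ℕ) : Bool :=
  let p := D.simple i
  let N := nProd D i
  N.2 &&
  SMat.eqB N.1
    (SMat.ofEntries
      (((List.range D.rank).flatMap fun j => [(j, j, (1 : ℤ)), (i, j, -cartanT D j p)]) ++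
        ((List.range D.nroots).map fun s => (D.rank + reflT D i s, D.rank + s, etaT D i s)))) &&
  (etaT D i p == -1) && (etaT D i (opp D p) == -1) &&
  ((List.range D.nroots).all fun s =>
    let w := reflT D i s
    let e := etaT D i s
    decide (w < D.nroots) && (reflT D i w == s) && (reflT D i (opp D s) == opp D w) &&
    ((e == 1) || (e == -1)) &&
    (e * etaT D i w == bif (cartanT D i s).natAbs % 2 == 0 then 1 else -1) &&
    (e * etaT D i (opp D s) == 1) &&
    (bif decide (half D ≤ s) && (s != p) then decide (half D ≤ w) && (w != p) else true) &&
    ((List.range D.rank).all fun j =>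
      (cartanT D j w == cartanT D j s - cartanT D i s * cartanT D j p) &&
      (coT D w j == coT D s j - bif i == j then
        ((List.range D.rank).map fun k => coT D s k * cartanT D k p).sum else 0)))

/-- The checks on all fundamental reflections. -/
def chkReflAll : Bool := (List.range D.rank).all (chkRefl D)

/-- Every positive root that is not fundamental is moved to a smaller index by some reflection. -/
def chkDescent : Bool :=
  (List.range D.nroots).all fun s =>
    bif decide (half D ≤ s) then
      ((List.range D.rank).any fun i => D.simple i == s) ||
        ((List.range D.rank).any fun i => decide (half D ≤ reflT D i s) && decide (reflT D i s < s))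
    else true

end CfsgLib.Chevalley
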