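import Cfsg.Agent.Chevalley.UnipotentMain
import Cfsg.Agent.Chevalley.WeylChecks
import Mathlib.GroupTheory.Perm.Basic
/-!
The elements `n_p` of the fundamental roots: their matrices, and their action on root elements.
-/

set_option autoImplicit false

namespace CfsgLib.Chevalley

open Cfsg.Lie
open scoped MatrixGroups

variable {D : ChevalleyDatum}

/-- A datum that passes all checks. -/
structure GoodWeyl (D : ChevalleyDatum) : Prop extends GoodUni D where
  reflAll : chkReflAll D = true
  descent : chkDescent D = true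

theorem entVal_map {α : Type} (f : α → ℕ × ℕ × ℤ) (L : List α) (a c : ℕ) :
    entVal (L.map f) a c =
      (L.map fun x => if (f x).1 = a ∧ (f x).2.1 = c then (f x).2.2 else 0).sum := by
  induction L with
  | nil => rfl
  | cons x L ih => simp [entVal_cons, ih]

theorem reflT_eq (hD : Good D) {i s : ℕ} (hi : i < D.rank) (hs : s < D.nroots) :
    reflT D i s = D.reflectRoot i s := by
  have hp := hD.simple_lt hi
  have hn : D.neg (D.simple i) = opp D (D.simple i) := hD.neg_eq hp
  simp only [reflT, ChevalleyDatum.reflectRoot, hn, hD.cartanT_eq hi hs, entryT_eq,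
    ChevalleyDatum.chainRoot, Bool.cond_eq_ite, beq_iff_eq, decide_eq_true_eq]

namespace GoodWeyl

variable (hW : GoodWeyl D)
include hW

theorem refl_facts (i : Fin D.rank) :
    (nProd D i).2 = true ∧
    SMat.eqB (nProd D i).1
      (SMat.ofEntries
        (((List.range D.rank).flatMap fun j =>
            [(j, j, (1 : ℤ)), ((i : ℕ), j, -cartanT D j (D.simple i))]) ++
          ((List.range D.nroots).map fun s =>
            (D.rank + reflT D i s, D.rank + s, etaT D i s)))) = true ∧
    etaT D i (D.simple i) = -1 ∧ etaT D i (opp D (D.simple i)) = -1 ∧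
    ∀ s < D.nroots,
      reflT D i s < D.nroots ∧ reflT D i (reflT D i s) = s ∧
      reflT D i (opp D s) = opp D (reflT D i s) ∧
      (etaT D i s = 1 ∨ etaT D i s = -1) ∧
      etaT D i s * etaT D i (reflT D i s) = (-1) ^ (D.cartan i s).natAbs ∧
      etaT D i s * etaT D i (opp D s) = 1 ∧
      (half D ≤ s → s ≠ D.simple i → half D ≤ reflT D i s ∧ reflT D i s ≠ D.simple i) ∧
      ∀ j < D.rank,
        D.cartan j (reflT D i s) = D.cartan j s - D.cartan i s * D.cartan j (D.simple i) ∧
        coT D (reflT D i s) j = coT D s j - if (i : ℕ) = j then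
          ((List.range D.rank).map fun k => coT D s k * cartanT D k (D.simple i)).sum else 0 := by
  have hD := hW.good
  have h := hW.reflAll
  simp only [chkReflAll, List.all_eq_true, List.mem_range] at h
  have h := h i i.isLt
  simp only [chkRefl, Bool.and_eq_true, Bool.or_eq_true, decide_eq_true_eq, beq_iff_eq,
    bne_iff_ne, List.all_eq_true, List.mem_range, Bool.cond_eq_ite] at h
  obtain ⟨⟨⟨⟨h1, h2⟩, h3⟩, h4⟩, h5⟩ := h
  refine ⟨h1, h2, h3, h4, fun s hs => ?_⟩
  obtain ⟨⟨⟨⟨⟨⟨⟨a, b⟩, c⟩, d⟩, e⟩, f⟩, g⟩, k⟩ := h5 s hs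
  refine ⟨a, b, c, d, ?_, f, fun hp hne => ?_, fun j hj => ?_⟩
  · rw [e, hD.cartanT_eq i.isLt hs]
    rcases Nat.even_or_odd (D.cartan i s).natAbs with he | ho
    · rw [if_pos (Nat.even_iff.1 he), he.neg_one_pow]
    · rw [if_neg (by rw [Nat.odd_iff.1 ho]; omega), ho.neg_one_pow]
  · rw [if_pos ⟨hp, hne⟩] at g
    simpa using g
  · obtain ⟨k1, k2⟩ := k j hj
    rw [hD.cartanT_eq hj a, hD.cartanT_eq hj hs, hD.cartanT_eq i.isLt hs,
      hD.cartanT_eq hj (hD.simple_lt i.isLt)] at k1
    exact ⟨k1, k2⟩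

end GoodWeyl

/-- The reflection in the `i`-th fundamental root, as a permutation of the roots. -/
def wPerm (hW : GoodWeyl D) (i : Fin D.rank) : Equiv.Perm (Root D) :=
  Function.Involutive.toPerm
    (fun s => ⟨reflT D i s, ((hW.refl_facts i).2.2.2.2 s s.isLt).1⟩)
    (fun s => Fin.ext ((hW.refl_facts i).2.2.2.2 s s.isLt).2.1)

/-- The sign of `n_p` on `e_s`. -/
def eta (D : ChevalleyDatum) (i : Fin D.rank) (s : Root D) : ℤ := etaT D i s

/-- The `i`-th fundamental root. -/
abbrev pRoot (hW : GoodWeyl D) (i : Fin D.rank) : Root D := genR hW.good false i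

namespace GoodWeyl

variable (hW : GoodWeyl D)
include hW

theorem wPerm_val (i : Fin D.rank) (s : Root D) : (wPerm hW i s : ℕ) = D.reflectRoot i s := by
  show reflT D i s = _
  rw [reflT_eq hW.good i.isLt s.isLt]

theorem wPerm_wPerm (i : Fin D.rank) (s : Root D) : wPerm hW i (wPerm hW i s) = s :=
  Fin.ext ((hW.refl_facts i).2.2.2.2 s s.isLt).2.1

theorem wPerm_rev (i : Fin D.rank) (s : Root D) : wPerm hW i s.rev = (wPerm hW i s).rev := by
  have e : ∀ r : Root D, ((r.rev : Root D) : ℕ) = opp D r := fun r => by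
    rw [opp, Fin.val_rev]; omega
  apply Fin.ext
  show reflT D i (s.rev : Root D) = _
  rw [e, e]
  exact ((hW.refl_facts i).2.2.2.2 s s.isLt).2.2.1

theorem wPerm_pRoot (i : Fin D.rank) : wPerm hW i (pRoot hW i) = (pRoot hW i).rev := by
  apply Fin.ext
  show reflT D i (D.simple i) = _
  rw [reflT, beq_self_eq_true, cond_true, Fin.val_rev, opp]
  simp [genR, gen]
  omega

theorem wPerm_pos (i : Fin D.rank) {s : Root D} (hs : half D ≤ s) (hne : s ≠ pRoot hW i) :
    half D ≤ (wPerm hW i s : ℕ) ∧ wPerm hW i s ≠ pRoot hW i := by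
  obtain ⟨h1, h2⟩ := ((hW.refl_facts i).2.2.2.2 s s.isLt).2.2.2.2.2.2.1 hs
    (fun e => hne (Fin.ext e))
  exact ⟨h1, fun e => h2 (congrArg Fin.val e)⟩

theorem eta_sq (i : Fin D.rank) (s : Root D) : eta D i s * eta D i s = 1 := by
  rcases ((hW.refl_facts i).2.2.2.2 s s.isLt).2.2.2.1 with h | h <;> simp [eta, h]

theorem eta_pRoot (i : Fin D.rank) : eta D i (pRoot hW i) = -1 := (hW.refl_facts i).2.2.1

theorem eta_mul_wPerm (i : Fin D.rank) (s : Root D) :
    eta D i s * eta D i (wPerm hW i s) = (-1) ^ (D.cartan i s).natAbs :=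
  ((hW.refl_facts i).2.2.2.2 s s.isLt).2.2.2.2.1

theorem eta_rev (i : Fin D.rank) (s : Root D) : eta D i s.rev = eta D i s := by
  have e : ((s.rev : Root D) : ℕ) = opp D s := by rw [opp, Fin.val_rev]; omega
  have h : eta D i s * eta D i s.rev = 1 := by
    rw [eta, eta, e]; exact ((hW.refl_facts i).2.2.2.2 s s.isLt).2.2.2.2.2.1
  calc eta D i s.rev = (eta D i s * eta D i s) * eta D i s.rev := by rw [hW.eta_sq, one_mul]
    _ = eta D i s := by rw [mul_assoc, h, mul_one]

theorem cartan_wPerm (i j : Fin D.rank) (s : Root D) :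
    D.cartan j (wPerm hW i s) = D.cartan j s - D.cartan i s * D.cartan j (pRoot hW i) :=
  (((hW.refl_facts i).2.2.2.2 s s.isLt).2.2.2.2.2.2.2 j j.isLt).1

theorem cartan_wPerm_self (i : Fin D.rank) (s : Root D) :
    D.cartan i (wPerm hW i s) = -D.cartan i s := by
  rw [hW.cartan_wPerm, show D.cartan i (pRoot hW i) = 2 from hW.good.cartan_simple_self i.isLt]
  ring

theorem descent' {s : Root D} (hs : half D ≤ s) :
    (∃ i, pRoot hW i = s) ∨ ∃ i, half D ≤ (wPerm hW i s : ℕ) ∧ (wPerm hW i s : ℕ) < s := by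
  have h := hW.descent
  simp only [chkDescent, List.all_eq_true, List.mem_range, Bool.cond_eq_ite,
    decide_eq_true_eq] at h
  have h := h s s.isLt
  rw [if_pos hs] at h
  simp only [Bool.or_eq_true, List.any_eq_true, List.mem_range, beq_iff_eq, Bool.and_eq_true,
    decide_eq_true_eq] at h
  rcases h with ⟨i, hi, e⟩ | ⟨i, hi, e⟩
  · exact Or.inl ⟨⟨i, hi⟩, Fin.ext e⟩
  · exact Or.inr ⟨⟨i, hi⟩, e⟩

/-- Induction over all roots along fundamental reflections. -/
theorem root_induction {P : Root D → Prop} (h0 : ∀ i, P (pRoot hW i))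
    (hstep : ∀ i r, P r → P (wPerm hW i r)) (r : Root D) : P r := by
  have hpos : ∀ n : ℕ, ∀ s : Root D, half D ≤ s → (s : ℕ) ≤ n → P s := by
    intro n
    induction n with
    | zero =>
      intro s hs hn
      have := hW.good.basic'.1.2.1
      omega
    | succ n ih =>
      intro s hs hn
      rcases hW.descent' hs with ⟨i, rfl⟩ | ⟨i, h1, h2⟩
      · exact h0 i
      · have := hstep i _ (ih (wPerm hW i s) h1 (by omega))
        rwa [hW.wPerm_wPerm] at this
  by_cases hr : half D ≤ r
  · exact hpos r r hr le_rfl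
  suffices ∀ n : ℕ, ∀ s : Root D, half D ≤ s → (s : ℕ) ≤ n → P s.rev by
    have hh := hW.good.two_half
    have h := this (r.rev : ℕ) r.rev (by rw [Fin.val_rev]; omega) le_rfl
    rwa [Fin.rev_rev] at h
  intro n
  induction n with
  | zero =>
    intro s hs hn
    have := hW.good.basic'.1.2.1
    omega
  | succ n ih =>
    intro s hs hn
    rcases hW.descent' hs with ⟨i, rfl⟩ | ⟨i, h1, h2⟩
    · rw [← hW.wPerm_pRoot]
      exact hstep i _ (h0 i)
    · have := hstep i _ (ih (wPerm hW i s) h1 (by omega))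
      rwa [← hW.wPerm_rev, hW.wPerm_wPerm] at this

end GoodWeyl

/-- `n_p = x_p(1) x_{-p}(-1) x_p(1)`. -/
def nR (hW : GoodWeyl D) {R : Type*} [CommRing R] (i : Fin D.rank) : GL D.Idx R :=
  X hW.good (pRoot hW i) 1 * X hW.good (pRoot hW i).rev (-1) * X hW.good (pRoot hW i) 1

theorem nR_map (hW : GoodWeyl D) {R S : Type*} [CommRing R] [CommRing S] (f : R →+* S)
    (i : Fin D.rank) : Matrix.GeneralLinearGroup.map f (nR hW i) = nR hW i := by
  simp [nR, map_mul, X_map, map_one, map_neg]

theorem nR_apply_int (hW : GoodWeyl D) (i : Fin D.rank) (a b : D.Idx) :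
    ((nR hW i : GL D.Idx ℤ) : Matrix D.Idx D.Idx ℤ) a b =
      match a, b with
      | Sum.inl j', Sum.inl j =>
        (if j' = j then 1 else 0) - if j' = i then D.cartan j (pRoot hW i) else 0
      | Sum.inr s', Sum.inr s => if s' = wPerm hW i s then eta D i s else 0
      | _, _ => 0 := by
  obtain ⟨h1, h2, -⟩ := hW.refl_facts i
  have hspec := wordSMat_spec hW.good _ h1
  have hrev : ((pRoot hW i).rev : ℕ) = opp D (D.simple i) := by
    rw [opp, Fin.val_rev]; simp [genR, gen]; omega
  have hword : (wordGL hW.good [(D.simple i, 1), (opp D (D.simple i), -1), (D.simple i, 1)] :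
      GL D.Idx ℤ) = nR hW i := by
    rw [← hrev, show D.simple i = ((pRoot hW i : Root D) : ℕ) from rfl, wordGL_cons, wordGL_cons,
      wordGL_cons, nR, mul_assoc]
    simp [wordGL]
  rw [← hword, ← hspec]
  show SMat.toMat _ _ (nProd D i).1 a b = _
  rw [SMat.toMat_eq_of_eqB _ _ h2, SMat.toMat_apply, SMat.den_ofEntries, ← entVal, entVal_append,
    entVal_flatMap, entVal_map]
  simp only [entVal_cons, entVal_nil, add_zero]
  rcases a with j' | s' <;> rcases b with j | s
  · simp only [finSumFinEquiv_apply_left, Fin.val_castAdd]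
    rw [List.sum_eq_zero (l := (List.range D.nroots).map _) (by
      intro x hx
      obtain ⟨k, -, rfl⟩ := List.mem_map.1 hx
      split_ifs <;> omega), add_zero]
    refine Eq.trans (congrArg List.sum (List.map_congr_left (g := fun k => if k = (j : ℕ) then
        ((if k = (j' : ℕ) then (1 : ℤ) else 0) - if (i : ℕ) = j' then cartanT D k (D.simple i) else 0)
        else 0) fun k _ => by split_ifs <;> omega)) ?_
    rw [sum_range_ite j.isLt, hW.good.cartanT_eq j.isLt (hW.good.simple_lt i.isLt)]
    simp only [Fin.ext_iff]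
    congr 1
    · exact if_congr eq_comm rfl rfl
    · exact if_congr eq_comm rfl rfl
  · simp only [finSumFinEquiv_apply_left, finSumFinEquiv_apply_right, Fin.val_castAdd,
      Fin.val_natAdd]
    rw [List.sum_eq_zero, List.sum_eq_zero, add_zero]
    · intro x hx
      obtain ⟨k, -, rfl⟩ := List.mem_map.1 hx
      split_ifs <;> omega
    · intro x hx
      obtain ⟨k, hk, rfl⟩ := List.mem_map.1 hx
      rw [List.mem_range] at hk
      split_ifs <;> omega
  · simp only [finSumFinEquiv_apply_left, finSumFinEquiv_apply_right, Fin.val_castAdd,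
      Fin.val_natAdd]
    rw [List.sum_eq_zero, List.sum_eq_zero, add_zero]
    · intro x hx
      obtain ⟨k, -, rfl⟩ := List.mem_map.1 hx
      split_ifs <;> omega
    · intro x hx
      obtain ⟨k, hk, rfl⟩ := List.mem_map.1 hx
      rw [List.mem_range] at hk
      split_ifs <;> omega
  · simp only [finSumFinEquiv_apply_right, Fin.val_natAdd, Nat.add_left_cancel_iff]
    rw [List.sum_eq_zero (l := (List.range D.rank).map _) (by
      intro x hx
      obtain ⟨k, hk, rfl⟩ := List.mem_map.1 hx
      rw [List.mem_range] at hk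
      split_ifs <;> omega), zero_add]
    rw [show ((List.range D.nroots).map fun k =>
        if reflT D i k = (s' : ℕ) ∧ k = (s : ℕ) then etaT D i k else 0) =
      (List.range D.nroots).map fun k => if k = (s : ℕ) then
        (if reflT D i k = (s' : ℕ) then etaT D i k else 0) else 0 from
      List.map_congr_left fun k _ => by split_ifs <;> omega,
      sum_range_ite s.isLt]
    exact if_congr ⟨fun e => Fin.ext e.symm, fun e => (congrArg Fin.val e).symm⟩ rfl rfl

theorem nR_apply (hW : GoodWeyl D) {R : Type*} [CommRing R] (i : Fin D.rank) (a b : D.Idx) :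
    ((nR hW i : GL D.Idx R) : Matrix D.Idx D.Idx R) a b =
      match a, b with
      | Sum.inl j', Sum.inl j =>
        (if j' = j then 1 else 0) - if j' = i then (D.cartan j (pRoot hW i) : R) else 0
      | Sum.inr s', Sum.inr s => if s' = wPerm hW i s then (eta D i s : R) else 0
      | _, _ => 0 := by
  rw [← nR_map hW (Int.castRingHom R) i, coe_map_GL, Matrix.map_apply, nR_apply_int hW]
  rcases a with j' | s' <;> rcases b with j | s <;> simp [apply_ite (Int.cast : ℤ → R)]

theorem isAut_nR (hW : GoodWeyl D) {R : Type*} [CommRing R] (i : Fin D.rank) :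
    IsAut D ((nR hW i : GL D.Idx R) : Matrix D.Idx D.Idx R) := by
  simp only [nR, Units.val_mul, coe_X]
  exact ((hW.good.isAut_xR _ _).mul (hW.good.isAut_xR _ _)).mul (hW.good.isAut_xR _ _)

/-- `n_p x_s(t) = x_{w s}(η t) n_p`. -/
theorem nR_mul_X (hW : GoodWeyl D) {R : Type*} [CommRing R] (i : Fin D.rank) (s : Root D) (t : R) :
    nR hW i * X hW.good s t =
      X hW.good (wPerm hW i s) ((eta D i s : R) * t) * nR hW i := by
  suffices H : ∀ K : Type, ∀ _ : CommRing K, ∀ _ : Algebra ℚ K, ∀ u : K,
      nR hW i * X hW.good s u = X hW.good (wPerm hW i s) ((eta D i s : K) * u) * nR hW i by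
    have h0 : nR hW i * X hW.good s (MvPolynomial.X 0 : MvPolynomial (Fin 2) ℤ) =
        X hW.good (wPerm hW i s) ((eta D i s : MvPolynomial (Fin 2) ℤ) * MvPolynomial.X 0) *
          nR hW i := by
      apply map_injective_GL (f := MvPolynomial.map (Int.castRingHom ℚ))
        (MvPolynomial.map_injective _ Int.cast_injective)
      simp only [map_mul, X_map, nR_map, map_intCast]
      exact H _ inferInstance inferInstance _
    have h := congrArg (Matrix.GeneralLinearGroup.map
      (MvPolynomial.eval₂Hom (Int.castRingHom R) ![t, 0])) h0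
    simpa [map_mul, X_map, nR_map] using h
  intro K _ _ u
  have hv : ((nR hW i : GL D.Idx K) : Matrix D.Idx D.Idx K).mulVec (Pi.single (Sum.inr s) 1) =
      (([(wPerm hW i s, (eta D i s : K))] : List (Root D × K)).map
        fun p => Pi.single (Sum.inr p.1) p.2).sum := by
    rw [Matrix.mulVec_single_one]
    funext a
    rw [Matrix.col_apply, nR_apply hW]
    rcases a with j | v <;> simp [Pi.single_apply]
  apply Units.ext
  rw [Units.val_mul, Units.val_mul, coe_X, coe_X,
    mul_xR_of_list hW.good (isAut_nR hW i) s u _ hv (by simp)]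
  simp [mul_comm]

theorem nR_conj (hW : GoodWeyl D) {R : Type*} [CommRing R] (i : Fin D.rank) (s : Root D) (t : R) :
    nR hW i * X hW.good s t * (nR hW i)⁻¹ = X hW.good (wPerm hW i s) ((eta D i s : R) * t) := by
  rw [nR_mul_X, mul_inv_cancel_right]

theorem coe_nR (hW : GoodWeyl D) {F : Type*} [Field F] (i : Fin D.rank) :
    ((nR hW i : GL D.Idx F) : Matrix D.Idx D.Idx F) = D.nMat F (D.simple i) 1 := by
  have hn : D.neg (D.simple i) = ((pRoot hW i).rev : ℕ) := hW.good.neg_fin (pRoot hW i)
  rw [ChevalleyDatum.nMat, ← coe_wordGL hW.good, ChevalleyDatum.nWord, hn,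
    show D.simple i = ((pRoot hW i : Root D) : ℕ) from rfl, wordGL_cons, wordGL_cons, wordGL_cons,
    nR, mul_assoc]
  simp [wordGL]

end CfsgLib.Chevalley
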