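import Cfsg.Agent.Chevalley.Unipotent
import Mathlib.GroupTheory.QuotientGroup.Basic
/-!
Uniqueness of the factorisation of unipotent elements, their number, nilpotency.
-/

set_option autoImplicit false

namespace CfsgLib.Chevalley

open Cfsg.Lie
open scoped MatrixGroups

variable {D : ChevalleyDatum} {F : Type*} [Field F] {b : Bool}

theorem prodFrom_congr (hD : Good D) {t t' : ℕ → F} {m k : ℕ}
    (h : ∀ j, m ≤ j → j < m + k → t j = t' j) : prodFrom hD b t m k = prodFrom hD b t' m k := by
  simp only [prodFrom]
  congr 1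
  apply List.map_congr_left
  intro j hj
  rw [List.mem_range'_1] at hj
  rw [h j hj.1 hj.2]

theorem entry_X_mul (hD : Good D) {r : Root D} (hr : half D ≤ key b r) (t : F) {g : GL D.Idx F}
    (hg : g ∈ uGe hD F b (key b r + 1)) (i : Fin D.rank) :
    ((X hD r t * g : GL D.Idx F) : Matrix D.Idx D.Idx F) (Sum.inl i) (Sum.inr r.rev) =
      t * ((D.coroot.getD r #[]).getD i 0 : F) := by
  have hlow := isLower_of_mem hD hg
  rw [Units.val_mul, Matrix.mul_apply, Finset.sum_eq_single (Sum.inr r.rev : D.Idx)]
  · rw [hlow.1, mul_one]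
    simp [xR, Finset.sum_range_succ, E_apply_one hD, E_apply_two hD, E_apply_three hD]
  · intro a _ ha
    by_cases hle : ord b a ≤ ord b (Sum.inr r.rev : D.Idx)
    · rw [hlow.2 a _ ha hle, mul_zero]
    rcases a with j | v
    · rw [entry_eq_zero hD hg j hr le_rfl, mul_zero]
    · refine mul_eq_zero_of_left ?_ _
      by_cases hlt : ord b (Sum.inr v : D.Idx) < half D
      · have hne : v ≠ r.rev := fun e => ha (by rw [e])
        simp [xR, Finset.sum_range_succ, E_apply_one hD, E_apply_two hD, E_apply_three hD, hne]
      · refine (hD.isLower_xR hr t).2 _ _ (by simp) ?_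
        simp only [ord, Sum.elim_inl, Sum.elim_inr] at hlt ⊢
        omega
  · simp

theorem Good.exists_coroot_cast_ne (hD : Good D) (F : Type*) [Field F]
    (hco : ∀ r : Root D, ((List.range D.rank).map fun i =>
      ((D.coroot.getD r #[]).getD i 0).natAbs).foldr Nat.gcd 0 = 1) (r : Root D) :
    ∃ i : Fin D.rank, ((D.coroot.getD r #[]).getD i 0 : F) ≠ 0 := by
  by_contra hne
  push Not at hne
  have key : ∀ L : List ℤ, (∀ c ∈ L, (c : F) = 0) →
      (((L.map Int.natAbs).foldr Nat.gcd 0 : ℕ) : F) = 0 := by
    intro L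
    induction L with
    | nil => simp
    | cons c L ih =>
      intro h
      rw [List.map_cons, List.foldr_cons]
      obtain ⟨x, y, hxy⟩ : ∃ x y : ℤ, (Nat.gcd c.natAbs ((L.map Int.natAbs).foldr Nat.gcd 0) : ℤ) =
          c * x + ((L.map Int.natAbs).foldr Nat.gcd 0 : ℕ) * y :=
        ⟨_, _, Int.gcd_eq_gcd_ab c ((L.map Int.natAbs).foldr Nat.gcd 0 : ℕ)⟩
      have := congrArg (Int.cast : ℤ → F) hxy
      push_cast at this
      rw [this, h c (by simp), ih (fun d hd => h d (by simp [hd]))]
      simp
  have := key ((List.range D.rank).map fun i => (D.coroot.getD r #[]).getD i 0) fun c hc => by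
    obtain ⟨i, hi, rfl⟩ := List.mem_map.1 hc
    exact hne ⟨i, List.mem_range.1 hi⟩
  rw [List.map_map, show (Int.natAbs ∘ fun i => (D.coroot.getD r #[]).getD i 0) =
    fun i => ((D.coroot.getD r #[]).getD i 0).natAbs from rfl, hco r] at this
  simp at this

/-- Every coroot is primitive. -/
def chkPrimitive (D : ChevalleyDatum) : Bool :=
  (List.range D.nroots).all fun r =>
    (((coTrie D).get r).map Int.natAbs).foldr Nat.gcd 0 == 1

/-- A datum with all checks for the theory of the unipotent subgroups. -/
structure GoodUni (D : ChevalleyDatum) : Prop extends GoodComm D where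
  primitive : chkPrimitive D = true

theorem GoodUni.primitive' (hU : GoodUni D) (r : Root D) :
    ((List.range D.rank).map fun i =>
      ((D.coroot.getD r #[]).getD i 0).natAbs).foldr Nat.gcd 0 = 1 := by
  have h := hU.primitive
  simp only [chkPrimitive, List.all_eq_true, List.mem_range, beq_iff_eq] at h
  have e : (coTrie D).get r = (List.range D.rank).map fun i => (D.coroot.getD r #[]).getD i 0 := by
    refine List.ext_getElem (by simp [hU.good.coTrie_length r.isLt]) fun i h1 h2 => ?_
    rw [List.getElem_map, List.getElem_range, ← coT_eq, coT, List.getD_eq_getElem?_getD,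
      List.getElem?_eq_getElem h1]
    rfl
  have := h r r.isLt
  rwa [e, List.map_map] at this

theorem GoodUni.exists_coroot_ne (hU : GoodUni D) (F : Type*) [Field F] (r : Root D) :
    ∃ i : Fin D.rank, ((D.coroot.getD r #[]).getD i 0 : F) ≠ 0 :=
  hU.good.exists_coroot_cast_ne F hU.primitive' r

theorem prodFrom_injective (hU : GoodUni D) : ∀ (k m : ℕ), half D ≤ m → m + k = D.nroots →
    ∀ t t' : ℕ → F, prodFrom hU.good b t m k = prodFrom hU.good b t' m k →
      ∀ j, m ≤ j → j < m + k → t j = t' j := by
  intro k
  induction k with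
  | zero => intro m _ _ t t' _ j hj hj'; omega
  | succ k ih =>
    intro m hm hmk t t' h j hj hj'
    rw [prodFrom_succ, prodFrom_succ] at h
    set r := rootOf hU.good b m
    have hkey : key b r = m := key_rootOf hU.good (by omega)
    have hmem : ∀ u : ℕ → F, prodFrom hU.good b u (m + 1) k ∈ uGe hU.good F b (key b r + 1) :=
      fun u => hkey ▸ prodFrom_mem hU.good u (by omega) (by omega)
    obtain ⟨i, hi⟩ := hU.exists_coroot_ne F r
    have e := congrArg (fun g : GL D.Idx F => (g : Matrix D.Idx D.Idx F) (Sum.inl i) (Sum.inr r.rev)) h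
    simp only [entry_X_mul hU.good (hkey.symm ▸ hm) _ (hmem _)] at e
    have htm : t m = t' m := mul_right_cancel₀ hi e
    rcases eq_or_lt_of_le hj with rfl | hlt
    · exact htm
    · rw [htm, mul_left_cancel_iff] at h
      exact ih (m + 1) (by omega) (by omega) t t' h j (by omega) (by omega)

theorem posRoots_eq (hD : Good D) : D.posRoots = List.range' (half D) (half D) := by
  rw [ChevalleyDatum.posRoots, hD.two_half, two_mul, List.range_add, List.filter_append,
    List.filter_eq_nil_iff.2, List.filter_eq_self.2, List.nil_append, List.range'_eq_map_range]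
  · intro r hr
    obtain ⟨j, hj, rfl⟩ := List.mem_map.1 hr
    rw [List.mem_range] at hj
    have := hD.two_half
    exact decide_eq_true (hD.isPosRoot_iff.2 ⟨Nat.le_add_right _ _, by omega⟩)
  · intro r hr
    rw [List.mem_range] at hr
    simp only [decide_eq_true_eq, hD.isPosRoot_iff]
    omega

theorem rootOf_false (hD : Good D) {k : ℕ} (hk : k < D.nroots) :
    rootOf hD false k = ⟨k, hk⟩ :=
  Fin.ext (show key false (rootOf hD false k) = k from key_rootOf hD hk)

theorem wordMat_posRoots (hD : Good D) (t : ℕ → F) :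
    D.wordMat F (D.posRoots.map fun r => (r, t r)) =
      (prodFrom hD false t (half D) (half D) : GL D.Idx F) := by
  rw [← coe_wordGL hD, posRoots_eq hD, wordGL, List.map_map, prodFrom]
  congr 2
  apply List.map_congr_left
  intro j hj
  rw [List.mem_range'_1] at hj
  have := hD.two_half
  simp only [Function.comp_apply]
  rw [dif_pos (show j < D.nroots by omega), rootOf_false hD (show j < D.nroots by omega)]

/-- The number of elements of either unipotent subgroup. -/
theorem natCard_uGe (hU : GoodUni D) [Finite F] :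
    Nat.card (uGe hU.good F b (half D)) = Nat.card F ^ half D := by
  classical
  have hh := hU.good.two_half
  let ext' : (Fin (half D) → F) → ℕ → F := fun f j =>
    if h : j - half D < half D then f ⟨j - half D, h⟩ else 0
  let φ : (Fin (half D) → F) → uGe hU.good F b (half D) := fun f =>
    ⟨prodFrom hU.good b (ext' f) (half D) (half D), prodFrom_mem hU.good _ le_rfl (by omega)⟩
  have hφ : Function.Bijective φ := by
    constructor
    · intro f g h
      funext i
      have := prodFrom_injective hU (half D) (half D) le_rfl (by omega) _ _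
        (congrArg Subtype.val h) (half D + i) (by omega) (by omega)
      simpa [ext'] using this
    · rintro ⟨g, hg⟩
      obtain ⟨t, ht⟩ := exists_prodFrom hU.toGoodComm (half D) (half D) le_rfl (by omega) g hg
      refine ⟨fun i => t (half D + i), Subtype.ext ?_⟩
      refine Eq.trans (prodFrom_congr hU.good fun j hj hj' => ?_) ht
      simp only [ext']
      rw [dif_pos (show j - half D < half D by omega)]
      congr 1
      omega
  rw [← Nat.card_eq_of_bijective φ hφ, Nat.card_fun, Nat.card_fin]

/-- Elements of a unipotent subgroup minus one are nilpotent. -/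
theorem sub_one_pow_eq_zero {R : Type*} [CommRing R] {b : Bool} {g : Matrix D.Idx D.Idx R}
    (hg : IsLower b g) {N : ℕ} (hN : ∀ a : D.Idx, ord b a < N) : (g - 1) ^ N = 0 := by
  have key : ∀ k a c, ord b a < ord b c + k → ((g - 1) ^ k) a c = 0 := by
    intro k
    induction k with
    | zero =>
      intro a c h
      rw [pow_zero, Matrix.one_apply_ne]
      intro e
      subst e
      omega
    | succ k ih =>
      intro a c h
      rw [pow_succ, Matrix.mul_apply]
      refine Finset.sum_eq_zero fun x _ => ?_
      by_cases hx : ord b x ≤ ord b c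
      · refine mul_eq_zero_of_right _ ?_
        rcases eq_or_ne x c with rfl | hne
        · simp [hg.1]
        · simp [hg.2 x c hne hx, hne]
      · rw [ih a x (by omega), zero_mul]
  ext a c
  exact key N a c (Nat.lt_of_lt_of_le (hN a) (Nat.le_add_left N _))

theorem ord_lt (hD : Good D) (a : D.Idx) : ord b a < D.rank + D.nroots := by
  have := hD.rank_pos
  have := hD.two_half
  rcases a with i | r
  · have := i.isLt; simp [ord]; omega
  · have := key_lt b r; simp [ord]; split_ifs <;> omega

theorem isNilpotent_uGe (hC : GoodComm D) :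
    Group.IsNilpotent (uGe hC.good F b (half D)) := by
  let U := uGe hC.good F b (half D)
  let H : ℕ → Subgroup U := fun k => (uGe hC.good F b (half D + k)).subgroupOf U
  rw [Subgroup.nilpotent_iff_finite_descending_central_series]
  refine ⟨half D, H, ⟨?_, ?_⟩, ?_⟩
  · simp [H, U]
  · intro x k hx g
    have hN : ((uGe hC.good F b (half D + (k + 1))).subgroupOf U).Normal :=
      Subgroup.normal_subgroupOf_iff_le_normalizer (uGe_mono _ (by omega)) |>.2
        (uGe_half_le_normalizer hC _)
    show x * g * x⁻¹ * g⁻¹ ∈ _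
    rw [← (QuotientGroup.eq_one_iff _ (N := (uGe hC.good F b (half D + (k + 1))).subgroupOf U))]
    let q := QuotientGroup.mk' ((uGe hC.good F b (half D + (k + 1))).subgroupOf U)
    have hcomm : ∀ (r s : Root D) (t u : F) (hr : half D ≤ key b r) (hs : half D ≤ key b s),
        half D + k ≤ key b r →
        q ⟨X hC.good r t, X_mem_uGe _ hr hr t⟩ * q ⟨X hC.good s u, X_mem_uGe _ hs hs u⟩ =
        q ⟨X hC.good s u, X_mem_uGe _ hs hs u⟩ * q ⟨X hC.good r t, X_mem_uGe _ hr hr t⟩ := by
      intro r s t u hr hs hk
      rw [← map_mul, ← map_mul]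
      refine (QuotientGroup.eq.2 ?_).symm
      exact uGe_mono _ (show half D + (k + 1) ≤ key b r + 1 by omega)
        (X_commutator_mem hC hr hs t u)
    suffices H2 : q x * q g = q g * q x by
      show q (x * g * x⁻¹ * g⁻¹) = 1
      rw [map_mul, map_mul, map_mul, map_inv, map_inv, H2]; group
    have hgen : ∀ (r : Root D) (t : F) (hr : half D ≤ key b r), half D + k ≤ key b r →
        ∀ y : GL D.Idx F, ∀ hy : y ∈ U,
        q ⟨X hC.good r t, X_mem_uGe _ hr hr t⟩ * q ⟨y, hy⟩ =
          q ⟨y, hy⟩ * q ⟨X hC.good r t, X_mem_uGe _ hr hr t⟩ := by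
      intro r t hr hk y hy
      induction hy using Subgroup.closure_induction with
      | mem y hy' =>
        obtain ⟨s, hs, _, u, rfl⟩ := hy'
        exact hcomm r s t u hr hs hk
      | one =>
        rw [show (⟨1, one_mem U⟩ : U) = 1 from rfl, map_one, mul_one, one_mul]
      | mul a c ha hc iha ihc =>
        rw [show (⟨a * c, mul_mem ha hc⟩ : U) = ⟨a, ha⟩ * ⟨c, hc⟩ from rfl, map_mul]
        exact Commute.mul_right iha ihc
      | inv a ha iha =>
        rw [show (⟨a⁻¹, inv_mem ha⟩ : U) = ⟨a, ha⟩⁻¹ from rfl, map_inv]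
        exact Commute.inv_right iha
    obtain ⟨xv, hxU⟩ := x
    have hx' : xv ∈ uGe hC.good F b (half D + k) := hx
    suffices ∀ hxU : xv ∈ U, q ⟨xv, hxU⟩ * q g = q g * q ⟨xv, hxU⟩ from this hxU
    clear hxU hx
    induction hx' using Subgroup.closure_induction with
    | mem y hy =>
      obtain ⟨r, hr, hk, t, rfl⟩ := hy
      exact fun _ => hgen r t hr hk g g.2
    | one => intro h; rw [show (⟨1, h⟩ : U) = 1 from rfl, map_one, mul_one, one_mul]
    | mul a c ha hc iha ihc =>
      intro h
      have ha' : a ∈ U := uGe_mono _ (by omega) ha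
      have hc' : c ∈ U := uGe_mono _ (by omega) hc
      rw [show (⟨a * c, h⟩ : U) = ⟨a, ha'⟩ * ⟨c, hc'⟩ from rfl, map_mul]
      exact Commute.mul_left (iha ha') (ihc hc')
    | inv a ha iha =>
      intro h
      have ha' : a ∈ U := uGe_mono _ (by omega) ha
      rw [show (⟨a⁻¹, h⟩ : U) = ⟨a, ha'⟩⁻¹ from rfl, map_inv]
      exact Commute.inv_left (iha ha')
  · have := hC.good.two_half
    simp only [H, show half D + half D = D.nroots by omega, uGe_eq_bot hC.good le_rfl,
      Subgroup.bot_subgroupOf]

end CfsgLib.Chevalley
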