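import Cfsg.Agent.Chevalley.Adjoint
import Mathlib.LinearAlgebra.Matrix.GeneralLinearGroup.Defs
/-!
The root elements of a good datum as elements of the general linear group, and their agreement with
the matrices `D.x`.
-/

set_option autoImplicit false

namespace CfsgLib.Chevalley

open Cfsg.Lie
open scoped MatrixGroups

variable {D : ChevalleyDatum}

theorem chainCoeff_eq (hD : Good D) (r : Root D) (s u : ℕ) :
    D.chainCoeff r s u =
      (((D.chainEntry r s).zipIdx).filter fun q => q.1.1 = u).map fun q => (q.2 + 1, q.1.2) := by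
  have hn : ((D.chain.getD r #[]).toList.map Prod.fst).Nodup := by
    have := (hD.chain' r.isLt).1
    rwa [chainTrie_get, List.map_map] at this
  rw [ChevalleyDatum.chainCoeff, ChevalleyDatum.chainEntry]
  generalize (D.chain.getD r #[]).toList = L at hn
  induction L with
  | nil => simp
  | cons e L ih =>
    simp only [List.map_cons, List.nodup_cons] at hn
    rw [List.filter_cons, List.find?_cons]
    by_cases he : e.1 = s
    · have : L.filter (fun e => decide (e.1 = s)) = [] := by
        rw [List.filter_eq_nil_iff]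
        intro x hx
        simp only [decide_eq_true_eq]
        exact fun h => hn.1 (List.mem_map.2 ⟨x, hx, by omega⟩)
      simp [he, this]
    · simpa [he] using ih hn.2

theorem chainCoeff_sum (hD : Good D) {R : Type*} [CommRing R] (r : Root D) (s u : ℕ) (t : R) :
    ((D.chainCoeff r s u).map fun km => ((km.2 : ℤ) : R) * t ^ km.1).sum =
      t * (chainVal D r s 0 u : R) + t ^ 2 * (chainVal D r s 1 u : R) +
        t ^ 3 * (chainVal D r s 2 u : R) := by
  rw [chainCoeff_eq hD]
  have hlen := hD.chainEntry_length r.isLt s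
  simp only [chainVal]
  generalize D.chainEntry r s = L at hlen ⊢
  rcases L with _ | ⟨a, _ | ⟨b, _ | ⟨c, _ | ⟨d, L⟩⟩⟩⟩
  · simp
  · by_cases ha : a.1 = u <;> simp [ha, mul_comm]
  · by_cases ha : a.1 = u <;> by_cases hb : b.1 = u <;> simp [ha, hb, mul_comm]
  · by_cases ha : a.1 = u <;> by_cases hb : b.1 = u <;> by_cases hc : c.1 = u <;>
      simp [ha, hb, hc, mul_comm] <;> ring
  · simp at hlen; omega

theorem chainVal_self (hD : Good D) (r : Root D) (j u : ℕ) : chainVal D r r j u = 0 := by
  simp [chainVal, hD.chainEntry_self r.isLt]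

theorem chainVal_rev (hD : Good D) (r : Root D) (j u : ℕ) : chainVal D r r.rev j u = 0 := by
  have : ((r.rev : Root D) : ℕ) = opp D r := by rw [opp, Fin.val_rev]; omega
  rw [chainVal, this, hD.chainEntry_opp r.isLt]
  rfl

theorem chainVal_opp (hD : Good D) (r : Root D) (j u : ℕ) :
    chainVal D r (D.nroots - (r + 1)) j u = 0 := by
  rw [← Fin.val_rev]
  exact chainVal_rev hD r j u

/-- Over a field, `xR` is the matrix `D.x`. -/
theorem x_eq_xR (hD : Good D) (F : Type*) [Field F] (r : Root D) (t : F) :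
    D.x F r t = xR D F r t := by
  rw [ChevalleyDatum.x, dif_pos r.isLt]
  ext a b
  simp only [xR, Matrix.sum_apply, Finset.sum_range_succ, Finset.sum_range_zero, zero_add,
    Matrix.smul_apply, Matrix.map_apply, smul_eq_mul, E_zero, E_apply_one hD, E_apply_two hD,
    E_apply_three hD, ChevalleyDatum.xMat, Matrix.of_apply, pow_zero, one_mul, pow_one]
  rcases b with j | s
  · rcases a with i | u
    · simp only [Matrix.one_apply, Sum.inl.injEq]
      by_cases h : i = j <;> simp [h]
    · simp only [Matrix.one_apply, reduceCtorEq, if_false, Int.cast_zero, mul_zero, add_zero,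
        zero_add, ChevalleyDatum.cartan]
      by_cases h : u = r
      · subst h; simp [mul_comm]
      · simp [h]
  · have hrev : D.negIdx.getD r 0 = (r.rev : ℕ) := hD.neg_fin r
    simp only [hrev, Fin.val_eq_val]
    by_cases hsr : s = r
    · subst hsr
      have := (hD.rev_ne s).symm
      rcases a with i | u
      · simp [this]
      · by_cases h : u = s <;> simp [this, h, chainVal_self hD, Matrix.one_apply]
    · rw [if_neg hsr]
      by_cases hsn : s = r.rev
      · subst hsn
        have := hD.rev_ne r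
        rcases a with i | u
        · simp [mul_comm]
        · by_cases h : u = r.rev
          · subst h; simp [this, chainVal_opp hD, Matrix.one_apply]
          · by_cases h' : u = r <;> simp [h, h', chainVal_opp hD, this.symm, Matrix.one_apply]
      · rw [if_neg hsn]
        rcases a with i | u
        · simp [hsn]
        · simp only [chainCoeff_sum hD, Matrix.one_apply, Sum.inr.injEq, hsn, and_false, if_false,
            zero_add]
          by_cases h : u = s <;> simp [h] <;> ring

/-- The root element `x_r(t)` as an element of the general linear group over a commutative ring. -/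
def X (hD : Good D) {R : Type*} [CommRing R] (r : Root D) (t : R) : GL D.Idx R where
  val := xR D R r t
  inv := xR D R r (-t)
  val_inv := by rw [hD.xR_add, add_neg_cancel, Good.xR_zero]
  inv_val := by rw [hD.xR_add, neg_add_cancel, Good.xR_zero]

section Ring

variable {R : Type*} [CommRing R]

@[simp] theorem coe_X (hD : Good D) (r : Root D) (t : R) :
    ((X hD r t : GL D.Idx R) : Matrix D.Idx D.Idx R) = xR D R r t := rfl

theorem X_mul (hD : Good D) (r : Root D) (t u : R) : X hD r t * X hD r u = X hD r (t + u) :=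
  Units.ext (hD.xR_add r t u)

theorem X_zero (hD : Good D) (r : Root D) : X hD r (0 : R) = 1 := Units.ext (Good.xR_zero D r)

theorem X_inv (hD : Good D) (r : Root D) (t : R) : (X hD r t)⁻¹ = X hD r (-t) := Units.ext rfl

/-- `t ↦ x_r(t)` as a homomorphism from the additive group. -/
def xHom (hD : Good D) (R : Type*) [CommRing R] (r : Root D) : Multiplicative R →* GL D.Idx R where
  toFun t := X hD r (Multiplicative.toAdd t)
  map_one' := X_zero hD r
  map_mul' t u := (X_mul hD r _ _).symm

theorem X_map (hD : Good D) {S : Type*} [CommRing S] (f : R →+* S) (r : Root D) (t : R) :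
    Matrix.GeneralLinearGroup.map f (X hD r t) = X hD r (f t) :=
  Units.ext (xR_map D f r t)

theorem X_zpow (hD : Good D) (r : Root D) (t : R) (n : ℤ) :
    X hD r t ^ n = X hD r ((n : R) * t) := by
  have := map_zpow (xHom hD R r) (Multiplicative.ofAdd t) n
  rw [show xHom hD R r (Multiplicative.ofAdd t) = X hD r t from rfl] at this
  rw [← this]
  show X hD r (Multiplicative.toAdd (Multiplicative.ofAdd t ^ n)) = _
  simp

end Ring

variable {F : Type*} [Field F]

theorem coe_eq_x_iff (hD : Good D) {r : ℕ} (hr : r < D.nroots) {g : GL D.Idx F} {t : F} :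
    (g : Matrix D.Idx D.Idx F) = D.x F r t ↔ g = X hD ⟨r, hr⟩ t := by
  rw [show D.x F r t = ((X hD ⟨r, hr⟩ t : GL D.Idx F) : Matrix D.Idx D.Idx F) from
    x_eq_xR hD F ⟨r, hr⟩ t]
  exact ⟨fun h => Units.ext h, fun h => h ▸ rfl⟩

theorem mem_rootSubgroup_iff (hD : Good D) {r : Root D} {g : GL D.Idx F} :
    g ∈ D.rootSubgroup F r ↔ ∃ t : F, X hD r t = g := by
  have : D.rootSubgroup F r = (xHom hD F r).range := by
    rw [ChevalleyDatum.rootSubgroup]
    apply le_antisymm
    · rw [Subgroup.closure_le]
      rintro g ⟨t, ht⟩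
      exact ⟨Multiplicative.ofAdd t, ((coe_eq_x_iff hD r.isLt).1 ht).symm⟩
    · rintro _ ⟨t, rfl⟩
      exact Subgroup.subset_closure ⟨_, (coe_eq_x_iff hD r.isLt).2 rfl⟩
  rw [this, MonoidHom.mem_range]
  exact ⟨fun ⟨t, h⟩ => ⟨_, h⟩, fun ⟨t, h⟩ => ⟨Multiplicative.ofAdd t, h⟩⟩

theorem X_mem_rootSubgroup (hD : Good D) (r : Root D) (t : F) :
    X hD r t ∈ D.rootSubgroup F r := (mem_rootSubgroup_iff hD).2 ⟨t, rfl⟩

theorem group_eq_closure (hD : Good D) :
    D.group F = Subgroup.closure {g | ∃ r t, X hD r t = g} := by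
  rw [ChevalleyDatum.group]
  congr 1
  ext g
  constructor
  · rintro ⟨r, t, h⟩
    refine ⟨r, t, ((coe_eq_x_iff hD r.isLt).1 ?_).symm⟩
    rw [h, ChevalleyDatum.x, dif_pos r.isLt]
  · rintro ⟨r, t, rfl⟩
    refine ⟨r, t, ?_⟩
    rw [(coe_eq_x_iff hD r.isLt).2 rfl, ChevalleyDatum.x, dif_pos r.isLt]

theorem X_mem_group (hD : Good D) (r : Root D) (t : F) : X hD r t ∈ D.group F := by
  rw [group_eq_closure hD]
  exact Subgroup.subset_closure ⟨r, t, rfl⟩

theorem posUnipotent_eq_closure (hD : Good D) :
    D.posUnipotent F = Subgroup.closure {g | ∃ r : Root D, half D ≤ r ∧ ∃ t, X hD r t = g} := by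
  rw [ChevalleyDatum.posUnipotent]
  congr 1
  ext g
  constructor
  · rintro ⟨r, t, hp, h⟩
    obtain ⟨hh, hr⟩ := hD.isPosRoot_iff.1 hp
    exact ⟨⟨r, hr⟩, hh, t, ((coe_eq_x_iff hD hr).1 h).symm⟩
  · rintro ⟨r, hh, t, rfl⟩
    exact ⟨r, t, hD.isPosRoot_iff.2 ⟨hh, r.isLt⟩, (coe_eq_x_iff hD r.isLt).2 rfl⟩

theorem negUnipotent_eq_closure (hD : Good D) :
    D.negUnipotent F = Subgroup.closure {g | ∃ r : Root D, (r : ℕ) < half D ∧ ∃ t, X hD r t = g} := by
  rw [ChevalleyDatum.negUnipotent]
  congr 1
  ext g
  constructor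
  · rintro ⟨r, t, hp, h⟩
    have hn := hD.isNegRoot_iff.1 hp
    have := hD.two_half
    exact ⟨⟨r, by omega⟩, hn, t, ((coe_eq_x_iff hD (by omega)).1 h).symm⟩
  · rintro ⟨r, hh, t, rfl⟩
    exact ⟨r, t, hD.isNegRoot_iff.2 hh, (coe_eq_x_iff hD r.isLt).2 rfl⟩

/-- The entry of `x_r(t)` detecting `t`. -/
theorem X_injective (hD : Good D) (r : Root D) :
    Function.Injective fun t : F => X hD r t := by
  intro t u h
  have hent : ∀ v : F, (xR D F r v) (Sum.inr r) (Sum.inr r.rev) = -(v ^ 2) := by
    intro v
    simp [xR, Matrix.sum_apply, Finset.sum_range_succ, E_apply_one hD, E_apply_two hD,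
      E_apply_three hD, chainVal_opp hD, (hD.rev_ne r).symm]
  have h1 : xR D F r t = xR D F r u := Units.ext_iff.1 h
  by_contra hne
  have hsq : t ^ 2 = u ^ 2 := by
    have := congrFun (congrFun h1 (Sum.inr r)) (Sum.inr r.rev)
    rwa [hent, hent, neg_inj] at this
  have h2 : xR D F r (t - u) = 1 := by
    rw [sub_eq_add_neg, ← hD.xR_add, h1, hD.xR_add, add_neg_cancel, Good.xR_zero]
  have := congrFun (congrFun h2 (Sum.inr r)) (Sum.inr r.rev)
  rw [hent, Matrix.one_apply_ne (by simp [(hD.rev_ne r).symm]), neg_eq_zero,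
    pow_eq_zero_iff (by omega), sub_eq_zero] at this
  exact hne this

end CfsgLib.Chevalley
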