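import Cfsg.Agent.Chevalley.Basic
import Cfsg.Prelude.Def_ChevE6
/-!
The tables of type E6 pass all the checks.
-/

set_option autoImplicit false

namespace CfsgLib.Chevalley

open Cfsg.Lie

theorem chevE6_basic : chkBasic chevE6 = true := by decide +kernel
theorem chevE6_chain : chkChain chevE6 = true := by decide +kernel
theorem chevE6_weight : chkWeight chevE6 = true := by decide +kernel
theorem chevE6_height : chkHeight chevE6 = true := by decide +kernel
theorem chevE6_powers : chkPowers chevE6 = true := by decide +kernel
theorem chevE6_mixed : chkMixed chevE6 = true := by decide +kernel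
theorem chevE6_parentPos : chkParent chevE6 false = true := by decide +kernel
theorem chevE6_parentNeg : chkParent chevE6 true = true := by decide +kernel
theorem chevE6_reach : chkReach chevE6 = true := by decide +kernel

theorem good_chevE6 : Good chevE6 :=
  ⟨chevE6_basic, chevE6_chain, chevE6_weight, chevE6_height, chevE6_powers, chevE6_mixed, chevE6_parentPos, chevE6_parentNeg, chevE6_reach⟩

end CfsgLib.Chevalley
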