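import Cfsg.Agent.Chevalley.CommChecks
import Cfsg.Prelude.Def_ChevG2
import Cfsg.Prelude.Def_ChevB2
import Cfsg.Prelude.Def_ChevD4
import Cfsg.Prelude.Def_ChevF4
import Cfsg.Prelude.Def_ChevE6
import Cfsg.Prelude.Def_ChevE7
/-!
Kernel evaluation of the commutator checks on the six smaller sets of tables.
-/

set_option autoImplicit false

namespace CfsgLib.Chevalley

open Cfsg.Lie

theorem chevG2_comm : chkComm chevG2 = true := by decide +kernel
theorem chevB2_comm : chkComm chevB2 = true := by decide +kernel
theorem chevD4_comm : chkComm chevD4 = true := by decide +kernel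
theorem chevF4_comm : chkComm chevF4 = true := by decide +kernel
theorem chevE6_comm : chkComm chevE6 = true := by decide +kernel
theorem chevE7_comm : chkComm chevE7 = true := by decide +kernel

end CfsgLib.Chevalley
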