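import Cfsg.Agent.Chevalley.CommChecks
import Cfsg.Prelude.Def_ChevE8
/-!
Kernel evaluation of the commutator check on the tables of type E8.
-/

set_option autoImplicit false

namespace CfsgLib.Chevalley

open Cfsg.Lie

theorem chevE8_comm : chkComm chevE8 = true := by decide +kernel

end CfsgLib.Chevalley
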