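import Cfsg.Agent.Chevalley.Basic
import Cfsg.Prelude.Def_ChevB2
/-!
The tables of type B2 pass all the checks.
-/

set_option autoImplicit false

namespace CfsgLib.Chevalley

open Cfsg.Lie

theorem chevB2_basic : chkBasic chevB2 = true := by decide +kernel
theorem chevB2_chain : chkChain chevB2 = true := by decide +kernel
theorem chevB2_weight : chkWeight chevB2 = true := by decide +kernel
theorem chevB2_height : chkHeight chevB2 = true := by decide +kernel
theorem chevB2_powers : chkPowers chevB2 = true := by decide +kernel
theorem chevB2_mixed : chkMixed chevB2 = true := by decide +kernel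
theorem chevB2_parentPos : chkParent chevB2 false = true := by decide +kernel
theorem chevB2_parentNeg : chkParent chevB2 true = true := by decide +kernel
theorem chevB2_reach : chkReach chevB2 = true := by decide +kernel

theorem good_chevB2 : Good chevB2 :=
  ⟨chevB2_basic, chevB2_chain, chevB2_weight, chevB2_height, chevB2_powers, chevB2_mixed, chevB2_parentPos, chevB2_parentNeg, chevB2_reach⟩

end CfsgLib.Chevalley
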