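import Cfsg.Agent.Chevalley.Basic
import Cfsg.Prelude.Def_ChevD4
/-!
The tables of type D4 pass all the checks.
-/

set_option autoImplicit false

namespace CfsgLib.Chevalley

open Cfsg.Lie

theorem chevD4_basic : chkBasic chevD4 = true := by decide +kernel
theorem chevD4_chain : chkChain chevD4 = true := by decide +kernel
theorem chevD4_weight : chkWeight chevD4 = true := by decide +kernel
theorem chevD4_height : chkHeight chevD4 = true := by decide +kernel
theorem chevD4_powers : chkPowers chevD4 = true := by decide +kernel
theorem chevD4_mixed : chkMixed chevD4 = true := by decide +kernel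
theorem chevD4_parentPos : chkParent chevD4 false = true := by decide +kernel
theorem chevD4_parentNeg : chkParent chevD4 true = true := by decide +kernel
theorem chevD4_reach : chkReach chevD4 = true := by decide +kernel

theorem good_chevD4 : Good chevD4 :=
  ⟨chevD4_basic, chevD4_chain, chevD4_weight, chevD4_height, chevD4_powers, chevD4_mixed, chevD4_parentPos, chevD4_parentNeg, chevD4_reach⟩

end CfsgLib.Chevalley
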