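import Cfsg.Agent.Chevalley.Checks
import Cfsg.Prelude.Def_ChevE7
/-!
Kernel evaluation of part of the checks on the tables of type E7.
-/

set_option autoImplicit false

namespace CfsgLib.Chevalley

open Cfsg.Lie

theorem chevE7_basic : chkBasic chevE7 = true := by decide +kernel
theorem chevE7_chain : chkChain chevE7 = true := by decide +kernel
theorem chevE7_weight : chkWeight chevE7 = true := by decide +kernel
theorem chevE7_height : chkHeight chevE7 = true := by decide +kernel
theorem chevE7_mixed : chkMixed chevE7 = true := by decide +kernel
theorem chevE7_reach : chkReach chevE7 = true := by decide +kernel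

end CfsgLib.Chevalley
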