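import Cfsg.Agent.Chevalley.Checks
import Cfsg.Prelude.Def_ChevE7
/-!
Kernel evaluation, in blocks of roots, of part of the checks on the tables of type E7.
-/

set_option autoImplicit false

namespace CfsgLib.Chevalley

open Cfsg.Lie

theorem chevE7_powers_block0 :
    ((List.range' 0 42).all (chkPowersAt chevE7)) = true := by decide +kernel

theorem chevE7_powers_block1 :
    ((List.range' 42 42).all (chkPowersAt chevE7)) = true := by decide +kernel

theorem chevE7_powers_block2 :
    ((List.range' 84 42).all (chkPowersAt chevE7)) = true := by decide +kernel

theorem chevE7_powers : chkPowers chevE7 = true := by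
  rw [chkPowers, show List.range chevE7.nroots = List.range' 0 42 ++ List.range' 42 42 ++ List.range' 84 42 from by decide +kernel]
  simp only [List.all_append, Bool.and_eq_true]
  exact ⟨⟨chevE7_powers_block0, chevE7_powers_block1⟩, chevE7_powers_block2⟩

theorem chevE7_parentPos_block0 :
    ((List.range' 0 42).all (chkParentAt chevE7 false)) = true := by decide +kernel

theorem chevE7_parentPos_block1 :
    ((List.range' 42 42).all (chkParentAt chevE7 false)) = true := by decide +kernel

theorem chevE7_parentPos_block2 :
    ((List.range' 84 42).all (chkParentAt chevE7 false)) = true := by decide +kernel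

theorem chevE7_parentPos : chkParent chevE7 false = true := by
  rw [chkParent, show List.range chevE7.nroots = List.range' 0 42 ++ List.range' 42 42 ++ List.range' 84 42 from by decide +kernel]
  simp only [List.all_append, Bool.and_eq_true]
  exact ⟨⟨chevE7_parentPos_block0, chevE7_parentPos_block1⟩, chevE7_parentPos_block2⟩

theorem chevE7_parentNeg_block0 :
    ((List.range' 0 42).all (chkParentAt chevE7 true)) = true := by decide +kernel

theorem chevE7_parentNeg_block1 :
    ((List.range' 42 42).all (chkParentAt chevE7 true)) = true := by decide +kernel

theorem chevE7_parentNeg_block2 :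
    ((List.range' 84 42).all (chkParentAt chevE7 true)) = true := by decide +kernel

theorem chevE7_parentNeg : chkParent chevE7 true = true := by
  rw [chkParent, show List.range chevE7.nroots = List.range' 0 42 ++ List.range' 42 42 ++ List.range' 84 42 from by decide +kernel]
  simp only [List.all_append, Bool.and_eq_true]
  exact ⟨⟨chevE7_parentNeg_block0, chevE7_parentNeg_block1⟩, chevE7_parentNeg_block2⟩


end CfsgLib.Chevalley
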