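import Cfsg.Agent.Chevalley.Basic
import Cfsg.Prelude.Def_ChevE7
import Cfsg.Agent.Chevalley.GoodE7PartA
import Cfsg.Agent.Chevalley.GoodE7PartB
/-!
The tables of type E7 pass all the checks.
-/

set_option autoImplicit false

namespace CfsgLib.Chevalley

open Cfsg.Lie

theorem good_chevE7 : Good chevE7 :=
  ⟨chevE7_basic, chevE7_chain, chevE7_weight, chevE7_height, chevE7_powers, chevE7_mixed, chevE7_parentPos, chevE7_parentNeg, chevE7_reach⟩

end CfsgLib.Chevalley
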