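import Cfsg.Agent.Chevalley.Checks
import Cfsg.Prelude.Def_ChevE8
/-!
Kernel evaluation of part of the checks on the tables of type E8.
-/

set_option autoImplicit false

namespace CfsgLib.Chevalley

open Cfsg.Lie

theorem chevE8_basic : chkBasic chevE8 = true := by decide +kernel
theorem chevE8_chain : chkChain chevE8 = true := by decide +kernel
theorem chevE8_height : chkHeight chevE8 = true := by decide +kernel
theorem chevE8_mixed : chkMixed chevE8 = true := by decide +kernel
theorem chevE8_reach : chkReach chevE8 = true := by decide +kernel

end CfsgLib.Chevalley
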