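import Cfsg.Agent.Chevalley.Checks
import Cfsg.Prelude.Def_ChevE8
/-!
Kernel evaluation, in blocks of roots, of part of the checks on the tables of type E8.
-/

set_option autoImplicit false

namespace CfsgLib.Chevalley

open Cfsg.Lie

theorem chevE8_parentPos_block0 :
    ((List.range' 0 30).all (chkParentAt chevE8 false)) = true := by decide +kernel

theorem chevE8_parentPos_block1 :
    ((List.range' 30 30).all (chkParentAt chevE8 false)) = true := by decide +kernel

theorem chevE8_parentPos_block2 :
    ((List.range' 60 30).all (chkParentAt chevE8 false)) = true := by decide +kernel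

theorem chevE8_parentPos_block3 :
    ((List.range' 90 30).all (chkParentAt chevE8 false)) = true := by decide +kernel

theorem chevE8_parentPos_block4 :
    ((List.range' 120 30).all (chkParentAt chevE8 false)) = true := by decide +kernel

theorem chevE8_parentPos_block5 :
    ((List.range' 150 30).all (chkParentAt chevE8 false)) = true := by decide +kernel

theorem chevE8_parentPos_block6 :
    ((List.range' 180 30).all (chkParentAt chevE8 false)) = true := by decide +kernel

theorem chevE8_parentPos_block7 :
    ((List.range' 210 30).all (chkParentAt chevE8 false)) = true := by decide +kernel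

theorem chevE8_parentPos : chkParent chevE8 false = true := by
  rw [chkParent, show List.range chevE8.nroots = List.range' 0 30 ++ List.range' 30 30 ++ List.range' 60 30 ++ List.range' 90 30 ++ List.range' 120 30 ++ List.range' 150 30 ++ List.range' 180 30 ++ List.range' 210 30 from by decide +kernel]
  simp only [List.all_append, Bool.and_eq_true]
  exact ⟨⟨⟨⟨⟨⟨⟨chevE8_parentPos_block0, chevE8_parentPos_block1⟩, chevE8_parentPos_block2⟩, chevE8_parentPos_block3⟩, chevE8_parentPos_block4⟩, chevE8_parentPos_block5⟩, chevE8_parentPos_block6⟩, chevE8_parentPos_block7⟩

end CfsgLib.Chevalley
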