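import Cfsg.Agent.Chevalley.Basic
import Cfsg.Prelude.Def_ChevE8
import Cfsg.Agent.Chevalley.GoodE8PartA
import Cfsg.Agent.Chevalley.GoodE8PartB
import Cfsg.Agent.Chevalley.GoodE8PartC
import Cfsg.Agent.Chevalley.GoodE8PartD
import Cfsg.Agent.Chevalley.GoodE8PartE
/-!
The tables of type E8 pass all the checks.
-/

set_option autoImplicit false

namespace CfsgLib.Chevalley

open Cfsg.Lie

theorem good_chevE8 : Good chevE8 :=
  ⟨chevE8_basic, chevE8_chain, chevE8_weight, chevE8_height, chevE8_powers, chevE8_mixed, chevE8_parentPos, chevE8_parentNeg, chevE8_reach⟩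

end CfsgLib.Chevalley
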