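import Cfsg.Agent.Chevalley.Basic
import Cfsg.Prelude.Def_ChevF4
/-!
The tables of type F4 pass all the checks.
-/

set_option autoImplicit false

namespace CfsgLib.Chevalley

open Cfsg.Lie

theorem chevF4_basic : chkBasic chevF4 = true := by decide +kernel
theorem chevF4_chain : chkChain chevF4 = true := by decide +kernel
theorem chevF4_weight : chkWeight chevF4 = true := by decide +kernel
theorem chevF4_height : chkHeight chevF4 = true := by decide +kernel
theorem chevF4_powers : chkPowers chevF4 = true := by decide +kernel
theorem chevF4_mixed : chkMixed chevF4 = true := by decide +kernel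
theorem chevF4_parentPos : chkParent chevF4 false = true := by decide +kernel
theorem chevF4_parentNeg : chkParent chevF4 true = true := by decide +kernel
theorem chevF4_reach : chkReach chevF4 = true := by decide +kernel

theorem good_chevF4 : Good chevF4 :=
  ⟨chevF4_basic, chevF4_chain, chevF4_weight, chevF4_height, chevF4_powers, chevF4_mixed, chevF4_parentPos, chevF4_parentNeg, chevF4_reach⟩

end CfsgLib.Chevalley
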