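import Cfsg.Agent.Chevalley.GoodG2
import Cfsg.Agent.Chevalley.GoodB2
import Cfsg.Agent.Chevalley.GoodD4
import Cfsg.Agent.Chevalley.GoodF4
import Cfsg.Agent.Chevalley.GoodE6
import Cfsg.Agent.Chevalley.GoodE7
import Cfsg.Agent.Chevalley.GoodE8
/-!
The seven tabulated data are good.
-/

set_option autoImplicit false

namespace CfsgLib.Chevalley

open Cfsg.Lie

theorem good_of_mem {D : ChevalleyDatum}
    (hD : D ∈ [chevG2, chevB2, chevD4, chevF4, chevE6, chevE7, chevE8]) : Good D := by
  simp only [List.mem_cons, List.not_mem_nil, or_false] at hD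
  rcases hD with rfl | rfl | rfl | rfl | rfl | rfl | rfl
  exacts [good_chevG2, good_chevB2, good_chevD4, good_chevF4, good_chevE6, good_chevE7, good_chevE8]

end CfsgLib.Chevalley
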