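import Cfsg.Agent.Chevalley.Commutator
import Cfsg.Agent.Chevalley.GoodData
import Cfsg.Agent.Chevalley.CommDataA
import Cfsg.Agent.Chevalley.CommDataB
/-!
The seven tabulated data satisfy the commutator formula.
-/

set_option autoImplicit false

namespace CfsgLib.Chevalley

open Cfsg.Lie

theorem goodComm_of_mem {D : ChevalleyDatum}
    (hD : D ∈ [chevG2, chevB2, chevD4, chevF4, chevE6, chevE7, chevE8]) : GoodComm D := by
  refine ⟨good_of_mem hD, ?_⟩
  simp only [List.mem_cons, List.not_mem_nil, or_false] at hD
  rcases hD with rfl | rfl | rfl | rfl | rfl | rfl | rfl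
  exacts [chevG2_comm, chevB2_comm, chevD4_comm, chevF4_comm, chevE6_comm, chevE7_comm, chevE8_comm]

end CfsgLib.Chevalley
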