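import Cfsg.Agent.Chevalley.UnipotentMain
import Cfsg.Agent.Chevalley.CommData
/-!
The seven tabulated data have primitive coroots.
-/

set_option autoImplicit false

namespace CfsgLib.Chevalley

open Cfsg.Lie

theorem chevG2_primitive : chkPrimitive chevG2 = true := by decide +kernel
theorem chevB2_primitive : chkPrimitive chevB2 = true := by decide +kernel
theorem chevD4_primitive : chkPrimitive chevD4 = true := by decide +kernel
theorem chevF4_primitive : chkPrimitive chevF4 = true := by decide +kernel
theorem chevE6_primitive : chkPrimitive chevE6 = true := by decide +kernel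
theorem chevE7_primitive : chkPrimitive chevE7 = true := by decide +kernel
theorem chevE8_primitive : chkPrimitive chevE8 = true := by decide +kernel

theorem goodUni_of_mem {D : ChevalleyDatum}
    (hD : D ∈ [chevG2, chevB2, chevD4, chevF4, chevE6, chevE7, chevE8]) : GoodUni D := by
  refine ⟨goodComm_of_mem hD, ?_⟩
  simp only [List.mem_cons, List.not_mem_nil, or_false] at hD
  rcases hD with rfl | rfl | rfl | rfl | rfl | rfl | rfl
  exacts [chevG2_primitive, chevB2_primitive, chevD4_primitive, chevF4_primitive, chevE6_primitive,
    chevE7_primitive, chevE8_primitive]

end CfsgLib.Chevalley
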