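import Cfsg.Agent.Chevalley.WeylChecks
import Cfsg.Prelude.Def_ChevG2
import Cfsg.Prelude.Def_ChevB2
import Cfsg.Prelude.Def_ChevD4
import Cfsg.Prelude.Def_ChevF4
import Cfsg.Prelude.Def_ChevE6
import Cfsg.Prelude.Def_ChevE7
import Cfsg.Prelude.Def_ChevE8
/-!
Kernel evaluation of the reflection checks on the seven sets of tables.
-/

set_option autoImplicit false

namespace CfsgLib.Chevalley

open Cfsg.Lie

theorem chevG2_refl0 : chkRefl chevG2 0 = true := by decide +kernel
theorem chevG2_refl1 : chkRefl chevG2 1 = true := by decide +kernel

theorem chevG2_reflAll : chkReflAll chevG2 = true := by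
  rw [chkReflAll, show List.range chevG2.rank = [0, 1] from by decide +kernel]
  simp [chevG2_refl0, chevG2_refl1]

theorem chevG2_descent : chkDescent chevG2 = true := by decide +kernel

theorem chevB2_refl0 : chkRefl chevB2 0 = true := by decide +kernel
theorem chevB2_refl1 : chkRefl chevB2 1 = true := by decide +kernel

theorem chevB2_reflAll : chkReflAll chevB2 = true := by
  rw [chkReflAll, show List.range chevB2.rank = [0, 1] from by decide +kernel]
  simp [chevB2_refl0, chevB2_refl1]

theorem chevB2_descent : chkDescent chevB2 = true := by decide +kernel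

theorem chevD4_refl0 : chkRefl chevD4 0 = true := by decide +kernel
theorem chevD4_refl1 : chkRefl chevD4 1 = true := by decide +kernel
theorem chevD4_refl2 : chkRefl chevD4 2 = true := by decide +kernel
theorem chevD4_refl3 : chkRefl chevD4 3 = true := by decide +kernel

theorem chevD4_reflAll : chkReflAll chevD4 = true := by
  rw [chkReflAll, show List.range chevD4.rank = [0, 1, 2, 3] from by decide +kernel]
  simp [chevD4_refl0, chevD4_refl1, chevD4_refl2, chevD4_refl3]

theorem chevD4_descent : chkDescent chevD4 = true := by decide +kernel

theorem chevF4_refl0 : chkRefl chevF4 0 = true := by decide +kernel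
theorem chevF4_refl1 : chkRefl chevF4 1 = true := by decide +kernel
theorem chevF4_refl2 : chkRefl chevF4 2 = true := by decide +kernel
theorem chevF4_refl3 : chkRefl chevF4 3 = true := by decide +kernel

theorem chevF4_reflAll : chkReflAll chevF4 = true := by
  rw [chkReflAll, show List.range chevF4.rank = [0, 1, 2, 3] from by decide +kernel]
  simp [chevF4_refl0, chevF4_refl1, chevF4_refl2, chevF4_refl3]

theorem chevF4_descent : chkDescent chevF4 = true := by decide +kernel

theorem chevE6_refl0 : chkRefl chevE6 0 = true := by decide +kernel
theorem chevE6_refl1 : chkRefl chevE6 1 = true := by decide +kernel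
theorem chevE6_refl2 : chkRefl chevE6 2 = true := by decide +kernel
theorem chevE6_refl3 : chkRefl chevE6 3 = true := by decide +kernel
theorem chevE6_refl4 : chkRefl chevE6 4 = true := by decide +kernel
theorem chevE6_refl5 : chkRefl chevE6 5 = true := by decide +kernel

theorem chevE6_reflAll : chkReflAll chevE6 = true := by
  rw [chkReflAll, show List.range chevE6.rank = [0, 1, 2, 3, 4, 5] from by decide +kernel]
  simp [chevE6_refl0, chevE6_refl1, chevE6_refl2, chevE6_refl3, chevE6_refl4, chevE6_refl5]

theorem chevE6_descent : chkDescent chevE6 = true := by decide +kernel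

theorem chevE7_refl0 : chkRefl chevE7 0 = true := by decide +kernel
theorem chevE7_refl1 : chkRefl chevE7 1 = true := by decide +kernel
theorem chevE7_refl2 : chkRefl chevE7 2 = true := by decide +kernel
theorem chevE7_refl3 : chkRefl chevE7 3 = true := by decide +kernel
theorem chevE7_refl4 : chkRefl chevE7 4 = true := by decide +kernel
theorem chevE7_refl5 : chkRefl chevE7 5 = true := by decide +kernel
theorem chevE7_refl6 : chkRefl chevE7 6 = true := by decide +kernel

theorem chevE7_reflAll : chkReflAll chevE7 = true := by
  rw [chkReflAll, show List.range chevE7.rank = [0, 1, 2, 3, 4, 5, 6] from by decide +kernel]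
  simp [chevE7_refl0, chevE7_refl1, chevE7_refl2, chevE7_refl3, chevE7_refl4, chevE7_refl5, chevE7_refl6]

theorem chevE7_descent : chkDescent chevE7 = true := by decide +kernel

theorem chevE8_refl0 : chkRefl chevE8 0 = true := by decide +kernel
theorem chevE8_refl1 : chkRefl chevE8 1 = true := by decide +kernel
theorem chevE8_refl2 : chkRefl chevE8 2 = true := by decide +kernel
theorem chevE8_refl3 : chkRefl chevE8 3 = true := by decide +kernel
theorem chevE8_refl4 : chkRefl chevE8 4 = true := by decide +kernel
theorem chevE8_refl5 : chkRefl chevE8 5 = true := by decide +kernel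
theorem chevE8_refl6 : chkRefl chevE8 6 = true := by decide +kernel
theorem chevE8_refl7 : chkRefl chevE8 7 = true := by decide +kernel

theorem chevE8_reflAll : chkReflAll chevE8 = true := by
  rw [chkReflAll, show List.range chevE8.rank = [0, 1, 2, 3, 4, 5, 6, 7] from by decide +kernel]
  simp [chevE8_refl0, chevE8_refl1, chevE8_refl2, chevE8_refl3, chevE8_refl4, chevE8_refl5, chevE8_refl6, chevE8_refl7]

theorem chevE8_descent : chkDescent chevE8 = true := by decide +kernel

end CfsgLib.Chevalley
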