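import Cfsg.Agent.Chevalley.Reflection
import Cfsg.Agent.Chevalley.UniData
import Cfsg.Agent.Chevalley.WeylDataChecks
/-!
The seven tabulated data pass the reflection checks.
-/

set_option autoImplicit false

namespace CfsgLib.Chevalley

open Cfsg.Lie

theorem goodWeyl_of_mem {D : ChevalleyDatum}
    (hD : D ∈ [chevG2, chevB2, chevD4, chevF4, chevE6, chevE7, chevE8]) : GoodWeyl D := by
  refine ⟨goodUni_of_mem hD, ?_, ?_⟩
  all_goals
    simp only [List.mem_cons, List.not_mem_nil, or_false] at hD
    rcases hD with rfl | rfl | rfl | rfl | rfl | rfl | rfl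
  exacts [chevG2_reflAll, chevB2_reflAll, chevD4_reflAll, chevF4_reflAll, chevE6_reflAll,
    chevE7_reflAll, chevE8_reflAll, chevG2_descent, chevB2_descent, chevD4_descent,
    chevF4_descent, chevE6_descent, chevE7_descent, chevE8_descent]

end CfsgLib.Chevalley
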