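import Cfsg.Agent.Chevalley.Torus
import Cfsg.Agent.Chevalley.UnipotentMain
import Mathlib.GroupTheory.QuotientGroup.Basic
/-!
The monomial subgroup `N`: it normalises `H`, permutes the root subgroups, and satisfies the
conjugation rule from which the braid relations modulo `H` follow.
-/

set_option autoImplicit false

namespace CfsgLib.Chevalley

open Cfsg.Lie
open scoped MatrixGroups

variable {D : ChevalleyDatum} {F : Type*} [Field F]

/-! ### Root elements of distinct roots differ -/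

/-- The coroot entry of a root element. -/
theorem xR_entry_coroot (hD : Good D) {R : Type*} [CommRing R] (r v : Root D) (t : R)
    (i : Fin D.rank) :
    xR D R r t (Sum.inl i) (Sum.inr v) =
      if v = r.rev then t * ((D.coroot.getD r #[]).getD i 0 : R) else 0 := by
  by_cases h : v = r.rev <;>
    simp [xR, Finset.sum_range_succ, E_apply_one hD, E_apply_two hD, E_apply_three hD, h]

theorem X_ne (hU : GoodUni D) {r s : Root D} (hrs : r ≠ s) {t : F} (ht : t ≠ 0) (u : F) :
    X hU.good r t ≠ X hU.good s u := by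
  intro h
  obtain ⟨i, hi⟩ := hU.exists_coroot_ne F r
  have e := congrArg (fun g : GL D.Idx F => (g : Matrix D.Idx D.Idx F) (Sum.inl i) (Sum.inr r.rev)) h
  simp only [coe_X, xR_entry_coroot hU.good, if_pos, Fin.rev_inj, if_neg hrs] at e
  exact mul_ne_zero ht hi e

/-- A root element inside a unipotent subgroup belongs to a root of that side. -/
theorem key_of_X_mem (hU : GoodUni D) {b : Bool} {r : Root D} {t : F} (ht : t ≠ 0) {m : ℕ}
    (h : X hU.good r t ∈ uGe hU.good F b m) : half D ≤ key b r := by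
  by_contra hr
  obtain ⟨i, hi⟩ := hU.exists_coroot_ne F r
  have hlow := isLower_of_mem hU.good h
  have hord : ord b (Sum.inl i : D.Idx) ≤ ord b (Sum.inr r.rev : D.Idx) := by
    have := key_rev b r
    have := hU.good.two_half
    simp only [ord, Sum.elim_inl, Sum.elim_inr, if_neg (show ¬ key b r.rev < half D by omega)]
    omega
  have e := hlow.2 _ _ (by simp) hord
  rw [coe_X, xR_entry_coroot hU.good, if_pos rfl] at e
  exact mul_ne_zero ht hi e

/-! ### The torus scales root elements -/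

theorem hT_pRoot_conj_X (hW : GoodWeyl D) (i : Fin D.rank) (t : Fˣ) (r : Root D) (u : F) :
    hT F (pRoot hW i) t * X hW.good r u * (hT F (pRoot hW i) t)⁻¹ =
      X hW.good r (((t ^ D.cartan i r : Fˣ) : F) * u) := by
  rw [mul_inv_eq_iff_eq_mul]
  apply Units.ext
  rw [Units.val_mul, Units.val_mul, coe_X, coe_X]
  ext a b
  have hdiag : ((hT F (pRoot hW i) t : GL D.Idx F) : Matrix D.Idx D.Idx F) =
      Matrix.diagonal fun a => ((t : F)) ^ wt D i a := by
    refine congrArg Matrix.diagonal (funext fun a => ?_)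
    rcases a with j | s
    · simp [wt]
    · simp [wt, hW.pairing_pRoot]
  rw [hdiag, Matrix.diagonal_mul, Matrix.mul_diagonal]
  simp only [xR, Matrix.sum_apply, Matrix.smul_apply, Matrix.map_apply, smul_eq_mul,
    Finset.mul_sum, Finset.sum_mul]
  refine Finset.sum_congr rfl fun k _ => ?_
  by_cases hk : E D r k a b = 0
  · simp [hk]
  · rw [hW.good.wt_of_E_ne_zero r k i hk, zpow_add₀ t.ne_zero, mul_pow, Units.val_zpow_eq_zpow_val,
      mul_comm (k : ℤ), zpow_mul, zpow_natCast]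
    ring

/-! ### Monomial action on the root subgroups -/

/-- `g` carries each root subgroup `X_r` to `X_{π r}`, with inverse scalars for opposite roots. -/
def MonBy (hW : GoodWeyl D) (g : GL D.Idx F) (π : Equiv.Perm (Root D)) : Prop :=
  ∀ r, ∃ c : Fˣ, (∀ t : F, g * X hW.good r t * g⁻¹ = X hW.good (π r) ((c : F) * t)) ∧
    ∀ t : F, g * X hW.good r.rev t * g⁻¹ = X hW.good (π r).rev (((c⁻¹ : Fˣ) : F) * t)

theorem MonBy.conj_X {hW : GoodWeyl D} {g : GL D.Idx F} {π : Equiv.Perm (Root D)}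
    (hg : MonBy hW g π) (r : Root D) :
    ∃ c : Fˣ, ∀ t : F, g * X hW.good r t * g⁻¹ = X hW.good (π r) ((c : F) * t) :=
  let ⟨c, hc, _⟩ := hg r
  ⟨c, hc⟩

theorem MonBy.one (hW : GoodWeyl D) : MonBy hW (1 : GL D.Idx F) 1 :=
  fun r => ⟨1, fun t => by simp, fun t => by simp⟩

theorem MonBy.mul {hW : GoodWeyl D} {g h : GL D.Idx F} {π ρ : Equiv.Perm (Root D)}
    (hg : MonBy hW g π) (hh : MonBy hW h ρ) : MonBy hW (g * h) (π * ρ) := by
  intro r
  obtain ⟨c, hc, hc'⟩ := hh r
  obtain ⟨d, hd, hd'⟩ := hg (ρ r)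
  refine ⟨d * c, fun t => ?_, fun t => ?_⟩
  · rw [show g * h * X hW.good r t * (g * h)⁻¹ = g * (h * X hW.good r t * h⁻¹) * g⁻¹ by group,
      hc, hd, Units.val_mul, mul_assoc, Equiv.Perm.mul_apply]
  · rw [show g * h * X hW.good r.rev t * (g * h)⁻¹ = g * (h * X hW.good r.rev t * h⁻¹) * g⁻¹ by
      group, hc', hd', mul_inv, Units.val_mul, mul_assoc, Equiv.Perm.mul_apply]

theorem MonBy.inv {hW : GoodWeyl D} {g : GL D.Idx F} {π : Equiv.Perm (Root D)}
    (hg : MonBy hW g π) : MonBy hW g⁻¹ π⁻¹ := by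
  intro r
  obtain ⟨c, hc, hc'⟩ := hg (π⁻¹ r)
  rw [show π (π⁻¹ r) = r from π.apply_symm_apply r] at hc hc'
  refine ⟨c⁻¹, fun t => ?_, fun t => ?_⟩
  · have := hc ((c⁻¹ : Fˣ) * t)
    rw [← mul_assoc, ← Units.val_mul, mul_inv_cancel, Units.val_one, one_mul] at this
    rw [← this]
    group
  · have := hc' (((c⁻¹)⁻¹ : Fˣ) * t)
    rw [← mul_assoc, ← Units.val_mul, mul_inv_cancel, Units.val_one, one_mul] at this
    rw [← this]
    group

theorem MonBy.unique {hW : GoodWeyl D} {g : GL D.Idx F} {π ρ : Equiv.Perm (Root D)}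
    (hg : MonBy hW g π) (hg' : MonBy hW g ρ) : π = ρ := by
  refine Equiv.ext fun r => ?_
  obtain ⟨c, hc⟩ := hg.conj_X r
  obtain ⟨d, hd⟩ := hg'.conj_X r
  by_contra hne
  exact X_ne hW.toGoodUni hne (show (c : F) * 1 ≠ 0 by simp) _ ((hc 1).symm.trans (hd 1))

theorem MonBy.apply_rev {hW : GoodWeyl D} {g : GL D.Idx F} {π : Equiv.Perm (Root D)}
    (hg : MonBy hW g π) (r : Root D) : π r.rev = (π r).rev := by
  obtain ⟨c, -, hc⟩ := hg r
  obtain ⟨d, hd⟩ := hg.conj_X r.rev
  by_contra hne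
  exact X_ne hW.toGoodUni hne (show (d : F) * 1 ≠ 0 by simp) _ ((hd 1).symm.trans (hc 1))

/-- The conjugate of `n_r(t)` by a monomial element. -/
theorem MonBy.conj_nElt {hW : GoodWeyl D} {g : GL D.Idx F} {π : Equiv.Perm (Root D)}
    (hg : MonBy hW g π) (r : Root D) (t : Fˣ) :
    ∃ u : Fˣ, g * nElt hW.good r t * g⁻¹ = nElt hW.good (π r) u := by
  obtain ⟨c, hc, hc'⟩ := hg r
  refine ⟨c * t, ?_⟩
  rw [nElt, show ∀ n x y z : GL D.Idx F,
    n * (x * y * z) * n⁻¹ = (n * x * n⁻¹) * (n * y * n⁻¹) * (n * z * n⁻¹) from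
    fun n x y z => by group, hc, hc', nElt, mul_inv, mul_neg, Units.val_mul, Units.val_mul]

theorem monBy_diag (hW : GoodWeyl D) {g : GL D.Idx F} (hg : g ∈ D.diagonalSubgroup F) :
    MonBy hW g 1 := by
  rw [diagonalSubgroup_eq_range hW] at hg
  obtain ⟨c, rfl⟩ := hg
  show MonBy hW (torC D c) 1
  rw [torC_eq_prod hW]
  induction (List.finRange D.rank) with
  | nil => exact MonBy.one hW
  | cons k L ih =>
    rw [List.map_cons, List.prod_cons]
    refine (one_mul (1 : Equiv.Perm (Root D))) ▸ MonBy.mul (fun r => ?_) ih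
    exact ⟨c k ^ D.cartan k r, fun u => hT_pRoot_conj_X hW k _ r u, fun u => by
      rw [hT_pRoot_conj_X, hW.good.cartan_rev, zpow_neg, Equiv.Perm.one_apply]⟩

theorem diag_conj_X (hW : GoodWeyl D) {g : GL D.Idx F} (hg : g ∈ D.diagonalSubgroup F)
    (r : Root D) : ∃ c : Fˣ, ∀ u : F, g * X hW.good r u * g⁻¹ = X hW.good r ((c : F) * u) :=
  (monBy_diag hW hg).conj_X r

theorem monBy_nR (hW : GoodWeyl D) (i : Fin D.rank) :
    MonBy hW (nR hW i : GL D.Idx F) (wPerm hW i) := by
  intro r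
  have h : (eta D i r : F) * eta D i r = 1 := by rw [← Int.cast_mul, hW.eta_sq, Int.cast_one]
  refine ⟨⟨_, _, h, h⟩, fun t => nR_conj hW i r t, fun t => ?_⟩
  rw [nR_conj hW i r.rev t, hW.wPerm_rev, hW.eta_rev]
  rfl

/-! ### The monomial subgroup -/

theorem coe_nElt_one (hW : GoodWeyl D) (r : Root D) :
    ((nElt hW.good r (1 : Fˣ) : GL D.Idx F) : Matrix D.Idx D.Idx F) = D.nMat F r 1 := by
  rw [ChevalleyDatum.nMat, ← coe_wordGL hW.good, ChevalleyDatum.nWord, hW.good.neg_fin r,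
    wordGL_cons, wordGL_cons, wordGL_cons, nElt]
  simp [wordGL, mul_assoc]

theorem nR_mem_monomial (hW : GoodWeyl D) (i : Fin D.rank) :
    (nR hW i : GL D.Idx F) ∈ D.monomialSubgroup F :=
  Subgroup.mem_sup_right (Subgroup.subset_closure ⟨D.simple i, hW.good.simple_lt i.isLt, coe_nR hW i⟩)

theorem diag_le_monomial (D : ChevalleyDatum) : D.diagonalSubgroup F ≤ D.monomialSubgroup F :=
  le_sup_left

theorem monomialSubgroup_eq (hW : GoodWeyl D) :
    D.monomialSubgroup F =
      D.diagonalSubgroup F ⊔ Subgroup.closure (Set.range (nR hW : Fin D.rank → GL D.Idx F)) := by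
  refine le_antisymm (sup_le le_sup_left ((Subgroup.closure_le _).2 ?_))
    (sup_le le_sup_left ((Subgroup.closure_le _).2 ?_))
  · rintro g ⟨r, hr, hg⟩
    rw [show g = nElt hW.good ⟨r, hr⟩ (1 : Fˣ) from Units.ext (hg.trans (coe_nElt_one hW ⟨r, hr⟩).symm)]
    set K := D.diagonalSubgroup F ⊔ Subgroup.closure (Set.range (nR hW : Fin D.rank → GL D.Idx F))
    refine hW.root_induction (P := fun r => nElt hW.good r (1 : Fˣ) ∈ K) (fun i => ?_) ?_ _
    · exact (nElt_one (F := F) hW i) ▸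
        Subgroup.mem_sup_right (Subgroup.subset_closure ⟨i, rfl⟩)
    · intro i s hs
      have hn : (nR hW i : GL D.Idx F) ∈ K :=
        Subgroup.mem_sup_right (Subgroup.subset_closure ⟨i, rfl⟩)
      obtain ⟨c, hc⟩ : ∃ c : Fˣ, (c : F) = (eta D i s : F) := by
        have h : (eta D i s : F) * eta D i s = 1 := by
          rw [← Int.cast_mul, hW.eta_sq, Int.cast_one]
        exact ⟨⟨_, _, h, h⟩, rfl⟩
      have hcc : c = 1 ∨ c = -1 := by
        have := hW.eta_sq i s
        rcases mul_self_eq_one_iff.1 this with h | h <;> [left; right] <;>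
          exact Units.ext (by rw [hc, h]; simp)
      have hcs : nElt hW.good s c ∈ K := by
        rcases hcc with rfl | rfl
        · exact hs
        · rw [nElt_neg]; exact inv_mem hs
      have e := nElt_conj hW i s c c hc
      have hsq : c * c = 1 := by rcases hcc with rfl | rfl <;> simp
      rw [hsq] at e
      rw [← e]
      exact mul_mem (mul_mem hn hcs) (inv_mem hn)
  · rintro g ⟨i, rfl⟩
    exact nR_mem_monomial hW i

theorem monomial_induction (hW : GoodWeyl D) {P : GL D.Idx F → Prop} {g : GL D.Idx F}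
    (hg : g ∈ D.monomialSubgroup F) (hd : ∀ h ∈ D.diagonalSubgroup F, P h)
    (hn : ∀ i, P (nR hW i)) (hmul : ∀ a b, P a → P b → P (a * b)) (hinv : ∀ a, P a → P a⁻¹) :
    P g := by
  have h1 : P 1 := hd 1 (one_mem _)
  rw [monomialSubgroup_eq hW] at hg
  refine (sup_le (a := D.diagonalSubgroup F) ?_ ((Subgroup.closure_le _).2 ?_) :
    _ ≤ ({ carrier := {x | P x}
           one_mem' := h1
           mul_mem' := @fun a b => hmul a b
           inv_mem' := @fun a => hinv a } : Subgroup (GL D.Idx F))) hg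
  · exact fun h hh => hd h hh
  · rintro _ ⟨i, rfl⟩; exact hn i

theorem diag_comm (hW : GoodWeyl D) {a b : GL D.Idx F} (ha : a ∈ D.diagonalSubgroup F)
    (hb : b ∈ D.diagonalSubgroup F) : a * b = b * a := by
  rw [diagonalSubgroup_eq_range hW] at ha hb
  obtain ⟨c, rfl⟩ := ha
  obtain ⟨d, rfl⟩ := hb
  rw [← map_mul, ← map_mul, mul_comm]

/-- `N` normalises `H`. -/
theorem monomial_le_normalizer (hW : GoodWeyl D) :
    D.monomialSubgroup F ≤ Subgroup.normalizer (D.diagonalSubgroup F : Set (GL D.Idx F)) := by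
  rw [monomialSubgroup_eq hW]
  refine sup_le Subgroup.le_normalizer ((Subgroup.closure_le _).2 ?_)
  rintro _ ⟨i, rfl⟩
  rw [SetLike.mem_coe, Subgroup.mem_normalizer_iff]
  have key : ∀ g ∈ D.diagonalSubgroup F,
      nR hW i * g * (nR hW i)⁻¹ ∈ D.diagonalSubgroup F := by
    intro g hg
    rw [diagonalSubgroup_eq hW] at hg ⊢
    induction hg using Subgroup.closure_induction with
    | mem x hx =>
      obtain ⟨r, t, rfl⟩ := hx
      rw [nR_conj_hT]
      exact Subgroup.subset_closure ⟨_, _, rfl⟩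
    | one => simp
    | mul x y _ _ hx hy =>
      rw [show nR hW i * (x * y) * (nR hW i)⁻¹ =
        (nR hW i * x * (nR hW i)⁻¹) * (nR hW i * y * (nR hW i)⁻¹) by group]
      exact mul_mem hx hy
    | inv x _ hx =>
      rw [show nR hW i * x⁻¹ * (nR hW i)⁻¹ = (nR hW i * x * (nR hW i)⁻¹)⁻¹ by group]
      exact inv_mem hx
  refine fun h => ⟨fun hh => key h hh, fun hh => ?_⟩
  have hsq : (nR hW i : GL D.Idx F) * nR hW i ∈ D.diagonalSubgroup F :=
    nR_sq (F := F) hW i ▸ hT_mem_diagonal hW _ _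
  have := mul_mem (mul_mem (inv_mem hsq) (key _ hh)) hsq
  rwa [show (nR hW i * nR hW i)⁻¹ * (nR hW i * (nR hW i * h * (nR hW i)⁻¹) * (nR hW i)⁻¹) *
    (nR hW i * nR hW i) = h by group] at this

theorem exists_monBy (hW : GoodWeyl D) {g : GL D.Idx F} (hg : g ∈ D.monomialSubgroup F) :
    ∃ π : Equiv.Perm (Root D), MonBy hW g π :=
  monomial_induction hW (P := fun g => ∃ π, MonBy hW g π) hg
    (fun _ hh => ⟨1, monBy_diag hW hh⟩) (fun i => ⟨_, monBy_nR hW i⟩)
    (fun _ _ ⟨_, ha⟩ ⟨_, hb⟩ => ⟨_, ha.mul hb⟩) (fun _ ⟨_, ha⟩ => ⟨_, ha.inv⟩)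

/-- The roots negated by `s_k` are `± α_k`. -/
theorem eq_pRoot_of_wPerm_rev (hW : GoodWeyl D) {k : Fin D.rank} {r : Root D}
    (h : wPerm hW k r = r.rev) : r = pRoot hW k ∨ r = (pRoot hW k).rev := by
  have hh := hW.good.two_half
  have := r.isLt
  by_cases hr : half D ≤ r
  · left
    by_contra hne
    have := (hW.wPerm_pos k hr hne).1
    rw [h, Fin.val_rev] at this
    omega
  · right
    by_contra hne
    have hr' : half D ≤ (r.rev : ℕ) := by rw [Fin.val_rev]; omega
    have := (hW.wPerm_pos k hr' fun e => hne (by rw [← e, Fin.rev_rev])).1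
    rw [hW.wPerm_rev, h, Fin.rev_rev] at this
    omega

/-- Modulo `H`, conjugation in `N` follows the permutations of the roots. -/
theorem nR_conj_mod (hW : GoodWeyl D) {g : GL D.Idx F} {π : Equiv.Perm (Root D)}
    (hπ : MonBy hW g π) {i k : Fin D.rank} (h : π * wPerm hW i * π⁻¹ = wPerm hW k) :
    g * nR hW i * g⁻¹ * (nR hW k)⁻¹ ∈ D.diagonalSubgroup F := by
  obtain ⟨u, hu⟩ := hπ.conj_nElt (pRoot hW i) 1
  rw [nElt_one] at hu
  rw [hu]
  have hneg : wPerm hW k (π (pRoot hW i)) = (π (pRoot hW i)).rev := by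
    rw [← h]
    simp [hW.wPerm_pRoot, hπ.apply_rev]
  have hpos : ∀ t : Fˣ, nElt hW.good (pRoot hW k) t * (nR hW k)⁻¹ ∈ D.diagonalSubgroup F := by
    intro t
    rw [show nElt hW.good (pRoot hW k) t = hT F (pRoot hW k) t * nR hW k from nWord_eq hW k t,
      mul_inv_cancel_right]
    exact hT_mem_diagonal hW _ _
  rcases eq_pRoot_of_wPerm_rev hW hneg with e | e <;> rw [e]
  · exact hpos u
  · obtain ⟨c, hc⟩ : ∃ c : Fˣ, (c : F) = (eta D k (pRoot hW k) : F) :=
      ⟨-1, by rw [hW.eta_pRoot]; simp⟩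
    have e' := nElt_conj hW k (pRoot hW k) (c⁻¹ * u) c hc
    rw [mul_inv_cancel_left, hW.wPerm_pRoot] at e'
    rw [← e']
    have h1 := hpos (c⁻¹ * u)
    have h2 := (Subgroup.mem_normalizer_iff.1
      (monomial_le_normalizer hW (nR_mem_monomial (F := F) hW k))
        (nElt hW.good (pRoot hW k) (c⁻¹ * u) * (nR hW k)⁻¹)).1 h1
    simpa only [SetLike.mem_coe, mul_assoc] using h2

end CfsgLib.Chevalley
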