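import Cfsg.Agent.Chevalley.GroupOrder
import Mathlib.Algebra.Ring.GeomSum
/-!
The order of a Chevalley group from the degrees of its Weyl group.
-/

set_option autoImplicit false

namespace CfsgLib.Chevalley

open Cfsg.Lie

variable {D : ChevalleyDatum} {C : Weyl.Cert D.rank} {M : CoxeterMatrix (Fin D.rank)}
  {R : Weyl.RootTable}

theorem prod_geom_sum_mul {q : ℕ} (hq : 1 ≤ q) : ∀ degs : List ℕ,
    (degs.map fun d => ∑ i ∈ Finset.range d, q ^ i).prod * (q - 1) ^ degs.length =
      (degs.map fun d => q ^ d - 1).prod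
  | [] => by simp
  | d :: ds => by
    rw [List.map_cons, List.map_cons, List.prod_cons, List.prod_cons, List.length_cons, pow_succ,
      ← prod_geom_sum_mul hq ds, ← geom_sum_mul_of_one_le hq d]
    ring

theorem natCard_group_degrees (hW : GoodWeyl D) (h : Weyl.RootGood C M R) {F : Type*} [Field F]
    [Fintype F] {q c N : ℕ} (hq : Fintype.card F = q) (degs : List ℕ)
    (hN : half D = N) (hlen : degs.length = D.rank)
    (hH : c * Nat.card (D.diagonalSubgroup F) = (q - 1) ^ D.rank)
    (hP : ∀ _inst : Fintype M.Group, ∑ w : M.Group, q ^ M.toCoxeterSystem.length w =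
      (degs.map fun d => ∑ i ∈ Finset.range d, q ^ i).prod) :
    c * Nat.card (D.group F) = q ^ N * (degs.map fun d => q ^ d - 1).prod := by
  have := h.finite_group
  let := Fintype.ofFinite M.Group
  have hq1 : 1 ≤ q := hq ▸ Fintype.card_pos
  rw [natCard_group hW h, Nat.card_eq_fintype_card (α := F), hq, hP _, hN,
    ← prod_geom_sum_mul hq1 degs, hlen, ← hH]
  ring

end CfsgLib.Chevalley
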