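import Cfsg.Agent.Chevalley.Bruhat
/-!
The unique form `g = b n_w u` of Bruhat's decomposition, with `u` in the subgroup of the positive
roots made negative by `w`.
-/

set_option autoImplicit false

namespace CfsgLib.Chevalley

open Cfsg.Lie
open scoped MatrixGroups

variable {D : ChevalleyDatum} {C : Weyl.Cert D.rank} {M : CoxeterMatrix (Fin D.rank)}
  {R : Weyl.RootTable} {F : Type*} [Field F]

/-- The positive roots made negative by `w`. -/
def invRoots (h : Weyl.RootGood C M R) (w : M.Group) : Set (Root D) :=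
  {r | half D ≤ r ∧ (h.rootPerm w r : ℕ) < half D}

/-- `U_w⁻`, generated by the root subgroups of the positive roots made negative by `w`. -/
def uW (hW : GoodWeyl D) (h : Weyl.RootGood C M R) (F : Type*) [Field F] (w : M.Group) :
    Subgroup (GL D.Idx F) :=
  rootGen hW.good F (invRoots h w)

theorem uW_le_pos (hW : GoodWeyl D) (h : Weyl.RootGood C M R) (w : M.Group) :
    uW hW h F w ≤ D.posUnipotent F :=
  posUnipotent_eq_rootGen (F := F) hW.good ▸ rootGen_mono hW.good fun _ hr => hr.1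

theorem nW_conj_uW (hW : GoodWeyl D) (h : Weyl.RootGood C M R) (w : M.Group) {u : GL D.Idx F}
    (hu : u ∈ uW hW h F w) :
    nW hW h F w * u * (nW hW h F w)⁻¹ ∈ D.negUnipotent F :=
  negUnipotent_eq_rootGen (F := F) hW.good ▸
    (monBy_nW hW h w).conj_rootGen (T := negSet D) (fun _ hr => hr.2) hu

/-- Every element of `B n_w B` is `b n_w u` with `u ∈ U_w⁻`. -/
theorem exists_form (hW : GoodWeyl D) (h : Weyl.RootGood C M R) (w : M.Group) {g : GL D.Idx F}
    (hg : g ∈ cell hW h F w) :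
    ∃ b ∈ D.borelSubgroup F, ∃ u ∈ uW hW h F w, b * nW hW h F w * u = g := by
  induction hn : M.toCoxeterSystem.length w generalizing w g with
  | zero =>
    obtain rfl := M.toCoxeterSystem.length_eq_zero_iff.1 hn
    have h1 := nW_mem_cell (F := F) hW h 1
    rw [cell_one hW h] at hg h1
    exact ⟨g * (nW hW h F 1)⁻¹, mul_mem hg (inv_mem h1), 1, one_mem _, by simp⟩
  | succ n ih =>
    have hw1 : w ≠ 1 := fun e => by subst e; simp at hn
    obtain ⟨i, hi⟩ := M.toCoxeterSystem.exists_rightDescent_of_ne_one hw1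
    rw [CoxeterSystem.isRightDescent_iff, CoxeterMatrix.toCoxeterSystem_simple] at hi
    have hss : M.simple i * M.simple i = 1 := M.toCoxeterSystem.simple_mul_simple_self i
    obtain ⟨v, rfl⟩ : ∃ v, w = v * M.simple i := ⟨w * M.simple i, by rw [mul_assoc, hss, mul_one]⟩
    rw [mul_assoc, hss, mul_one] at hi
    have hvα : half D ≤ (h.rootPerm v (pRoot hW i) : ℕ) := by
      have := h.length_mul_simple_lt_iff v i
      rw [posIdx_iff hW.good h, simpleRoot_eq hW h] at this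
      by_contra hc
      have := this.2 hc
      omega
    let ni : ↥(D.monomialSubgroup F) := ⟨nR hW i, nR_mem_monomial hW i⟩
    obtain ⟨k, hk, ek⟩ := exists_eq_nW_mul (F := F) hW h (⟨nW hW h F v, nW_mem hW h v⟩ * ni)
    rw [map_mul, weylHom_nW, weylHom_nR, Subgroup.coe_mul] at ek
    change nW hW h F v * nR hW i = _ at ek
    obtain ⟨c, hc, c', hc', rfl⟩ := hg
    obtain ⟨t, b', e', hb1, -⟩ :=
      exists_borel_split hW i (mul_mem (inv_mem (diag_le_borel D hk)) hc')
    obtain ⟨b, hb, u', hu', e''⟩ := ih v (g := c * nW hW h F v *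
        (nR hW i * b' * (nR hW i)⁻¹))
      (mul_mem_cell hW h hc (nW_mem_cell hW h v) hb1) (by omega)
    have hk' : nW hW h F (v * M.simple i) * k * (nW hW h F (v * M.simple i))⁻¹ ∈
        D.borelSubgroup F :=
      diag_le_borel D ((Subgroup.mem_normalizer_iff.1
        (monomial_le_normalizer hW (nW_mem hW h _)) k).1 hk)
    refine ⟨b * (nW hW h F (v * M.simple i) * k * (nW hW h F (v * M.simple i))⁻¹), mul_mem hb hk',
      (nR hW i)⁻¹ * u' * nR hW i * X hW.good (pRoot hW i) t, mul_mem ?_ ?_, ?_⟩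
    · have := (monBy_nR (F := F) hW i).inv.conj_rootGen (T := invRoots h (v * M.simple i))
        (fun r hr => ?_) hu'
      · rwa [inv_inv] at this
      · rw [show (wPerm hW i)⁻¹ r = wPerm hW i r from (wPerm hW i).injective
          (((wPerm hW i).apply_symm_apply r).trans (hW.wPerm_wPerm i r).symm)]
        obtain ⟨hr1, hr2⟩ := hr
        have hne : r ≠ pRoot hW i := fun e => by subst e; omega
        refine ⟨(hW.wPerm_pos i hr1 hne).1, ?_⟩
        rw [map_mul, Equiv.Perm.mul_apply, ← wPerm_eq_rootPerm hW h, hW.wPerm_wPerm]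
        exact hr2
    · refine X_mem_rootGen _ (S := invRoots h (v * M.simple i)) ⟨pRoot_pos hW i, ?_⟩ t
      rw [map_mul, Equiv.Perm.mul_apply, ← wPerm_eq_rootPerm hW h, hW.wPerm_pRoot,
        (monBy_nW (F := F) hW h v).apply_rev]
      have := hW.good.two_half
      rw [Fin.val_rev]
      omega
    · calc b * (nW hW h F (v * M.simple i) * k * (nW hW h F (v * M.simple i))⁻¹) *
            nW hW h F (v * M.simple i) *
            ((nR hW i)⁻¹ * u' * nR hW i * X hW.good (pRoot hW i) t)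
          = b * (nW hW h F (v * M.simple i) * k) * (nR hW i)⁻¹ * u' * nR hW i *
              X hW.good (pRoot hW i) t := by group
        _ = (b * nW hW h F v * u') * nR hW i * X hW.good (pRoot hW i) t := by rw [← ek]; group
        _ = c * (nW hW h F (v * M.simple i) * k) * (b' * X hW.good (pRoot hW i) t) := by
            rw [e'', ← ek]; group
        _ = c * nW hW h F (v * M.simple i) * c' := by rw [← e']; group

/-- The form `b n_w u` is unique. -/
theorem form_unique (hW : GoodWeyl D) (h : Weyl.RootGood C M R) {w : M.Group}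
    {b b' u u' : GL D.Idx F} (hb : b ∈ D.borelSubgroup F) (hb' : b' ∈ D.borelSubgroup F)
    (hu : u ∈ uW hW h F w) (hu' : u' ∈ uW hW h F w)
    (e : b * nW hW h F w * u = b' * nW hW h F w * u') : b = b' ∧ u = u' := by
  have e1 : b'⁻¹ * b = nW hW h F w * (u' * u⁻¹) * (nW hW h F w)⁻¹ := by
    rw [show b = b' * nW hW h F w * u' * u⁻¹ * (nW hW h F w)⁻¹ by rw [← e]; group]
    group
  have h1 : b'⁻¹ * b ∈ D.borelSubgroup F ⊓ D.negUnipotent F :=
    Subgroup.mem_inf.2 ⟨mul_mem (inv_mem hb') hb,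
      e1 ▸ nW_conj_uW hW h w (mul_mem hu' (inv_mem hu))⟩
  rw [borel_inf_neg hW, Subgroup.mem_bot, inv_mul_eq_one] at h1
  subst h1
  exact ⟨rfl, mul_left_cancel e⟩

/-- Bruhat's decomposition with uniqueness. -/
theorem existsUnique_form (hW : GoodWeyl D) (h : Weyl.RootGood C M R) {g : GL D.Idx F}
    (hg : g ∈ D.group F) :
    ∃! p : M.Group × GL D.Idx F × GL D.Idx F, p.2.1 ∈ D.borelSubgroup F ∧
      p.2.2 ∈ uW hW h F p.1 ∧ p.2.1 * nW hW h F p.1 * p.2.2 = g := by
  obtain ⟨w, hw⟩ := exists_mem_cell hW h hg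
  obtain ⟨b, hb, u, hu, e⟩ := exists_form hW h w hw
  refine ⟨(w, b, u), ⟨hb, hu, e⟩, ?_⟩
  rintro ⟨v, b', u'⟩ ⟨hb', hu', e'⟩
  obtain rfl : v = w := cell_eq_of_mem hW h
    ⟨b', hb', u', pos_le_borel D (uW_le_pos hW h _ hu'), e'⟩ hw
  obtain ⟨rfl, rfl⟩ := form_unique hW h hb' hb hu' hu (e'.trans e.symm)
  rfl

/-- `|U_w⁻| = q ^ ℓ(w)`. -/
theorem natCard_uW (hW : GoodWeyl D) (h : Weyl.RootGood C M R) (w : M.Group) :
    Nat.card (uW hW h F w) = Nat.card F ^ M.toCoxeterSystem.length w := by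
  rw [← CoxeterSystem.length_inv, ← natCard_cellQ (F := F) hW h w⁻¹]
  obtain ⟨k, hk, ek⟩ := exists_eq_nW_mul (F := F) hW h
    (⟨nW hW h F w, nW_mem hW h w⟩ : ↥(D.monomialSubgroup F))⁻¹
  rw [map_inv, weylHom_nW, Subgroup.coe_inv] at ek
  change (nW hW h F w)⁻¹ = _ at ek
  refine Nat.card_eq_of_bijective (fun u : uW hW h F w =>
    (⟨((u : GL D.Idx F)⁻¹ * (nW hW h F w)⁻¹ : GL D.Idx F), _,
      ⟨(u : GL D.Idx F)⁻¹, inv_mem (pos_le_borel D (uW_le_pos hW h w u.2)), k, diag_le_borel D hk,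
        by rw [ek]; group⟩, rfl⟩ : cellQ hW h F w⁻¹)) ⟨?_, ?_⟩
  · rintro ⟨u, hu⟩ ⟨u', hu'⟩ e
    have e' := QuotientGroup.eq.1 (Subtype.ext_iff.1 e)
    rw [show (u⁻¹ * (nW hW h F w)⁻¹)⁻¹ * (u'⁻¹ * (nW hW h F w)⁻¹) =
      nW hW h F w * (u * u'⁻¹) * (nW hW h F w)⁻¹ by group] at e'
    have h1 : _ ∈ D.borelSubgroup F ⊓ D.negUnipotent F :=
      Subgroup.mem_inf.2 ⟨e', nW_conj_uW hW h w (mul_mem hu (inv_mem hu'))⟩
    rw [borel_inf_neg hW, Subgroup.mem_bot, conj_eq_one_iff, mul_inv_eq_one] at h1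
    exact Subtype.ext h1
  · rintro ⟨_, g, ⟨c, hc, c', hc', rfl⟩, rfl⟩
    have hmem : (c * nW hW h F w⁻¹ * c')⁻¹ ∈ cell hW h F w := by
      rw [show nW hW h F w⁻¹ = (nW hW h F w)⁻¹ * k⁻¹ by rw [ek, mul_inv_cancel_right],
        show (c * ((nW hW h F w)⁻¹ * k⁻¹) * c')⁻¹ = c'⁻¹ * k * nW hW h F w * c⁻¹ by group]
      exact mul_mem_cell hW h (mul_mem (inv_mem hc') (diag_le_borel D hk))
        (nW_mem_cell hW h w) (inv_mem hc)
    obtain ⟨b, hb, u, hu, e⟩ := exists_form hW h w hmem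
    refine ⟨⟨u, hu⟩, Subtype.ext (QuotientGroup.eq.2 ?_)⟩
    rw [show (u⁻¹ * (nW hW h F w)⁻¹)⁻¹ * (c * nW hW h F w⁻¹ * c') =
      b⁻¹ * ((b * nW hW h F w * u) * (c * nW hW h F w⁻¹ * c')) by group, e, inv_mul_cancel, mul_one]
    exact inv_mem hb

end CfsgLib.Chevalley
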