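import Cfsg.Agent.Chevalley.Bruhat
import Mathlib.LinearAlgebra.Matrix.SpecialLinearGroup
/-!
Rank one: the homomorphism from `SL₂` onto `⟨X_r, X_{-r}⟩`, first from abstract relations among
`x`, `y`, `h`, `n`, then for the roots of a datum.
-/

set_option autoImplicit false

namespace CfsgLib.Chevalley

open Cfsg.Lie
open scoped MatrixGroups

/-! ### Abstract rank one -/

/-- The relations of a rank one group. -/
structure RankOneRel (F : Type*) [Field F] (G : Type*) [Group G] where
  /-- the positive root elements -/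
  x : F → G
  /-- the negative root elements -/
  y : F → G
  /-- the torus -/
  h : Fˣ →* G
  /-- the reflection -/
  n : G
  x_add : ∀ s t, x s * x t = x (s + t)
  y_add : ∀ s t, y s * y t = y (s + t)
  xyx : ∀ t : Fˣ, x t * y (-((t⁻¹ : Fˣ) : F)) * x t = h t * n
  h_x : ∀ (t : Fˣ) (u : F), h t * x u = x ((t : F) ^ 2 * u) * h t
  n_h : ∀ t : Fˣ, n * h t = h t⁻¹ * n
  n_n : n * n = h (-1)
  n_x : ∀ t, n * x t * n⁻¹ = y (-t)

namespace RankOneRel

variable {F : Type*} [Field F] {G : Type*} [Group G] (S : RankOneRel F G)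

theorem x_zero : S.x 0 = 1 := by
  have := S.x_add 0 0
  rwa [add_zero, mul_eq_left] at this

theorem y_zero : S.y 0 = 1 := by
  have := S.y_add 0 0
  rwa [add_zero, mul_eq_left] at this

theorem x_inv (t : F) : (S.x t)⁻¹ = S.x (-t) :=
  inv_eq_of_mul_eq_one_right (by rw [S.x_add, add_neg_cancel, S.x_zero])

open Classical in
/-- The map on `SL₂`, by the two Bruhat cells. -/
noncomputable def map (g : Matrix.SpecialLinearGroup (Fin 2) F) : G :=
  if hc : g.1 1 0 = 0 then
    if ha : g.1 0 0 = 0 then 1 else S.h (Units.mk0 _ ha) * S.x (g.1 0 1 / g.1 0 0)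
  else S.x (g.1 0 0 / g.1 1 0) * S.h (Units.mk0 (-1 / g.1 1 0) (by simp [hc])) * S.n *
    S.x (g.1 1 1 / g.1 1 0)

theorem det_eq (g : Matrix.SpecialLinearGroup (Fin 2) F) :
    g.1 0 0 * g.1 1 1 - g.1 0 1 * g.1 1 0 = 1 := by
  have := g.2
  rwa [Matrix.det_fin_two] at this

theorem map_lower (g : Matrix.SpecialLinearGroup (Fin 2) F) (hc : g.1 1 0 = 0) (a : Fˣ)
    (ha : (a : F) = g.1 0 0) : S.map g = S.h a * S.x (g.1 0 1 / g.1 0 0) := by
  rw [map, dif_pos hc, dif_neg (ha ▸ a.ne_zero)]
  congr 2
  exact Units.ext ha.symm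

theorem map_big (g : Matrix.SpecialLinearGroup (Fin 2) F) (hc : g.1 1 0 ≠ 0) (t : Fˣ)
    (ht : (t : F) = -1 / g.1 1 0) :
    S.map g = S.x (g.1 0 0 / g.1 1 0) * S.h t * S.n * S.x (g.1 1 1 / g.1 1 0) := by
  rw [map, dif_neg hc]
  congr 3
  exact congrArg S.h (Units.ext ht.symm)

/-- The unipotent element. -/
def uMat (F : Type*) [Field F] (t : F) : Matrix.SpecialLinearGroup (Fin 2) F :=
  ⟨!![1, t; 0, 1], by simp [Matrix.det_fin_two]⟩

/-- The other unipotent element. -/
def vMat (F : Type*) [Field F] (t : F) : Matrix.SpecialLinearGroup (Fin 2) F :=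
  ⟨!![1, 0; t, 1], by simp [Matrix.det_fin_two]⟩

theorem uMat_val (t : F) : (uMat F t).1 = !![1, t; 0, 1] := rfl

theorem vMat_val (t : F) : (vMat F t).1 = !![1, 0; t, 1] := rfl

/-- The reflection. -/
def wMat (F : Type*) [Field F] : Matrix.SpecialLinearGroup (Fin 2) F :=
  ⟨!![0, 1; -1, 0], by simp [Matrix.det_fin_two]⟩

theorem wMat_val : (wMat F).1 = !![0, 1; -1, 0] := rfl

theorem map_mul_uMat (g : Matrix.SpecialLinearGroup (Fin 2) F) (s : F) :
    S.map (g * uMat F s) = S.map g * S.x s := by
  have e00 : (g * uMat F s).1 0 0 = g.1 0 0 := by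
    simp [uMat_val, Matrix.mul_apply, Fin.sum_univ_two]
  have e01 : (g * uMat F s).1 0 1 = g.1 0 0 * s + g.1 0 1 := by
    simp [uMat_val, Matrix.mul_apply, Fin.sum_univ_two]
  have e10 : (g * uMat F s).1 1 0 = g.1 1 0 := by
    simp [uMat_val, Matrix.mul_apply, Fin.sum_univ_two]
  have e11 : (g * uMat F s).1 1 1 = g.1 1 0 * s + g.1 1 1 := by
    simp [uMat_val, Matrix.mul_apply, Fin.sum_univ_two]
  by_cases hc : g.1 1 0 = 0
  · have ha : g.1 0 0 ≠ 0 := fun e => by simpa [hc, e] using det_eq g
    rw [S.map_lower _ (e10.trans hc) (Units.mk0 _ ha) e00.symm,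
      S.map_lower g hc (Units.mk0 _ ha) rfl, e00, e01, mul_assoc, S.x_add]
    congr 2
    field_simp
    ring
  · have hne : -1 / g.1 1 0 ≠ 0 := by simp [hc]
    rw [S.map_big _ (by rwa [e10]) (Units.mk0 _ hne) (by rw [e10]; rfl),
      S.map_big g hc (Units.mk0 _ hne) rfl, e00, e10, e11, mul_assoc _ (S.x _) (S.x s), S.x_add]
    congr 2
    field_simp
    ring

theorem map_mul_wMat (g : Matrix.SpecialLinearGroup (Fin 2) F) :
    S.map (g * wMat F) = S.map g * S.n := by
  have hdet := det_eq g
  have e00 : (g * wMat F).1 0 0 = -g.1 0 1 := by simp [wMat_val, Matrix.mul_apply, Fin.sum_univ_two]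
  have e01 : (g * wMat F).1 0 1 = g.1 0 0 := by simp [wMat_val, Matrix.mul_apply, Fin.sum_univ_two]
  have e10 : (g * wMat F).1 1 0 = -g.1 1 1 := by simp [wMat_val, Matrix.mul_apply, Fin.sum_univ_two]
  have e11 : (g * wMat F).1 1 1 = g.1 1 0 := by simp [wMat_val, Matrix.mul_apply, Fin.sum_univ_two]
  by_cases hc : g.1 1 0 = 0
  · rw [hc, mul_zero, sub_zero] at hdet
    have ha : g.1 0 0 ≠ 0 := fun e => by simp [e] at hdet
    have hd : g.1 1 1 ≠ 0 := fun e => by simp [e] at hdet
    rw [S.map_big _ (by rw [e10]; simpa using hd) (Units.mk0 _ ha)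
        (by rw [e10, Units.val_mk0]; field_simp; linear_combination hdet),
      S.map_lower g hc (Units.mk0 _ ha) rfl, S.h_x, Units.val_mk0, e00, e10, e11, hc, zero_div,
      S.x_zero, mul_one]
    congr 3
    field_simp
    linear_combination -(g.1 0 1) * hdet
  · by_cases hd : g.1 1 1 = 0
    · rw [hd, mul_zero, zero_sub] at hdet
      have hb : g.1 0 1 ≠ 0 := fun e => by simp [e] at hdet
      have h1 : (g * wMat F).1 0 0 ≠ 0 := by rw [e00]; simpa using hb
      set u := Units.mk0 _ h1 with hu
      have hne : -1 / g.1 1 0 ≠ 0 := by simp [hc]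
      have hmul : Units.mk0 _ hne * -1 = u := Units.ext (by
        simp only [hu, Units.val_mul, Units.val_mk0, Units.val_neg, Units.val_one, e00]
        field_simp
        linear_combination -hdet)
      rw [S.map_lower _ (by rw [e10, hd, neg_zero]) u rfl,
        S.map_big g hc (Units.mk0 _ hne) rfl, hd, zero_div, S.x_zero, mul_one,
        mul_assoc _ S.n S.n, S.n_n, mul_assoc, ← map_mul, hmul, S.h_x, e01]
      congr 2
      simp only [hu, Units.val_mk0, e00]
      field_simp
      linear_combination (g.1 0 0) * hdet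
    · have hne : -1 / g.1 1 0 ≠ 0 := by simp [hc]
      have hnew : -1 / -g.1 1 1 ≠ 0 := by simp [hd]
      have hv : g.1 1 1 / g.1 1 0 ≠ 0 := by simp [hc, hd]
      set t := Units.mk0 _ hne with ht
      set v := Units.mk0 _ hv with hv'
      rw [S.map_big _ (by rw [e10]; simpa using hd) (Units.mk0 _ hnew) (by rw [e10]; rfl),
        S.map_big g hc t rfl, e00, e10, e11]
      have key : S.n * S.x (v : F) * S.n =
          S.x (-((v⁻¹ : Fˣ) : F)) * S.h v⁻¹ * S.n * S.x (-((v⁻¹ : Fˣ) : F)) * S.h (-1) := by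
        have h1 := S.xyx v⁻¹
        rw [inv_inv, ← S.n_x] at h1
        have h2 : S.n * S.x (v : F) * S.n⁻¹ =
            (S.x ((v⁻¹ : Fˣ) : F))⁻¹ * (S.h v⁻¹ * S.n) * (S.x ((v⁻¹ : Fˣ) : F))⁻¹ := by
          rw [← h1]; group
        rw [← S.n_n, ← S.x_inv, show S.n * S.x (v : F) * S.n =
          S.n * S.x (v : F) * S.n⁻¹ * (S.n * S.n) by group, h2]
        group
      have hm1 : ∀ z, S.x z * S.h (-1) = S.h (-1) * S.x z := by
        intro z
        rw [S.h_x]
        simp
      have hn1 : S.n * S.h (-1) = S.h (-1) * S.n := by rw [S.n_h, inv_neg, inv_one]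
      rw [show g.1 1 1 / g.1 1 0 = (v : F) from rfl,
        show ∀ a b n c : G, a * b * n * c * n = a * b * (n * c * n) from fun a b n c => by group,
        key,
        show ∀ a b c d m e f : G, a * b * (c * d * m * e * f) = a * (b * c) * d * (m * (e * f)) from
          fun a b c d m e f => by group,
        S.h_x, hm1, show ∀ a m z e : G, a * (m * (z * e)) = a * (m * z) * e from fun a m z e => by group,
        hn1,
        show ∀ a c b d m f e : G, a * (c * b) * d * (m * f) * e = a * c * (b * d * m) * f * e from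
          fun a c b d m f e => by group,
        S.x_add, ← _root_.map_mul, ← _root_.map_mul]
      congr 4
      · simp only [ht, hv', Units.val_inv_eq_inv_val, Units.val_mk0]
        field_simp
        linear_combination -hdet
      · apply Units.ext
        simp only [ht, hv', Units.val_mul, Units.val_inv_eq_inv_val, Units.val_mk0, Units.val_neg,
          Units.val_one]
        field_simp
      · simp only [hv', Units.val_inv_eq_inv_val, Units.val_mk0]
        field_simp

theorem map_one : S.map 1 = 1 := by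
  rw [S.map_lower 1 (by simp) 1 (by simp), _root_.map_one]
  simp [S.x_zero]

theorem map_uMat (t : F) : S.map (uMat F t) = S.x t := by
  rw [← one_mul (uMat F t), map_mul_uMat, map_one, one_mul]

theorem map_wMat : S.map (wMat F) = S.n := by
  rw [← one_mul (wMat F), map_mul_wMat, map_one, one_mul]

theorem closure_eq_top :
    Submonoid.closure (Set.range (uMat F) ∪ {wMat F}) = ⊤ := by
  set K := Submonoid.closure (Set.range (uMat F) ∪ {wMat F})
  have hu : ∀ t, uMat F t ∈ K := fun t => Submonoid.subset_closure (Or.inl ⟨t, rfl⟩)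
  have hw : wMat F ∈ K := Submonoid.subset_closure (Or.inr rfl)
  have hbig : ∀ g : Matrix.SpecialLinearGroup (Fin 2) F, g.1 1 0 ≠ 0 → g ∈ K := by
    intro g hc
    have hdet := det_eq g
    -- `n(t) = u(t) w u(1/t) w³ u(t)` with `t = -1/c`
    have e : g = uMat F (g.1 0 0 / g.1 1 0) * (uMat F (-1 / g.1 1 0) * wMat F *
        uMat F (-g.1 1 0) * (wMat F * wMat F * wMat F) * uMat F (-1 / g.1 1 0)) *
        uMat F (g.1 1 1 / g.1 1 0) := by
      apply Subtype.ext
      apply Matrix.ext
      intro p q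
      fin_cases p <;> fin_cases q <;>
        simp [uMat_val, wMat_val, Matrix.mul_apply, Fin.sum_univ_two] <;> field_simp <;>
        first
          | linear_combination hdet
          | linear_combination -hdet
          | ring
    rw [e]
    exact mul_mem (mul_mem (hu _) (mul_mem (mul_mem (mul_mem (mul_mem (hu _) hw) (hu _))
      (mul_mem (mul_mem hw hw) hw)) (hu _))) (hu _)
  rw [eq_top_iff]
  intro g _
  by_cases hc : g.1 1 0 = 0
  · have hgw : (g * wMat F).1 1 0 ≠ 0 := by
      have hdet := det_eq g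
      simp [wMat_val, Matrix.mul_apply, Fin.sum_univ_two]
      intro e
      simp [hc, e] at hdet
    have h4 : g = g * wMat F * (wMat F * wMat F * wMat F) := by
      apply Subtype.ext
      apply Matrix.ext
      intro p q
      fin_cases p <;> fin_cases q <;> simp [wMat_val, Matrix.mul_apply, Fin.sum_univ_two]
    rw [h4]
    exact mul_mem (hbig _ hgw) (mul_mem (mul_mem hw hw) hw)
  · exact hbig g hc

theorem map_mul (g k : Matrix.SpecialLinearGroup (Fin 2) F) :
    S.map (g * k) = S.map g * S.map k := by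
  suffices H : k ∈ Submonoid.closure (Set.range (uMat F) ∪ {wMat F}) → ∀ g,
      S.map (g * k) = S.map g * S.map k from H (closure_eq_top (F := F) ▸ Submonoid.mem_top k) g
  intro hk
  induction hk using Submonoid.closure_induction with
  | mem x hx =>
    intro g
    rcases hx with ⟨t, rfl⟩ | hx
    · rw [map_mul_uMat, map_uMat]
    · rw [Set.mem_singleton_iff.1 hx, map_mul_wMat, map_wMat]
  | one => intro g; rw [mul_one, map_one, mul_one]
  | mul a b _ _ ha hb => intro g; rw [← mul_assoc, hb, ha, mul_assoc, ← hb]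

theorem map_vMat (t : F) : S.map (vMat F t) = S.y t := by
  rcases eq_or_ne t 0 with rfl | ht
  · rw [show vMat F 0 = (1 : Matrix.SpecialLinearGroup (Fin 2) F) from
      Subtype.ext (Matrix.one_fin_two).symm, map_one, y_zero]
  · have hne : -1 / t ≠ 0 := by simp [ht]
    rw [S.map_big (vMat F t) (by simpa [vMat] using ht) (Units.mk0 _ hne) (by simp [vMat])]
    have h1 := S.xyx (Units.mk0 _ hne)
    simp only [Units.val_inv_eq_inv_val, Units.val_mk0] at h1
    rw [show -(-1 / t)⁻¹ = t by field_simp] at h1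
    have e : ∀ a : F, a = 1 / t → S.x a * S.h (Units.mk0 _ hne) * S.n * S.x a = S.y t := by
      intro a ha
      rw [mul_assoc (S.x a) (S.h _) S.n, ← h1, ha]
      simp only [mul_assoc, S.x_add]
      rw [show -1 / t + 1 / t = 0 by ring, S.x_zero, mul_one, ← mul_assoc, S.x_add,
        show 1 / t + -1 / t = 0 by ring, S.x_zero, one_mul]
    have h2 := e (1 / t) rfl
    simpa [vMat] using h2

/-- The homomorphism from `SL₂`. -/
noncomputable def hom : Matrix.SpecialLinearGroup (Fin 2) F →* G where
  toFun := S.map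
  map_one' := S.map_one
  map_mul' := S.map_mul

end RankOneRel

/-! ### The roots of a datum -/

variable {D : ChevalleyDatum} {F : Type*} [Field F]

theorem nR_mul_hT_pRoot (hW : GoodWeyl D) (i : Fin D.rank) (t : Fˣ) :
    nR hW i * hT F (pRoot hW i) t = hT F (pRoot hW i) t⁻¹ * nR hW i := by
  rw [hT, tor_mul_nR, hT]
  congr 2
  funext s
  rw [hW.pairing_pRoot, hW.pairing_pRoot, hW.cartan_wPerm_self, zpow_neg, inv_zpow]

/-- The rank one relations at a fundamental root. -/
noncomputable def rankOneAt (hW : GoodWeyl D) (F : Type*) [Field F] (i : Fin D.rank) :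
    RankOneRel F (GL D.Idx F) where
  x t := X hW.good (pRoot hW i) t
  y t := X hW.good (pRoot hW i).rev t
  h :=
    { toFun := hT F (pRoot hW i)
      map_one' := hT_one _
      map_mul' := fun a b => (hT_mul _ a b).symm }
  n := nR hW i
  x_add s t := X_mul _ _ s t
  y_add s t := X_mul _ _ s t
  xyx t := nWord_eq hW i t
  h_x t u := by
    have e : hT F (pRoot hW i) t * X hW.good (pRoot hW i) u * (hT F (pRoot hW i) t)⁻¹ = _ :=
      hT_pRoot_conj_X hW i t (pRoot hW i) u
    rw [show D.cartan i (pRoot hW i : Root D) = (2 : ℤ) from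
      hW.good.cartan_simple_self i.isLt] at e
    rw [mul_inv_eq_iff_eq_mul] at e
    show hT F (pRoot hW i) t * _ = _ * hT F (pRoot hW i) t
    rw [e, zpow_two, Units.val_mul, sq]
  n_h t := nR_mul_hT_pRoot hW i t
  n_n := nR_sq hW i
  n_x t := by
    rw [nR_conj, hW.wPerm_pRoot, hW.eta_pRoot]
    simp

/-- The twist of a matrix by a sign. -/
def signFun (e : F) (he : e * e = 1) (g : Matrix.SpecialLinearGroup (Fin 2) F) :
    Matrix.SpecialLinearGroup (Fin 2) F :=
  ⟨!![g.1 0 0, e * g.1 0 1; e * g.1 1 0, g.1 1 1], by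
    have := RankOneRel.det_eq g
    rw [Matrix.det_fin_two_of]
    linear_combination this - (g.1 0 1 * g.1 1 0) * he⟩

theorem signFun_val (e : F) (he : e * e = 1) (g : Matrix.SpecialLinearGroup (Fin 2) F) :
    (signFun e he g).1 = !![g.1 0 0, e * g.1 0 1; e * g.1 1 0, g.1 1 1] := rfl

/-- Conjugation by `diag(e, 1)` for `e = ±1`. -/
def signTwist (e : F) (he : e * e = 1) :
    Matrix.SpecialLinearGroup (Fin 2) F →* Matrix.SpecialLinearGroup (Fin 2) F where
  toFun := signFun e he
  map_one' := by
    apply Subtype.ext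
    simp [signFun_val, Matrix.one_fin_two]
  map_mul' g k := by
    apply Subtype.ext
    apply Matrix.ext
    intro p q
    fin_cases p <;> fin_cases q <;>
      simp [signFun_val, Matrix.mul_apply, Fin.sum_univ_two] <;>
      first
        | linear_combination (-(g.1 0 1) * k.1 1 0) * he
        | linear_combination (-(g.1 1 0) * k.1 0 1) * he
        | ring

/-- Every root has a homomorphism from `SL₂` sending the unipotents to its root elements. -/
theorem exists_sl2Hom (hW : GoodWeyl D) (r : Root D) :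
    ∃ φ : Matrix.SpecialLinearGroup (Fin 2) F →* GL D.Idx F,
      (∀ t, φ (RankOneRel.uMat F t) = X hW.good r t) ∧
      ∀ t, φ (RankOneRel.vMat F t) = X hW.good r.rev t := by
  refine hW.root_induction (P := fun r => ∃ φ : Matrix.SpecialLinearGroup (Fin 2) F →* GL D.Idx F,
      (∀ t, φ (RankOneRel.uMat F t) = X hW.good r t) ∧
      ∀ t, φ (RankOneRel.vMat F t) = X hW.good r.rev t) (fun i => ?_) ?_ r
  · exact ⟨(rankOneAt hW F i).hom, (rankOneAt hW F i).map_uMat, (rankOneAt hW F i).map_vMat⟩
  · rintro i s ⟨φ, h1, h2⟩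
    have he : (eta D i s : F) * eta D i s = 1 := by
      rw [← Int.cast_mul, hW.eta_sq, Int.cast_one]
    refine ⟨(MulAut.conj (nR hW i : GL D.Idx F)).toMonoidHom.comp
      (φ.comp (signTwist (eta D i s : F) he)), fun t => ?_, fun t => ?_⟩
    · show nR hW i * φ _ * (nR hW i)⁻¹ = _
      rw [show signTwist (eta D i s : F) he (RankOneRel.uMat F t) =
        RankOneRel.uMat F ((eta D i s : F) * t) from Subtype.ext (show (signFun (eta D i s : F) he _).1 = _ by simp [signFun_val, RankOneRel.uMat_val]),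
        h1, nR_conj, ← mul_assoc, he, one_mul]
    · show nR hW i * φ _ * (nR hW i)⁻¹ = _
      rw [show signTwist (eta D i s : F) he (RankOneRel.vMat F t) =
        RankOneRel.vMat F ((eta D i s : F) * t) from Subtype.ext (show (signFun (eta D i s : F) he _).1 = _ by simp [signFun_val, RankOneRel.vMat_val]),
        h2, nR_conj, hW.eta_rev, hW.wPerm_rev, ← mul_assoc, he, one_mul]

/-- The image of such a homomorphism is generated by the two root subgroups. -/
theorem range_sl2Hom (hW : GoodWeyl D) {r : Root D}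
    {φ : Matrix.SpecialLinearGroup (Fin 2) F →* GL D.Idx F}
    (h1 : ∀ t, φ (RankOneRel.uMat F t) = X hW.good r t)
    (h2 : ∀ t, φ (RankOneRel.vMat F t) = X hW.good r.rev t) :
    φ.range = D.rootSubgroup F r ⊔ D.rootSubgroup F r.rev := by
  apply le_antisymm
  · rintro _ ⟨g, rfl⟩
    set K := D.rootSubgroup F r ⊔ D.rootSubgroup F r.rev
    have hu : ∀ t, φ (RankOneRel.uMat F t) ∈ K := fun t => by
      rw [h1]; exact Subgroup.mem_sup_left (X_mem_rootSubgroup _ _ _)
    have hv : ∀ t, φ (RankOneRel.vMat F t) ∈ K := fun t => by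
      rw [h2]; exact Subgroup.mem_sup_right (X_mem_rootSubgroup _ _ _)
    have hw : RankOneRel.wMat F =
        RankOneRel.uMat F 1 * RankOneRel.vMat F (-1) * RankOneRel.uMat F 1 := by
      apply Subtype.ext
      apply Matrix.ext
      intro p q
      fin_cases p <;> fin_cases q <;>
        simp [RankOneRel.uMat_val, RankOneRel.vMat_val, RankOneRel.wMat_val, Matrix.mul_apply, Fin.sum_univ_two]
    suffices H : g ∈ K.toSubmonoid.comap φ from H
    refine (Submonoid.closure_le.2 ?_) (RankOneRel.closure_eq_top (F := F) ▸ Submonoid.mem_top g)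
    rintro _ (⟨t, rfl⟩ | hx)
    · exact hu t
    · rw [Set.mem_singleton_iff.1 hx, hw]
      show φ _ ∈ K
      rw [map_mul, map_mul]
      exact mul_mem (mul_mem (hu 1) (hv _)) (hu 1)
  · refine sup_le (fun g hg => ?_) fun g hg => ?_
    · obtain ⟨t, rfl⟩ := (mem_rootSubgroup_iff hW.good).1 hg
      exact ⟨_, h1 t⟩
    · obtain ⟨t, rfl⟩ := (mem_rootSubgroup_iff hW.good).1 hg
      exact ⟨_, h2 t⟩

end CfsgLib.Chevalley
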