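import Cfsg.Agent.Chevalley.Borel
import Mathlib.GroupTheory.DoubleCoset
/-!
Bruhat decomposition: `G` is the disjoint union of the cells `B n_w B`, and a cell consists of
`q ^ ℓ(w)` cosets of `B`.
-/

set_option autoImplicit false

namespace CfsgLib.Chevalley

open Cfsg.Lie
open scoped MatrixGroups

variable {D : ChevalleyDatum} {C : Weyl.Cert D.rank} {M : CoxeterMatrix (Fin D.rank)}
  {R : Weyl.RootTable} {F : Type*} [Field F]

/-! ### Facts about a single fundamental reflection -/

theorem nR_mul_self_mem_diag (hW : GoodWeyl D) (i : Fin D.rank) :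
    (nR hW i : GL D.Idx F) * nR hW i ∈ D.diagonalSubgroup F := by
  rw [nR_sq hW]
  exact hT_mem_diagonal hW _ _

theorem exists_nR_inv_eq (hW : GoodWeyl D) (i : Fin D.rank) :
    ∃ k ∈ D.diagonalSubgroup F, (nR hW i : GL D.Idx F)⁻¹ = k * nR hW i :=
  ⟨_, inv_mem (nR_mul_self_mem_diag hW i), by group⟩

/-- `n x_α(t) n⁻¹` lies in `B n B` for `t ≠ 0`. -/
theorem nR_conj_X_pRoot (hW : GoodWeyl D) (i : Fin D.rank) (t : Fˣ) :
    nR hW i * X hW.good (pRoot hW i) (t : F) * (nR hW i)⁻¹ =
      X hW.good (pRoot hW i) (-((t⁻¹ : Fˣ) : F)) * hT F (pRoot hW i) t⁻¹ * nR hW i *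
        X hW.good (pRoot hW i) (-((t⁻¹ : Fˣ) : F)) := by
  have h := nWord_eq hW i t⁻¹
  rw [inv_inv] at h
  rw [nR_conj, hW.wPerm_pRoot, hW.eta_pRoot, Int.cast_neg, Int.cast_one, neg_one_mul]
  calc X hW.good (pRoot hW i).rev (-(t : F))
      = (X hW.good (pRoot hW i) ((t⁻¹ : Fˣ) : F))⁻¹ * (X hW.good (pRoot hW i) ((t⁻¹ : Fˣ) : F) *
          X hW.good (pRoot hW i).rev (-(t : F)) * X hW.good (pRoot hW i) ((t⁻¹ : Fˣ) : F)) *
          (X hW.good (pRoot hW i) ((t⁻¹ : Fˣ) : F))⁻¹ := by group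
    _ = _ := by rw [h, X_inv]; simp only [mul_assoc]

theorem X_pRoot_mem_borel (hW : GoodWeyl D) (i : Fin D.rank) (t : F) :
    X hW.good (pRoot hW i) t ∈ D.borelSubgroup F :=
  pos_le_borel D (X_mem_pos hW.good (pRoot_pos hW i) t)

/-- Every element of `B` is `b' x_α(t)` with `n_i b' n_i⁻¹` again in `B`. -/
theorem exists_borel_split (hW : GoodWeyl D) (i : Fin D.rank) {b : GL D.Idx F}
    (hb : b ∈ D.borelSubgroup F) :
    ∃ t : F, ∃ b' : GL D.Idx F, b = b' * X hW.good (pRoot hW i) t ∧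
      nR hW i * b' * (nR hW i)⁻¹ ∈ D.borelSubgroup F ∧
      (nR hW i)⁻¹ * b' * nR hW i ∈ D.borelSubgroup F := by
  obtain ⟨u, hu, k, hk, rfl⟩ := (mem_borel_iff hW).1 hb
  obtain ⟨v, hv, t, rfl⟩ := exists_split_pos hW i hu
  obtain ⟨c, hc⟩ := diag_conj_X hW (inv_mem hk) (pRoot hW i)
  have hn := Subgroup.mem_normalizer_iff.1
    (monomial_le_normalizer hW (nR_mem_monomial (F := F) hW i))
  refine ⟨(c : F) * t, v * k, ?_, ?_, ?_⟩
  · rw [← hc]; group
  · rw [show ∀ n v k : GL D.Idx F, n * (v * k) * n⁻¹ = (n * v * n⁻¹) * (n * k * n⁻¹) from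
      fun n v k => by group]
    exact mul_mem (pos_le_borel D (rootGen_posCompl_le hW i (nR_conj_posCompl hW i hv)))
      (diag_le_borel D ((hn k).1 hk))
  · rw [show ∀ n v k : GL D.Idx F, n⁻¹ * (v * k) * n = (n⁻¹ * v * n) * (n⁻¹ * k * n) from
      fun n v k => by group]
    refine mul_mem (pos_le_borel D (rootGen_posCompl_le hW i (nR_inv_conj_posCompl hW i hv)))
      (diag_le_borel D ((hn _).2 ?_))
    rwa [show ∀ n k : GL D.Idx F, n * (n⁻¹ * k * n) * n⁻¹ = k from fun n k => by group]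

/-! ### The cells -/

/-- A chosen element of `N` over `w`. -/
noncomputable def nW (hW : GoodWeyl D) (h : Weyl.RootGood C M R) (F : Type*) [Field F]
    (w : M.Group) : GL D.Idx F :=
  ((weylHom_surjective (F := F) hW h w).choose : ↥(D.monomialSubgroup F))

theorem nW_mem (hW : GoodWeyl D) (h : Weyl.RootGood C M R) (w : M.Group) :
    nW hW h F w ∈ D.monomialSubgroup F :=
  (weylHom_surjective (F := F) hW h w).choose.2

theorem weylHom_nW (hW : GoodWeyl D) (h : Weyl.RootGood C M R) (w : M.Group)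
    (hm : nW hW h F w ∈ D.monomialSubgroup F) : weylHom hW h ⟨nW hW h F w, hm⟩ = w :=
  (weylHom_surjective (F := F) hW h w).choose_spec

theorem monBy_nW (hW : GoodWeyl D) (h : Weyl.RootGood C M R) (w : M.Group) :
    MonBy hW (nW hW h F w) (h.rootPerm w) := by
  have := monBy_weylHom hW h ⟨nW hW h F w, nW_mem hW h w⟩
  rwa [weylHom_nW] at this

theorem exists_eq_nW_mul (hW : GoodWeyl D) (h : Weyl.RootGood C M R)
    (n : ↥(D.monomialSubgroup F)) :
    ∃ k ∈ D.diagonalSubgroup F, (n : GL D.Idx F) = nW hW h F (weylHom hW h n) * k := by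
  refine ⟨(nW hW h F (weylHom hW h n))⁻¹ * n, ?_, (mul_inv_cancel_left _ _).symm⟩
  have hk : (⟨nW hW h F (weylHom hW h n), nW_mem hW h _⟩ : ↥(D.monomialSubgroup F))⁻¹ * n ∈
      (weylHom hW h).ker := by
    rw [MonoidHom.mem_ker, map_mul, map_inv, weylHom_nW, inv_mul_cancel]
  rw [ker_weylHom] at hk
  exact hk

/-- The cell `B n_w B`. -/
def cell (hW : GoodWeyl D) (h : Weyl.RootGood C M R) (F : Type*) [Field F] (w : M.Group) :
    Set (GL D.Idx F) :=
  {g | ∃ b ∈ D.borelSubgroup F, ∃ b' ∈ D.borelSubgroup F, b * nW hW h F w * b' = g}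

theorem mem_cell_self (hW : GoodWeyl D) (h : Weyl.RootGood C M R) (n : ↥(D.monomialSubgroup F)) :
    (n : GL D.Idx F) ∈ cell hW h F (weylHom hW h n) := by
  obtain ⟨k, hk, e⟩ := exists_eq_nW_mul hW h n
  exact ⟨1, one_mem _, k, diag_le_borel D hk, by rw [one_mul, e]⟩

theorem nW_mem_cell (hW : GoodWeyl D) (h : Weyl.RootGood C M R) (w : M.Group) :
    nW hW h F w ∈ cell hW h F w :=
  ⟨1, one_mem _, 1, one_mem _, by simp⟩

theorem mul_mem_cell (hW : GoodWeyl D) (h : Weyl.RootGood C M R) {w : M.Group}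
    {b g b' : GL D.Idx F} (hb : b ∈ D.borelSubgroup F) (hg : g ∈ cell hW h F w)
    (hb' : b' ∈ D.borelSubgroup F) : b * g * b' ∈ cell hW h F w := by
  obtain ⟨c, hc, c', hc', rfl⟩ := hg
  exact ⟨b * c, mul_mem hb hc, c' * b', mul_mem hc' hb', by group⟩

theorem borel_mul_mem_cell (hW : GoodWeyl D) (h : Weyl.RootGood C M R) {w : M.Group}
    {b g : GL D.Idx F} (hb : b ∈ D.borelSubgroup F) (hg : g ∈ cell hW h F w) :
    b * g ∈ cell hW h F w := by
  simpa using mul_mem_cell hW h hb hg (one_mem _)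

theorem cell_mul_borel_mem (hW : GoodWeyl D) (h : Weyl.RootGood C M R) {w : M.Group}
    {b g : GL D.Idx F} (hg : g ∈ cell hW h F w) (hb : b ∈ D.borelSubgroup F) :
    g * b ∈ cell hW h F w := by
  simpa using mul_mem_cell hW h (one_mem _) hg hb

theorem mem_cell_symm (hW : GoodWeyl D) (h : Weyl.RootGood C M R) {v w : M.Group}
    (hv : nW hW h F v ∈ cell hW h F w) : nW hW h F w ∈ cell hW h F v := by
  obtain ⟨b, hb, b', hb', e⟩ := hv
  exact ⟨b⁻¹, inv_mem hb, b'⁻¹, inv_mem hb', by rw [← e]; group⟩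

theorem cell_one (hW : GoodWeyl D) (h : Weyl.RootGood C M R) :
    cell hW h F 1 = D.borelSubgroup F := by
  have h1 : nW hW h F 1 ∈ D.borelSubgroup F := by
    have hk : (⟨nW hW h F 1, nW_mem hW h _⟩ : ↥(D.monomialSubgroup F)) ∈ (weylHom hW h).ker :=
      weylHom_nW hW h 1 _
    rw [ker_weylHom] at hk
    exact diag_le_borel D hk
  ext g
  constructor
  · rintro ⟨b, hb, b', hb', rfl⟩
    exact mul_mem (mul_mem hb h1) hb'
  · exact fun hg => ⟨g * (nW hW h F 1)⁻¹, mul_mem hg (inv_mem h1), 1, one_mem _, by simp⟩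

theorem nR_mem_cell (hW : GoodWeyl D) (h : Weyl.RootGood C M R) (i : Fin D.rank) :
    (nR hW i : GL D.Idx F) ∈ cell hW h F (M.simple i) := by
  have := mem_cell_self hW h ⟨nR hW i, nR_mem_monomial (F := F) hW i⟩
  rwa [weylHom_nR] at this

theorem exists_nR_mul_nW (hW : GoodWeyl D) (h : Weyl.RootGood C M R) (i : Fin D.rank)
    (w : M.Group) :
    ∃ k ∈ D.diagonalSubgroup F, nR hW i * nW hW h F w = nW hW h F (M.simple i * w) * k := by
  have := exists_eq_nW_mul hW h
    ((⟨nR hW i, nR_mem_monomial hW i⟩ : ↥(D.monomialSubgroup F)) * ⟨nW hW h F w, nW_mem hW h w⟩)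
  rwa [map_mul, weylHom_nR, weylHom_nW] at this

/-- `α_i` stays positive under `w⁻¹`. -/
def GoesUp (hW : GoodWeyl D) (h : Weyl.RootGood C M R) (i : Fin D.rank) (w : M.Group) : Prop :=
  half D ≤ (h.rootPerm w⁻¹ (pRoot hW i) : ℕ)

theorem simpleRoot_eq (hW : GoodWeyl D) (h : Weyl.RootGood C M R) (i : Fin D.rank) :
    h.simpleRoot i = pRoot hW i :=
  Fin.ext rfl

theorem goesUp_iff (hW : GoodWeyl D) (h : Weyl.RootGood C M R) (i : Fin D.rank) (w : M.Group) :
    GoesUp hW h i w ↔ M.toCoxeterSystem.length (M.simple i * w) =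
      M.toCoxeterSystem.length w + 1 := by
  have hl := h.length_mul_simple_lt_iff w⁻¹ i
  rw [posIdx_iff hW.good h, simpleRoot_eq hW h] at hl
  have e : w⁻¹ * M.simple i = (M.simple i * w)⁻¹ := by
    rw [mul_inv_rev]
    congr 1
    exact (inv_eq_of_mul_eq_one_right (M.toCoxeterSystem.simple_mul_simple_self i)).symm
  rw [e, CoxeterSystem.length_inv, CoxeterSystem.length_inv] at hl
  have := M.toCoxeterSystem.length_simple_mul w i
  rw [CoxeterMatrix.toCoxeterSystem_simple] at this
  rw [GoesUp, ← not_iff_not, ← hl]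
  omega

theorem not_goesUp_simple_mul (hW : GoodWeyl D) (h : Weyl.RootGood C M R) (i : Fin D.rank)
    (w : M.Group) (hw : ¬ GoesUp hW h i w) : GoesUp hW h i (M.simple i * w) := by
  rw [goesUp_iff] at hw ⊢
  have hs : M.simple i * (M.simple i * w) = w := by
    rw [← mul_assoc, show M.simple i * M.simple i = 1 from
      M.toCoxeterSystem.simple_mul_simple_self i, one_mul]
  rw [hs]
  have := M.toCoxeterSystem.length_simple_mul w i
  rw [CoxeterMatrix.toCoxeterSystem_simple] at this
  omega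

/-- A root element moved through `n_w`. -/
theorem X_mul_nW_mem (hW : GoodWeyl D) (h : Weyl.RootGood C M R) {i : Fin D.rank} {w : M.Group}
    (hw : GoesUp hW h i w) (t : F) :
    (nW hW h F w)⁻¹ * X hW.good (pRoot hW i) t * nW hW h F w ∈ D.borelSubgroup F := by
  obtain ⟨c, hc⟩ := (monBy_nW (F := F) hW h w).inv.conj_X (pRoot hW i)
  rw [inv_inv] at hc
  rw [hc, ← map_inv]
  exact pos_le_borel D (X_mem_pos hW.good hw _)

theorem nR_mul_nW_up (hW : GoodWeyl D) (h : Weyl.RootGood C M R) {i : Fin D.rank} {w : M.Group}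
    (hw : GoesUp hW h i w) {b : GL D.Idx F} (hb : b ∈ D.borelSubgroup F) :
    nR hW i * b * nW hW h F w ∈ cell hW h F (M.simple i * w) := by
  obtain ⟨t, b', rfl, hb1, -⟩ := exists_borel_split hW i hb
  obtain ⟨k, hk, e⟩ := exists_nR_mul_nW (F := F) hW h i w
  refine ⟨_, hb1, _, mul_mem (diag_le_borel D hk) (X_mul_nW_mem hW h hw t), ?_⟩
  rw [show ∀ n b' x m m' k : GL D.Idx F,
    n * b' * n⁻¹ * m' * (k * (m⁻¹ * x * m)) = n * b' * n⁻¹ * (m' * k) * (m⁻¹ * x * m) from
    fun n b' x m m' k => by group, ← e]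
  group

theorem nR_mul_nW_mem (hW : GoodWeyl D) (h : Weyl.RootGood C M R) (i : Fin D.rank) (w : M.Group)
    {b : GL D.Idx F} (hb : b ∈ D.borelSubgroup F) :
    nR hW i * b * nW hW h F w ∈ cell hW h F (M.simple i * w) ∪ cell hW h F w := by
  by_cases hw : GoesUp hW h i w
  · exact Or.inl (nR_mul_nW_up hW h hw hb)
  obtain ⟨t, b', rfl, hb1, -⟩ := exists_borel_split hW i hb
  obtain ⟨k, hk, e⟩ := exists_nR_mul_nW (F := F) hW h i w
  rcases eq_or_ne t 0 with rfl | ht
  · refine Or.inl ⟨_, hb1, k, diag_le_borel D hk, ?_⟩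
    rw [mul_assoc _ _ k, ← e, X_zero]
    group
  refine Or.inr ?_
  have e1 := nR_conj_X_pRoot hW i (Units.mk0 t ht)
  rw [Units.val_mk0] at e1
  set y : F := -(((Units.mk0 t ht)⁻¹ : Fˣ) : F)
  have hup := not_goesUp_simple_mul hW h i w hw
  have h2 : nR hW i * X hW.good (pRoot hW i) y * (nR hW i * nW hW h F w) ∈ cell hW h F w := by
    rw [e, show ∀ n x m k : GL D.Idx F, n * x * (m * k) = n * x * m * k from
      fun n x m k => by group]
    refine cell_mul_borel_mem hW h ?_ (diag_le_borel D hk)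
    have := nR_mul_nW_up hW h hup (X_pRoot_mem_borel hW i y)
    rwa [← mul_assoc, show M.simple i * M.simple i = 1 from
      M.toCoxeterSystem.simple_mul_simple_self i, one_mul] at this
  have h3 := borel_mul_mem_cell hW h (mul_mem hb1 (mul_mem (X_pRoot_mem_borel hW i y)
    (diag_le_borel D (hT_mem_diagonal hW (pRoot hW i) (Units.mk0 t ht)⁻¹)))) h2
  rw [show nR hW i * (b' * X hW.good (pRoot hW i) t) * nW hW h F w =
    nR hW i * b' * (nR hW i)⁻¹ * (nR hW i * X hW.good (pRoot hW i) t * (nR hW i)⁻¹) *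
      (nR hW i * nW hW h F w) by group, e1]
  convert h3 using 1
  group

theorem nR_mul_cell (hW : GoodWeyl D) (h : Weyl.RootGood C M R) (i : Fin D.rank) {w : M.Group}
    {g : GL D.Idx F} (hg : g ∈ cell hW h F w) :
    nR hW i * g ∈ cell hW h F (M.simple i * w) ∪ cell hW h F w := by
  obtain ⟨b, hb, b', hb', rfl⟩ := hg
  rw [← mul_assoc, ← mul_assoc]
  rcases nR_mul_nW_mem hW h i w hb with h1 | h1
  · exact Or.inl (cell_mul_borel_mem hW h h1 hb')
  · exact Or.inr (cell_mul_borel_mem hW h h1 hb')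

theorem nR_inv_mul_cell (hW : GoodWeyl D) (h : Weyl.RootGood C M R) (i : Fin D.rank) {w : M.Group}
    {g : GL D.Idx F} (hg : g ∈ cell hW h F w) :
    (nR hW i)⁻¹ * g ∈ cell hW h F (M.simple i * w) ∪ cell hW h F w := by
  obtain ⟨k, hk, e⟩ := exists_nR_inv_eq (F := F) hW i
  rw [e, mul_assoc]
  rcases nR_mul_cell hW h i hg with h1 | h1
  · exact Or.inl (borel_mul_mem_cell hW h (diag_le_borel D hk) h1)
  · exact Or.inr (borel_mul_mem_cell hW h (diag_le_borel D hk) h1)

/-! ### Uniqueness -/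

theorem eq_of_nW_mem_cell (hW : GoodWeyl D) (h : Weyl.RootGood C M R) {v w : M.Group}
    (hv : nW hW h F v ∈ cell hW h F w) : v = w := by
  suffices H : ∀ n, ∀ v w : M.Group, M.toCoxeterSystem.length v = n →
      M.toCoxeterSystem.length v ≤ M.toCoxeterSystem.length w →
      nW hW h F v ∈ cell hW h F w → v = w by
    rcases le_total (M.toCoxeterSystem.length v) (M.toCoxeterSystem.length w) with hl | hl
    · exact H _ v w rfl hl hv
    · exact (H _ w v rfl hl (mem_cell_symm hW h hv)).symm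
  intro n
  induction n using Nat.strong_induction_on with
  | _ n ih =>
    intro v w hn hle hv
    by_cases hv1 : v = 1
    · subst hv1
      have hw := mem_cell_symm hW h hv
      rw [cell_one hW h, SetLike.mem_coe] at hw
      have := weylHom_eq_one_of_mem_borel hW h (g := ⟨nW hW h F w, nW_mem hW h w⟩) hw
      rw [weylHom_nW] at this
      exact this.symm
    obtain ⟨i, hi⟩ := M.toCoxeterSystem.exists_leftDescent_of_ne_one hv1
    rw [CoxeterSystem.isLeftDescent_iff, CoxeterMatrix.toCoxeterSystem_simple] at hi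
    set v' := M.simple i * v with hv'
    have hmem : nW hW h F v' ∈ cell hW h F (M.simple i * w) ∪ cell hW h F w := by
      obtain ⟨k, hk, e⟩ := exists_nR_mul_nW (F := F) hW h i v
      rw [show nW hW h F v' = nR hW i * nW hW h F v * k⁻¹ by rw [e, mul_inv_cancel_right]]
      rcases nR_mul_cell hW h i hv with h1 | h1
      · exact Or.inl (cell_mul_borel_mem hW h h1 (inv_mem (diag_le_borel D hk)))
      · exact Or.inr (cell_mul_borel_mem hW h h1 (inv_mem (diag_le_borel D hk)))
    rcases hmem with h1 | h1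
    · have hl := M.toCoxeterSystem.length_simple_mul w i
      rw [CoxeterMatrix.toCoxeterSystem_simple] at hl
      have := ih _ (by omega) v' (M.simple i * w) rfl (by omega) h1
      exact mul_left_cancel this
    · have := ih _ (by omega) v' w rfl (by omega) h1
      rw [this] at hi
      omega

theorem cell_eq_of_mem (hW : GoodWeyl D) (h : Weyl.RootGood C M R) {v w : M.Group}
    {g : GL D.Idx F} (hv : g ∈ cell hW h F v) (hw : g ∈ cell hW h F w) : v = w := by
  obtain ⟨b, hb, b', hb', rfl⟩ := hv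
  refine eq_of_nW_mem_cell (F := F) hW h ?_
  have := mul_mem_cell hW h (inv_mem hb) hw (inv_mem hb')
  rwa [show b⁻¹ * (b * nW hW h F v * b') * b'⁻¹ = nW hW h F v by group] at this

/-! ### Cover -/

theorem diag_le_group (hW : GoodWeyl D) : D.diagonalSubgroup F ≤ D.group F := by
  rw [diagonalSubgroup_eq hW, Subgroup.closure_le]
  rintro _ ⟨r, t, rfl⟩
  rw [← hElt_eq hW]
  exact mul_mem (mul_mem (mul_mem (X_mem_group _ _ _) (X_mem_group _ _ _)) (X_mem_group _ _ _))
    (mul_mem (mul_mem (X_mem_group _ _ _) (X_mem_group _ _ _)) (X_mem_group _ _ _))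

theorem nR_mem_group (hW : GoodWeyl D) (i : Fin D.rank) :
    (nR hW i : GL D.Idx F) ∈ D.group F :=
  mul_mem (mul_mem (X_mem_group _ _ _) (X_mem_group _ _ _)) (X_mem_group _ _ _)

theorem monomial_le_group (hW : GoodWeyl D) : D.monomialSubgroup F ≤ D.group F := by
  rw [monomialSubgroup_eq hW]
  refine sup_le (diag_le_group hW) ((Subgroup.closure_le _).2 ?_)
  rintro _ ⟨i, rfl⟩
  exact nR_mem_group hW i

theorem borel_le_group (hW : GoodWeyl D) : D.borelSubgroup F ≤ D.group F := by
  refine sup_le ?_ (diag_le_group hW)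
  rw [posUnipotent_eq_rootGen hW.good]
  exact rootGen_le _ fun r _ t => X_mem_group _ _ _

/-- `G` is generated by `B` and the `n_i`. -/
theorem group_eq_borel_sup (hW : GoodWeyl D) :
    D.group F = D.borelSubgroup F ⊔ Subgroup.closure (Set.range (nR hW : Fin D.rank → GL D.Idx F)) := by
  refine le_antisymm ?_ (sup_le (borel_le_group hW) ((Subgroup.closure_le _).2 ?_))
  · rw [group_eq_closure hW.good, Subgroup.closure_le]
    rintro _ ⟨r, t, rfl⟩
    set K := D.borelSubgroup F ⊔ Subgroup.closure (Set.range (nR hW : Fin D.rank → GL D.Idx F))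
    revert t
    refine hW.root_induction (P := fun r => ∀ t, X hW.good r t ∈ K)
      (fun i t => Subgroup.mem_sup_left (X_pRoot_mem_borel hW i t)) ?_ r
    intro i s hs t
    have hn : (nR hW i : GL D.Idx F) ∈ K :=
      Subgroup.mem_sup_right (Subgroup.subset_closure ⟨i, rfl⟩)
    have := mul_mem (mul_mem hn (hs ((eta D i s : F) * t))) (inv_mem hn)
    rwa [nR_conj, ← mul_assoc, ← Int.cast_mul, hW.eta_sq, Int.cast_one, one_mul] at this
  · rintro _ ⟨i, rfl⟩
    exact nR_mem_group hW i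

theorem exists_mem_cell (hW : GoodWeyl D) (h : Weyl.RootGood C M R) {g : GL D.Idx F}
    (hg : g ∈ D.group F) : ∃ w : M.Group, g ∈ cell hW h F w := by
  rw [group_eq_borel_sup hW, ← Subgroup.closure_eq (D.borelSubgroup F),
    ← Subgroup.closure_union] at hg
  induction hg using Subgroup.closure_induction_left with
  | one => exact ⟨1, by rw [cell_one hW h]; exact one_mem _⟩
  | mul_left x hx y _ ih =>
    obtain ⟨w, hw⟩ := ih
    rcases hx with hx | ⟨i, rfl⟩
    · exact ⟨w, borel_mul_mem_cell hW h hx hw⟩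
    · rcases nR_mul_cell hW h i hw with h1 | h1 <;> exact ⟨_, h1⟩
  | inv_mul_cancel x hx y _ ih =>
    obtain ⟨w, hw⟩ := ih
    rcases hx with hx | ⟨i, rfl⟩
    · exact ⟨w, borel_mul_mem_cell hW h (inv_mem hx) hw⟩
    · rcases nR_inv_mul_cell hW h i hw with h1 | h1 <;> exact ⟨_, h1⟩

theorem cell_subset_group (hW : GoodWeyl D) (h : Weyl.RootGood C M R) {w : M.Group}
    {g : GL D.Idx F} (hg : g ∈ cell hW h F w) : g ∈ D.group F := by
  obtain ⟨b, hb, b', hb', rfl⟩ := hg
  exact mul_mem (mul_mem (borel_le_group hW hb) (monomial_le_group hW (nW_mem hW h w)))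
    (borel_le_group hW hb')

/-! ### The cosets in a cell -/

/-- The cosets of `B` inside a cell. -/
def cellQ (hW : GoodWeyl D) (h : Weyl.RootGood C M R) (F : Type*) [Field F] (w : M.Group) :
    Set (GL D.Idx F ⧸ D.borelSubgroup F) :=
  QuotientGroup.mk '' cell hW h F w

theorem mem_cell_of_mk (hW : GoodWeyl D) (h : Weyl.RootGood C M R) {w : M.Group}
    {g : GL D.Idx F} (hg : (g : GL D.Idx F ⧸ D.borelSubgroup F) ∈ cellQ hW h F w) :
    g ∈ cell hW h F w := by
  obtain ⟨g', hg', e⟩ := hg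
  have := cell_mul_borel_mem hW h hg' (QuotientGroup.eq.1 e)
  rwa [mul_inv_cancel_left] at this

theorem natCard_cellQ (hW : GoodWeyl D) (h : Weyl.RootGood C M R) (w : M.Group) :
    Nat.card (cellQ hW h F w) = Nat.card F ^ M.toCoxeterSystem.length w := by
  generalize hn : M.toCoxeterSystem.length w = n
  induction n generalizing w with
  | zero =>
    obtain rfl := M.toCoxeterSystem.length_eq_zero_iff.1 hn
    rw [pow_zero, Nat.card_eq_one_iff_unique]
    refine ⟨⟨?_⟩, ⟨⟨_, _, nW_mem_cell hW h 1, rfl⟩⟩⟩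
    rintro ⟨_, a, ha, rfl⟩ ⟨_, b, hb, rfl⟩
    rw [cell_one hW h] at ha hb
    exact Subtype.ext (QuotientGroup.eq.2 (mul_mem (inv_mem ha) hb))
  | succ n ih =>
    have hw1 : w ≠ 1 := fun e => by subst e; simp at hn
    obtain ⟨i, hi⟩ := M.toCoxeterSystem.exists_leftDescent_of_ne_one hw1
    rw [CoxeterSystem.isLeftDescent_iff, CoxeterMatrix.toCoxeterSystem_simple] at hi
    obtain ⟨v, rfl⟩ : ∃ v, w = M.simple i * v := ⟨M.simple i * w, by
      rw [← mul_assoc, show M.simple i * M.simple i = 1 from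
        M.toCoxeterSystem.simple_mul_simple_self i, one_mul]⟩
    rw [← mul_assoc, show M.simple i * M.simple i = 1 from
        M.toCoxeterSystem.simple_mul_simple_self i, one_mul] at hi
    have hup : GoesUp hW h i v := (goesUp_iff hW h i v).2 (by omega)
    have hmaps : ∀ (t : F) (c : GL D.Idx F), c ∈ cell hW h F v →
        X hW.good (pRoot hW i) t * nR hW i * c ∈ cell hW h F (M.simple i * v) := by
      rintro t c ⟨b, hb, b', hb', rfl⟩
      rw [show X hW.good (pRoot hW i) t * nR hW i * (b * nW hW h F v * b') =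
        X hW.good (pRoot hW i) t * (nR hW i * b * nW hW h F v) * b' by group]
      exact mul_mem_cell hW h (X_pRoot_mem_borel hW i t) (nR_mul_nW_up hW h hup hb) hb'
    let φ : F × cellQ hW h F v → cellQ hW h F (M.simple i * v) := fun p =>
      ⟨(X hW.good (pRoot hW i) p.1 * nR hW i) • (p.2 : GL D.Idx F ⧸ D.borelSubgroup F), by
        obtain ⟨c, hc, e⟩ := p.2.2
        exact ⟨_, hmaps p.1 c hc, by rw [← e]; rfl⟩⟩
    have hφ : Function.Bijective φ := by
      constructor
      · rintro ⟨t, _, c, hc, rfl⟩ ⟨t', _, c', hc', rfl⟩ e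
        have e' : ((X hW.good (pRoot hW i) t * nR hW i * c : GL D.Idx F) :
            GL D.Idx F ⧸ D.borelSubgroup F) = (X hW.good (pRoot hW i) t' * nR hW i * c' : GL D.Idx F) :=
          Subtype.ext_iff.1 e
        rw [QuotientGroup.eq] at e'
        have ht : t = t' := by
          by_contra hne
          have hd : t' - t ≠ 0 := sub_ne_zero.2 (Ne.symm hne)
          set u := Units.mk0 _ hd
          -- `n⁻¹ x(t'-t) n` lies in `B n B`
          obtain ⟨k, hk, hk'⟩ := exists_nR_inv_eq (F := F) hW i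
          have e1 := nR_conj_X_pRoot hW i u
          have hy : (nR hW i)⁻¹ * X hW.good (pRoot hW i) (t' - t) * nR hW i * c' ∈
              cell hW h F (M.simple i * v) := by
            have : (nR hW i)⁻¹ * X hW.good (pRoot hW i) (t' - t) * nR hW i * c' =
                k * X hW.good (pRoot hW i) (-((u⁻¹ : Fˣ) : F)) * hT F (pRoot hW i) u⁻¹ *
                  (nR hW i * (X hW.good (pRoot hW i) (-((u⁻¹ : Fˣ) : F)) * k⁻¹ * c')) := by
              have hk2 : k = (nR hW i)⁻¹ * (nR hW i)⁻¹ := eq_mul_inv_of_mul_eq hk'.symm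
              calc _ = k * (nR hW i * X hW.good (pRoot hW i) (u : F) * (nR hW i)⁻¹) * k⁻¹ * c' := by
                    rw [hk2, Units.val_mk0]; group
                _ = _ := by rw [e1]; group
            rw [this]
            refine borel_mul_mem_cell hW h (mul_mem (mul_mem (diag_le_borel D hk)
              (X_pRoot_mem_borel hW i _)) (diag_le_borel D (hT_mem_diagonal hW _ _))) ?_
            obtain ⟨b, hb, b', hb', rfl⟩ := hc'
            rw [show nR hW i * (X hW.good (pRoot hW i) (-((u⁻¹ : Fˣ) : F)) * k⁻¹ *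
              (b * nW hW h F v * b')) = nR hW i * (X hW.good (pRoot hW i) (-((u⁻¹ : Fˣ) : F)) *
                k⁻¹ * b) * nW hW h F v * b' by group]
            exact cell_mul_borel_mem hW h (nR_mul_nW_up hW h hup (mul_mem (mul_mem
              (X_pRoot_mem_borel hW i _) (inv_mem (diag_le_borel D hk))) hb)) hb'
          have hy' : (nR hW i)⁻¹ * X hW.good (pRoot hW i) (t' - t) * nR hW i * c' ∈
              cell hW h F v := by
            have := cell_mul_borel_mem hW h hc e'
            rw [show c * ((X hW.good (pRoot hW i) t * nR hW i * c)⁻¹ *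
              (X hW.good (pRoot hW i) t' * nR hW i * c')) = (nR hW i)⁻¹ *
              ((X hW.good (pRoot hW i) t)⁻¹ * X hW.good (pRoot hW i) t') * nR hW i * c' by group,
              X_inv, X_mul, neg_add_eq_sub] at this
            exact this
          have := cell_eq_of_mem hW h hy hy'
          rw [this] at hi
          omega
        subst ht
        refine Prod.ext rfl (Subtype.ext (QuotientGroup.eq.2 ?_))
        rwa [show (X hW.good (pRoot hW i) t * nR hW i * c)⁻¹ *
          (X hW.good (pRoot hW i) t * nR hW i * c') = c⁻¹ * c' by group] at e'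
      · rintro ⟨_, g, ⟨b, hb, b', hb', rfl⟩, rfl⟩
        obtain ⟨u, hu, k, hk, rfl⟩ := (mem_borel_iff hW).1 hb
        obtain ⟨t, v', hv', rfl⟩ := exists_split_pos' hW i hu
        obtain ⟨l, hl, el⟩ := exists_nR_mul_nW (F := F) hW h i v
        have hn := Subgroup.mem_normalizer_iff.1
          (monomial_le_normalizer hW (inv_mem (nR_mem_monomial (F := F) hW i))) k
        have hc : ((nR hW i)⁻¹ * v' * nR hW i * ((nR hW i)⁻¹ * k * (nR hW i)⁻¹⁻¹)) *
            nW hW h F v ∈ cell hW h F v :=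
          borel_mul_mem_cell hW h (mul_mem
            (pos_le_borel D (rootGen_posCompl_le hW i (nR_inv_conj_posCompl hW i hv')))
            (diag_le_borel D (hn.1 hk))) (nW_mem_cell hW h v)
        refine ⟨(t, ⟨_, _, hc, rfl⟩), Subtype.ext (QuotientGroup.eq.2 ?_)⟩
        have : (X hW.good (pRoot hW i) t * nR hW i *
            (((nR hW i)⁻¹ * v' * nR hW i * ((nR hW i)⁻¹ * k * (nR hW i)⁻¹⁻¹)) * nW hW h F v))⁻¹ *
            (X hW.good (pRoot hW i) t * v' * k * nW hW h F (M.simple i * v) * b') =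
            l⁻¹ * b' := by
          rw [show nW hW h F (M.simple i * v) = nR hW i * nW hW h F v * l⁻¹ by
            rw [el, mul_inv_cancel_right]]
          group
        exact this.symm ▸ mul_mem (inv_mem (diag_le_borel D hl)) hb'
    rw [← Nat.card_eq_of_bijective φ hφ, Nat.card_prod, ih v (by omega), pow_succ']

end CfsgLib.Chevalley
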