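import Cfsg.Agent.Chevalley.Monomial
import Cfsg.Agent.Weyl.Roots
/-!
`N/H` is the Weyl group: the surjection `weylHom : N →* M.Group` with kernel `H`, for a datum with
a certified root action of the Coxeter group of `M`.
-/

set_option autoImplicit false

namespace CfsgLib.Chevalley

open Cfsg.Lie
open scoped MatrixGroups

section Involutions

variable {G : Type*} [Group G] {a b : G}

theorem pow_mul_inv_eq (ha : a * a = 1) (hb : b * b = 1) (c : ℕ) :
    ((a * b) ^ c)⁻¹ = a * (a * b) ^ c * a := by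
  have ha' : a⁻¹ = a := inv_eq_of_mul_eq_one_right ha
  have hb' : b⁻¹ = b := inv_eq_of_mul_eq_one_right hb
  conv_rhs => arg 2; rw [← ha']
  rw [← conj_pow, ← inv_pow, mul_inv_rev, hb', ha', ← mul_assoc a a b, ha, one_mul]

theorem pow_odd_eq (ha : a * a = 1) (hb : b * b = 1) (c : ℕ) :
    (a * b) ^ (2 * c + 1) = (a * b) ^ c * a * ((a * b) ^ c)⁻¹ * b := by
  rw [pow_mul_inv_eq ha hb, two_mul, pow_succ, pow_add]
  calc (a * b) ^ c * (a * b) ^ c * (a * b)
      = (a * b) ^ c * (a * a) * (a * b) ^ c * (a * b) := by rw [ha, mul_one]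
    _ = _ := by group

theorem pow_even_eq (ha : a * a = 1) (hb : b * b = 1) (c : ℕ) :
    (a * b) ^ (2 * c + 2) = (a * b) ^ c * a * b * ((a * b) ^ c * a)⁻¹ * b := by
  rw [mul_inv_rev, inv_eq_of_mul_eq_one_right ha, pow_mul_inv_eq ha hb]
  calc (a * b) ^ (2 * c + 2)
      = (a * b) ^ c * (a * b) * ((a * b) ^ c * (a * b)) := by rw [← pow_succ, ← pow_add]; ring_nf
    _ = (a * b) ^ c * (a * b) * (a * a) * ((a * b) ^ c * (a * b)) := by rw [ha, mul_one]
    _ = _ := by group

/-- A conjugation identity in `N/K` read off in the ambient group. -/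
theorem conj_mk_eq {N K : Subgroup G} [(K.subgroupOf N).Normal] {x p q : ↥N}
    (hK : (x : G) * p * (x : G)⁻¹ * (q : G)⁻¹ ∈ K) :
    (QuotientGroup.mk x : ↥N ⧸ K.subgroupOf N) * QuotientGroup.mk p * (QuotientGroup.mk x)⁻¹ =
      QuotientGroup.mk q := by
  rw [← mul_inv_eq_one, ← QuotientGroup.mk_inv, ← QuotientGroup.mk_inv, ← QuotientGroup.mk_mul,
    ← QuotientGroup.mk_mul, ← QuotientGroup.mk_mul, QuotientGroup.eq_one_iff]
  simpa [Subgroup.mem_subgroupOf] using hK

/-- An involution in `N/K` read off in the ambient group. -/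
theorem mk_mul_self_eq {N K : Subgroup G} [(K.subgroupOf N).Normal] {p : ↥N}
    (hK : (p : G) * p ∈ K) :
    (QuotientGroup.mk p : ↥N ⧸ K.subgroupOf N) * QuotientGroup.mk p = 1 := by
  rw [← QuotientGroup.mk_mul, QuotientGroup.eq_one_iff]
  simpa [Subgroup.mem_subgroupOf] using hK

end Involutions

variable {D : ChevalleyDatum} {C : Weyl.Cert D.rank} {M : CoxeterMatrix (Fin D.rank)}
  {R : Weyl.RootTable} {F : Type*} [Field F]

theorem wPerm_eq_rootPerm (hW : GoodWeyl D) (h : Weyl.RootGood C M R) (i : Fin D.rank) :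
    wPerm hW i = h.rootPerm (M.simple i) :=
  Equiv.ext fun r => Fin.ext ((hW.wPerm_val i r).trans (h.rootPerm_simple_apply i r).symm)

/-- The relations of `W` hold modulo `H`, so an element of `N` acting trivially lies in `H`. -/
theorem exists_hom_mod_diag (hW : GoodWeyl D) (h : Weyl.RootGood C M R)
    [hn : ((D.diagonalSubgroup F).subgroupOf (D.monomialSubgroup F)).Normal] :
    ∃ ψ : M.Group →* ↥(D.monomialSubgroup F) ⧸
        (D.diagonalSubgroup F).subgroupOf (D.monomialSubgroup F),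
      ∀ i, ψ (M.simple i) = QuotientGroup.mk ⟨nR hW i, nR_mem_monomial hW i⟩ := by
  set N := D.monomialSubgroup F
  let f : Fin D.rank → ↥N ⧸ (D.diagonalSubgroup F).subgroupOf N :=
    fun i => QuotientGroup.mk ⟨nR hW i, nR_mem_monomial hW i⟩
  have hsq : ∀ i, f i * f i = 1 := fun i =>
    mk_mul_self_eq (p := (⟨nR hW i, nR_mem_monomial hW i⟩ : ↥N))
      (show (nR hW i : GL D.Idx F) * nR hW i ∈ D.diagonalSubgroup F from
        (nR_sq (F := F) hW i).symm ▸ hT_mem_diagonal hW _ _)
  -- conjugation in the quotient follows the permutations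
  have hconj : ∀ (x : ↥N) (π : Equiv.Perm (Root D)), MonBy hW (x : GL D.Idx F) π → ∀ i k,
      π * wPerm hW i * π⁻¹ = wPerm hW k →
        (QuotientGroup.mk x : ↥N ⧸ _) * f i * (QuotientGroup.mk x)⁻¹ = f k := by
    intro x π hx i k hp
    exact conj_mk_eq (p := (⟨nR hW i, nR_mem_monomial hW i⟩ : ↥N))
      (q := (⟨nR hW k, nR_mem_monomial hW k⟩ : ↥N)) (nR_conj_mod hW hx hp)
  have hperm : ∀ i, wPerm hW i * wPerm hW i = 1 := fun i =>
    Equiv.ext fun r => hW.wPerm_wPerm i r
  have hlift : M.IsLiftable f := by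
    intro i j
    have hrel : (wPerm hW i * wPerm hW j) ^ M i j = 1 := by
      rw [wPerm_eq_rootPerm hW h, wPerm_eq_rootPerm hW h, ← map_mul, ← map_pow,
        show (M.simple i * M.simple j) ^ M i j = 1 from M.toCoxeterSystem.simple_mul_simple_pow i j,
        map_one]
    let ni : ↥N := ⟨nR hW i, nR_mem_monomial hW i⟩
    let nj : ↥N := ⟨nR hW j, nR_mem_monomial hW j⟩
    have hP : ∀ c : ℕ, MonBy hW (((ni * nj) ^ c : ↥N) : GL D.Idx F)
        ((wPerm hW i * wPerm hW j) ^ c) := by
      intro c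
      induction c with
      | zero => simpa using MonBy.one hW
      | succ c ih =>
        simp only [pow_succ, Subgroup.coe_mul]
        exact ih.mul ((monBy_nR hW i).mul (monBy_nR hW j))
    rcases Nat.even_or_odd' (M i j) with ⟨c, hc | hc⟩
    · rcases c with _ | c
      · simp [hc]
      rw [hc, show 2 * (c + 1) = 2 * c + 2 by ring] at hrel ⊢
      rw [pow_even_eq (hperm i) (hperm j)] at hrel
      rw [pow_even_eq (hsq i) (hsq j)]
      have := hconj ((ni * nj) ^ c * ni) _ ((hP c).mul (monBy_nR hW i)) j j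
        ((mul_eq_one_iff_eq_inv.1 hrel).trans (inv_eq_of_mul_eq_one_right (hperm j)))
      simp only [QuotientGroup.mk_mul, QuotientGroup.mk_pow] at this
      rw [this, hsq]
    · rw [hc] at hrel ⊢
      rw [pow_odd_eq (hperm i) (hperm j)] at hrel
      rw [pow_odd_eq (hsq i) (hsq j)]
      have := hconj ((ni * nj) ^ c) _ (hP c) i j
        ((mul_eq_one_iff_eq_inv.1 hrel).trans (inv_eq_of_mul_eq_one_right (hperm j)))
      simp only [QuotientGroup.mk_mul, QuotientGroup.mk_pow] at this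
      rw [this, hsq]
  refine ⟨M.toCoxeterSystem.lift ⟨f, hlift⟩, fun i => ?_⟩
  rw [← CoxeterMatrix.toCoxeterSystem_simple]
  exact M.toCoxeterSystem.lift_apply_simple hlift i

theorem exists_weylElt (hW : GoodWeyl D) (h : Weyl.RootGood C M R) {g : GL D.Idx F}
    (hg : g ∈ D.monomialSubgroup F) : ∃ w : M.Group, MonBy hW g (h.rootPerm w) :=
  monomial_induction hW (P := fun g => ∃ w : M.Group, MonBy hW g (h.rootPerm w)) hg
    (fun _ hh => ⟨1, (map_one h.rootPerm).symm ▸ monBy_diag hW hh⟩)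
    (fun i => ⟨M.simple i, wPerm_eq_rootPerm hW h i ▸ monBy_nR hW i⟩)
    (fun _ _ ⟨v, ha⟩ ⟨w, hb⟩ => ⟨v * w, (map_mul h.rootPerm v w).symm ▸ ha.mul hb⟩)
    (fun _ ⟨v, ha⟩ => ⟨v⁻¹, (map_inv h.rootPerm v).symm ▸ ha.inv⟩)

/-- The Weyl group element of an element of `N`. -/
noncomputable def weylOf (hW : GoodWeyl D) (h : Weyl.RootGood C M R)
    (g : ↥(D.monomialSubgroup F)) : M.Group :=
  (exists_weylElt hW h g.2).choose

theorem monBy_weylOf (hW : GoodWeyl D) (h : Weyl.RootGood C M R) (g : ↥(D.monomialSubgroup F)) :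
    MonBy hW (g : GL D.Idx F) (h.rootPerm (weylOf hW h g)) :=
  (exists_weylElt hW h g.2).choose_spec

theorem weylOf_eq (hW : GoodWeyl D) (h : Weyl.RootGood C M R) {g : ↥(D.monomialSubgroup F)}
    {w : M.Group} (hg : MonBy hW (g : GL D.Idx F) (h.rootPerm w)) : weylOf hW h g = w :=
  h.rootPerm_injective ((monBy_weylOf hW h g).unique hg)

/-- The homomorphism `N → W`. -/
noncomputable def weylHom (hW : GoodWeyl D) (h : Weyl.RootGood C M R) :
    ↥(D.monomialSubgroup F) →* M.Group where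
  toFun := weylOf hW h
  map_one' := weylOf_eq hW h (by rw [map_one]; exact MonBy.one hW)
  map_mul' a b := weylOf_eq hW h (by
    rw [map_mul]; exact (monBy_weylOf hW h a).mul (monBy_weylOf hW h b))

theorem monBy_weylHom (hW : GoodWeyl D) (h : Weyl.RootGood C M R) (g : ↥(D.monomialSubgroup F)) :
    MonBy hW (g : GL D.Idx F) (h.rootPerm (weylHom hW h g)) :=
  monBy_weylOf hW h g

theorem weylHom_eq (hW : GoodWeyl D) (h : Weyl.RootGood C M R) {g : ↥(D.monomialSubgroup F)}
    {w : M.Group} (hg : MonBy hW (g : GL D.Idx F) (h.rootPerm w)) : weylHom hW h g = w :=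
  weylOf_eq hW h hg

theorem weylHom_nR (hW : GoodWeyl D) (h : Weyl.RootGood C M R) (i : Fin D.rank) :
    weylHom hW h (⟨nR hW i, nR_mem_monomial hW i⟩ : ↥(D.monomialSubgroup F)) = M.simple i :=
  weylHom_eq hW h (wPerm_eq_rootPerm hW h i ▸ monBy_nR hW i)

theorem weylHom_surjective (hW : GoodWeyl D) (h : Weyl.RootGood C M R) :
    Function.Surjective (weylHom (F := F) hW h) := by
  intro w
  induction w using M.toCoxeterSystem.simple_induction_left with
  | one => exact ⟨1, map_one _⟩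
  | mul_simple_left w i ih =>
    obtain ⟨g, rfl⟩ := ih
    exact ⟨⟨nR hW i, nR_mem_monomial hW i⟩ * g, by rw [map_mul, weylHom_nR]; rfl⟩

theorem diag_normal (hW : GoodWeyl D) :
    ((D.diagonalSubgroup F).subgroupOf (D.monomialSubgroup F)).Normal :=
  (Subgroup.normal_subgroupOf_iff_le_normalizer (diag_le_monomial D)).2 (monomial_le_normalizer hW)

/-- The kernel of `N → W` is `H`. -/
theorem ker_weylHom (hW : GoodWeyl D) (h : Weyl.RootGood C M R) :
    (weylHom (F := F) hW h).ker = (D.diagonalSubgroup F).subgroupOf (D.monomialSubgroup F) := by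
  have := diag_normal (F := F) hW
  refine le_antisymm (fun g hg => ?_) fun g hg => ?_
  · obtain ⟨ψ, hψ⟩ := exists_hom_mod_diag (F := F) hW h
    have key : ∀ x : ↥(D.monomialSubgroup F),
        ψ (weylHom hW h x) = QuotientGroup.mk x := by
      intro x
      suffices H : ψ.comp (weylHom hW h) = QuotientGroup.mk' ((D.diagonalSubgroup F).subgroupOf (D.monomialSubgroup F)) from DFunLike.congr_fun H x
      set S : Set ↥(D.monomialSubgroup F) := {x | (x : GL D.Idx F) ∈ D.diagonalSubgroup F} ∪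
        Set.range fun i => ⟨nR hW i, nR_mem_monomial hW i⟩
      refine MonoidHom.eq_of_eqOn_dense (s := S) ?_ ?_
      · rw [eq_top_iff]
        rintro ⟨y, hy⟩ -
        obtain ⟨hy', h'⟩ := monomial_induction hW (P := fun y => ∃ hy : y ∈ D.monomialSubgroup F,
          (⟨y, hy⟩ : ↥(D.monomialSubgroup F)) ∈ Subgroup.closure S) hy
          (fun a ha => ⟨diag_le_monomial D ha, Subgroup.subset_closure (Or.inl ha)⟩)
          (fun i => ⟨nR_mem_monomial hW i, Subgroup.subset_closure (Or.inr ⟨i, rfl⟩)⟩)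
          (fun a b ⟨ha, ha'⟩ ⟨hb, hb'⟩ => ⟨mul_mem ha hb, mul_mem ha' hb'⟩)
          (fun a ⟨ha, ha'⟩ => ⟨inv_mem ha, inv_mem ha'⟩)
        exact h'
      · rintro x (hx | ⟨i, rfl⟩)
        · have h1 : weylHom hW h x = 1 :=
            weylHom_eq hW h ((map_one h.rootPerm).symm ▸ monBy_diag hW hx)
          show ψ (weylHom hW h x) = _
          rw [h1, map_one]
          exact ((QuotientGroup.eq_one_iff x).2 hx).symm
        · show ψ (weylHom hW h _) = _
          rw [weylHom_nR, hψ]
          rfl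
    rw [MonoidHom.mem_ker] at hg
    have := key g
    rw [hg, map_one] at this
    exact (QuotientGroup.eq_one_iff g).1 this.symm
  · exact weylHom_eq hW h ((map_one h.rootPerm).symm ▸ monBy_diag hW hg)

end CfsgLib.Chevalley
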