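import Cfsg.Agent.Chevalley.Basic
import Cfsg.Prelude.Def_ChevG2
/-!
The tables of type G2 pass all the checks.
-/

set_option autoImplicit false

namespace CfsgLib.Chevalley

open Cfsg.Lie

theorem chevG2_basic : chkBasic chevG2 = true := by decide +kernel
theorem chevG2_chain : chkChain chevG2 = true := by decide +kernel
theorem chevG2_weight : chkWeight chevG2 = true := by decide +kernel
theorem chevG2_height : chkHeight chevG2 = true := by decide +kernel
theorem chevG2_powers : chkPowers chevG2 = true := by decide +kernel
theorem chevG2_mixed : chkMixed chevG2 = true := by decide +kernel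
theorem chevG2_parentPos : chkParent chevG2 false = true := by decide +kernel
theorem chevG2_parentNeg : chkParent chevG2 true = true := by decide +kernel
theorem chevG2_reach : chkReach chevG2 = true := by decide +kernel

theorem good_chevG2 : Good chevG2 :=
  ⟨chevG2_basic, chevG2_chain, chevG2_weight, chevG2_height, chevG2_powers, chevG2_mixed, chevG2_parentPos, chevG2_parentNeg, chevG2_reach⟩

end CfsgLib.Chevalley
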