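import Cfsg.Agent.Chevalley.Bruhat
import Cfsg.Agent.Chevalley.UnipotentMain
import Mathlib.GroupTheory.Index
/-!
`|G| = |U| |H| ∑_w q ^ ℓ(w)`.
-/

set_option autoImplicit false

namespace CfsgLib.Chevalley

open Cfsg.Lie
open scoped MatrixGroups

variable {D : ChevalleyDatum} {C : Weyl.Cert D.rank} {M : CoxeterMatrix (Fin D.rank)}
  {R : Weyl.RootTable} {F : Type*} [Field F]

theorem natCard_borel (hW : GoodWeyl D) :
    Nat.card (D.borelSubgroup F) =
      Nat.card (D.posUnipotent F) * Nat.card (D.diagonalSubgroup F) := by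
  rw [← Nat.card_prod]
  refine (Nat.card_eq_of_bijective (fun p : ↥(D.posUnipotent F) × ↥(D.diagonalSubgroup F) =>
    (⟨p.1 * p.2, mul_mem (pos_le_borel D p.1.2) (diag_le_borel D p.2.2)⟩ :
      ↥(D.borelSubgroup F))) ⟨?_, ?_⟩).symm
  · rintro ⟨⟨u, hu⟩, ⟨k, hk⟩⟩ ⟨⟨u', hu'⟩, ⟨k', hk'⟩⟩ e
    have e' : u * k = u' * k' := Subtype.ext_iff.1 e
    have e2 : u'⁻¹ * u = k' * k⁻¹ := by rw [eq_mul_inv_iff_mul_eq, mul_assoc, e', inv_mul_cancel_left]
    have h1 : u'⁻¹ * u ∈ D.posUnipotent F ⊓ D.diagonalSubgroup F :=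
      Subgroup.mem_inf.2 ⟨mul_mem (inv_mem hu') hu, e2 ▸ mul_mem hk' (inv_mem hk)⟩
    rw [pos_inf_diag hW, Subgroup.mem_bot, inv_mul_eq_one] at h1
    subst h1
    obtain rfl := mul_left_cancel e'
    rfl
  · rintro ⟨b, hb⟩
    obtain ⟨u, hu, k, hk, rfl⟩ := (mem_borel_iff hW).1 hb
    exact ⟨(⟨u, hu⟩, ⟨k, hk⟩), rfl⟩

theorem natCard_group (hW : GoodWeyl D) (h : Weyl.RootGood C M R) [Finite F]
    [Fintype M.Group] :
    Nat.card (D.group F) = Nat.card F ^ half D * Nat.card (D.diagonalSubgroup F) *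
      ∑ w : M.Group, Nat.card F ^ M.toCoxeterSystem.length w := by
  have hU : Nat.card (D.posUnipotent F) = Nat.card F ^ half D := by
    rw [posUnipotent_eq hW.good]
    exact natCard_uGe hW.toGoodUni
  set B' := (D.borelSubgroup F).subgroupOf (D.group F)
  have hB : Nat.card B' = Nat.card (D.borelSubgroup F) :=
    Nat.card_congr (Subgroup.subgroupOfEquivOfLe (borel_le_group hW)).toEquiv
  rw [← hU, ← natCard_borel hW, ← hB, B'.card_eq_card_quotient_mul_card_subgroup, mul_comm]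
  congr 1
  rw [← Finset.sum_congr rfl fun w _ => natCard_cellQ (F := F) hW h w, ← Nat.card_sigma]
  refine (Nat.card_eq_of_bijective (fun p : Σ w, cellQ hW h F w =>
    (⟨p.2.2.choose, cell_subset_group hW h p.2.2.choose_spec.1⟩ : ↥(D.group F)) : _ → ↥(D.group F) ⧸ B')
      ⟨?_, ?_⟩).symm
  · rintro ⟨v, c, hc⟩ ⟨w, c', hc'⟩ e
    rw [QuotientGroup.eq, Subgroup.mem_subgroupOf] at e
    have hv := hc.choose_spec
    have hw := hc'.choose_spec
    have ecc : c = c' := by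
      rw [← hv.2, ← hw.2]
      exact QuotientGroup.eq.2 e
    subst ecc
    obtain rfl : v = w := cell_eq_of_mem hW h hv.1 (mem_cell_of_mk hW h (by rw [hv.2]; exact hc'))
    rfl
  · intro q
    induction q using QuotientGroup.induction_on with
    | H g =>
      obtain ⟨w, hw⟩ := exists_mem_cell hW h g.2
      have hq : ((g : GL D.Idx F) : GL D.Idx F ⧸ D.borelSubgroup F) ∈ cellQ hW h F w :=
        ⟨_, hw, rfl⟩
      refine ⟨⟨w, _, hq⟩, QuotientGroup.eq.2 ?_⟩
      rw [Subgroup.mem_subgroupOf]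
      exact QuotientGroup.eq.1 hq.choose_spec.2

end CfsgLib.Chevalley
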