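import Cfsg.Agent.Chevalley.Structure
import Mathlib.Data.Finset.NatAntidiagonal
import Mathlib.Algebra.BigOperators.NatAntidiagonal
import Mathlib.Tactic.NoncommRing
/-!
The adjoint map of the tabulated algebra is equivariant: the matrices `E r 1` are derivations, and
the root elements are automorphisms, over every commutative ring.
-/

set_option autoImplicit false

namespace CfsgLib.Chevalley

open Cfsg.Lie

variable {D : ChevalleyDatum}

/-- `ad h_i` as an integer matrix. -/
def hM (D : ChevalleyDatum) (i : Fin D.rank) : Matrix D.Idx D.Idx ℤ := Matrix.diagonal (wt D i)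

/-- The adjoint matrix of a basis vector. -/
def adB (D : ChevalleyDatum) : D.Idx → Matrix D.Idx D.Idx ℤ :=
  Sum.elim (hM D) fun r => E D r 1

@[simp] theorem adB_inl (i : Fin D.rank) : adB D (Sum.inl i) = hM D i := rfl
@[simp] theorem adB_inr (r : Root D) : adB D (Sum.inr r) = E D r 1 := rfl

/-- The adjoint matrix of a vector over a commutative ring. -/
def adV (D : ChevalleyDatum) {R : Type*} [CommRing R] (v : D.Idx → R) : Matrix D.Idx D.Idx R :=
  ∑ a, v a • (adB D a).map (Int.cast : ℤ → R)

theorem adV_int (v : D.Idx → ℤ) : adV D v = ∑ a, v a • adB D a := by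
  simp only [adV]
  refine Finset.sum_congr rfl fun a _ => ?_
  congr 1

theorem adV_single {R : Type*} [CommRing R] (a : D.Idx) (c : R) :
    adV D (Pi.single a c) = c • (adB D a).map (Int.cast : ℤ → R) := by
  simp [adV, Pi.single_apply, ite_smul]

theorem adV_add {R : Type*} [CommRing R] (v w : D.Idx → R) :
    adV D (v + w) = adV D v + adV D w := by
  simp [adV, add_smul, Finset.sum_add_distrib]

theorem adV_smul {R : Type*} [CommRing R] (c : R) (v : D.Idx → R) :
    adV D (c • v) = c • adV D v := by
  simp [adV, Finset.smul_sum, smul_smul]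

theorem adV_zero {R : Type*} [CommRing R] : adV D (0 : D.Idx → R) = 0 := by simp [adV]

theorem adV_map {R S : Type*} [CommRing R] [CommRing S] (f : R →+* S) (v : D.Idx → R) :
    (adV D v).map f = adV D (f ∘ v) := by
  ext a b
  simp [adV, Matrix.sum_apply, map_sum]

/-- `M` is a derivation at the basis vector `y`. -/
def CompatAt (D : ChevalleyDatum) (M : Matrix D.Idx D.Idx ℤ) (y : D.Idx) : Prop :=
  M * adB D y - adB D y * M = adV D (fun a => M a y)

/-- `M` is a derivation. -/
def IsDer (D : ChevalleyDatum) (M : Matrix D.Idx D.Idx ℤ) : Prop := ∀ y, CompatAt D M y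

theorem compat_vec {M : Matrix D.Idx D.Idx ℤ} {v : D.Idx → ℤ}
    (h : ∀ y, v y ≠ 0 → CompatAt D M y) :
    M * adV D v - adV D v * M = adV D (M.mulVec v) := by
  have e : adV D (M.mulVec v) = ∑ y, v y • adV D (fun a => M a y) := by
    simp only [adV_int, Matrix.mulVec, dotProduct, Finset.sum_smul, Finset.smul_sum, smul_smul]
    rw [Finset.sum_comm]
    exact Finset.sum_congr rfl fun y _ => Finset.sum_congr rfl fun a _ => by rw [mul_comm]
  rw [e, adV_int, Finset.mul_sum, Finset.sum_mul, ← Finset.sum_sub_distrib]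
  refine Finset.sum_congr rfl fun y _ => ?_
  rw [mul_smul_comm, smul_mul_assoc, ← smul_sub]
  rcases eq_or_ne (v y) 0 with h0 | h0
  · simp [h0]
  · rw [h y h0]

theorem mulVec_col (M N : Matrix D.Idx D.Idx ℤ) (y : D.Idx) :
    M.mulVec (fun a => N a y) = fun a => (M * N) a y := rfl

namespace Good

/-! ### Columns of `ad e_r` -/

theorem col_inl (hD : Good D) (r : Root D) (i : Fin D.rank) :
    (fun a => E D r 1 a (Sum.inl i)) = Pi.single (Sum.inr r) (-D.cartan i r) := by
  funext a
  rw [E_apply_one hD]
  rcases a with j | u <;> simp [Pi.single_apply]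

theorem chainVal_head {r s u : ℕ} {N : ℤ}
    (h : (D.chainEntry r s).head? = some (u, N)) (v : ℕ) :
    chainVal D r s 0 v = if u = v then N else 0 := by
  rw [chainVal, ← List.head?_eq_getElem?, h]

theorem col_of_head (hD : Good D) {r s u : Root D} {N : ℤ}
    (h : (D.chainEntry r s).head? = some ((u : ℕ), N)) :
    (fun a => E D r 1 a (Sum.inr s)) = Pi.single (Sum.inr u) N := by
  have hne : (s : ℕ) ≠ opp D r := by
    intro e
    rw [e, hD.chainEntry_opp r.isLt] at h
    simp at h
  have hne' : s ≠ r.rev := fun e => hne (by rw [e, opp, Fin.val_rev]; omega)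
  funext a
  rw [E_apply_one hD]
  rcases a with j | v
  · simp [hne']
  · simp only
    rw [chainVal_head h, Pi.single_apply]
    exact if_congr ⟨fun e => by rw [Fin.ext e], fun e => by rw [Sum.inr.inj e]⟩ rfl rfl

theorem col_rev (hD : Good D) (r : Root D) :
    (fun a => E D r 1 a (Sum.inr r.rev)) =
      Sum.elim (fun i : Fin D.rank => (D.coroot.getD r #[]).getD i 0) (fun _ => 0) := by
  funext a
  rw [E_apply_one hD]
  rcases a with j | v
  · simp
  · simp only [Sum.elim_inr]
    rw [chainVal, show ((r.rev : Root D) : ℕ) = opp D r by rw [opp, Fin.val_rev]; omega,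
      hD.chainEntry_opp r.isLt]
    rfl

theorem adV_col_genR_rev (hD : Good D) (b : Bool) (i : Fin D.rank) :
    adV D (fun a => E D (genR hD b i) 1 a (Sum.inr (genR hD b i).rev)) = sgn b • hM D i := by
  rw [hD.col_rev]
  have : Sum.elim (fun j : Fin D.rank => (D.coroot.getD (genR hD b i) #[]).getD j 0)
      (fun _ : Root D => (0 : ℤ)) = Pi.single (Sum.inl i) (sgn b) := by
    funext a
    rcases a with j | v
    · simp only [Sum.elim_inl]
      rw [hD.coroot_genR, Pi.single_apply]
      exact if_congr ⟨fun e => by rw [e], fun e => (Sum.inl.inj e).symm⟩ rfl rfl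
    · simp
  rw [this, adV_int]
  simp [Pi.single_apply, ite_smul]

/-! ### The torus acts by weights -/

theorem hM_comm (hD : Good D) (i : Fin D.rank) (y : D.Idx) :
    hM D i * adB D y - adB D y * hM D i = wt D i y • adB D y := by
  ext a b
  rw [Matrix.sub_apply, hM, Matrix.diagonal_mul, Matrix.mul_diagonal, Matrix.smul_apply,
    smul_eq_mul]
  rcases y with j | r
  · rcases eq_or_ne a b with rfl | hab
    · simp; ring
    · simp [hM, Matrix.diagonal_apply_ne _ hab]
  · rcases eq_or_ne (E D r 1 a b) 0 with h0 | h0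
    · simp [h0]
    · rw [hD.wt_of_E_ne_zero r 1 i h0]
      simp; ring

theorem isDer_hM (hD : Good D) (i : Fin D.rank) : IsDer D (hM D i) := by
  intro y
  have : (fun a => hM D i a y) = Pi.single y (wt D i y) := by
    funext a
    rcases eq_or_ne a y with rfl | h
    · simp [hM]
    · simp [hM, h]
  rw [CompatAt, hD.hM_comm, this, adV_int]
  simp [Pi.single_apply, ite_smul]

theorem compat_inl (hD : Good D) (r : Root D) (i : Fin D.rank) :
    CompatAt D (E D r 1) (Sum.inl i) := by
  rw [CompatAt, hD.col_inl, adV_int]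
  have := hD.hM_comm i (Sum.inr r)
  simp only [adB_inr, wt_inr, adB_inl] at this ⊢
  rw [← neg_sub, this]
  simp [Pi.single_apply, ite_smul, neg_smul]

/-! ### The checked brackets -/

theorem bounded_E_one (hD : Good D) (r : Root D) :
    SMat.bounded (D.rank + D.nroots) (eMat D r 1) = true := by
  have h := hD.powers
  simp only [chkPowers, chkPowersAt, List.all_eq_true, List.mem_range, Bool.and_eq_true] at h
  exact (h r r.isLt).1.1.1

theorem toMat_sBracket (hD : Good D) (r s : Root D) :
    SMat.toMat D.rank D.nroots (sBracket (eMat D r 1) (eMat D s 1)) =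
      E D r 1 * E D s 1 - E D s 1 * E D r 1 := by
  rw [sBracket, SMat.toMat_add, SMat.toMat_smul, SMat.toMat_mul (hD.bounded_E_one r),
    SMat.toMat_mul (hD.bounded_E_one s), ← E_pos r one_ne_zero, ← E_pos s one_ne_zero]
  simp [sub_eq_add_neg]

theorem toMat_hSMat (hD : Good D) (i : Fin D.rank) :
    SMat.toMat D.rank D.nroots (hSMat D i) = hM D i := by
  ext a b
  rw [SMat.toMat_apply, hSMat, SMat.den_ofEntries, ← entVal]
  have : entVal ((List.range D.nroots).map fun s => (D.rank + s, D.rank + s, cartanT D i s))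
      (finSumFinEquiv a : ℕ) (finSumFinEquiv b : ℕ) =
      ((List.range D.nroots).map fun s => if D.rank + s = (finSumFinEquiv a : ℕ) ∧
        D.rank + s = (finSumFinEquiv b : ℕ) then cartanT D i s else 0).sum := by
    rw [← List.flatMap_pure_eq_map, entVal_flatMap]
    simp [entVal_cons, entVal_nil]
  rw [this, hM, Matrix.diagonal_apply]
  rcases a with j | u
  · rw [List.sum_eq_zero]
    · split_ifs <;> simp
    · intro x hx
      obtain ⟨s, -, rfl⟩ := List.mem_map.1 hx
      rw [finSumFinEquiv_apply_left, if_neg]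
      simp; omega
  · rcases eq_or_ne (Sum.inr u : D.Idx) b with rfl | h
    · rw [if_pos rfl, finSumFinEquiv_apply_right]
      simp only [Fin.val_natAdd, and_self, Nat.add_left_cancel_iff, wt_inr]
      rw [sum_range_ite u.isLt, hD.cartanT_eq i.isLt u.isLt]
    · rw [if_neg h, List.sum_eq_zero]
      intro x hx
      obtain ⟨s, -, rfl⟩ := List.mem_map.1 hx
      rw [if_neg]
      rintro ⟨e1, e2⟩
      exact h (finSumFinEquiv.injective (Fin.ext (e1.symm.trans e2)))

theorem chainEntry_mixed (hD : Good D) {i j : Fin D.rank} (hij : i ≠ j) (b : Bool) :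
    D.chainEntry (genR hD b i) (genR hD (!b) j) = [] := by
  have h := hD.mixed
  simp only [chkMixed, List.all_eq_true, List.mem_range, Bool.and_eq_true, Bool.cond_eq_ite,
    beq_iff_eq, entryT_eq] at h
  cases b
  · have := (h i i.isLt j j.isLt).1
    rw [if_neg (fun e => hij (Fin.ext e))] at this
    simp only [Bool.and_eq_true, List.isEmpty_iff] at this
    exact this.1
  · have := (h j j.isLt i i.isLt).1
    rw [if_neg (fun e => hij (Fin.ext e.symm))] at this
    simp only [Bool.and_eq_true, List.isEmpty_iff] at this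
    exact this.2

theorem bracket_gen (hD : Good D) (i j : Fin D.rank) :
    E D (genR hD false i) 1 * E D (genR hD true j) 1 -
      E D (genR hD true j) 1 * E D (genR hD false i) 1 = if i = j then hM D i else 0 := by
  have h := hD.mixed
  simp only [chkMixed, List.all_eq_true, List.mem_range, Bool.and_eq_true] at h
  have h2 := SMat.toMat_eq_of_eqB D.rank D.nroots (h i i.isLt j j.isLt).2
  rw [← hD.toMat_sBracket]
  refine Eq.trans h2 ?_
  by_cases hij : i = j
  · subst hij; simp [hD.toMat_hSMat]
  · rw [if_neg hij, beq_false_of_ne (Fin.val_ne_of_ne hij), cond_false, SMat.toMat_nil]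

theorem compat_gen_opp (hD : Good D) (b : Bool) (i j : Fin D.rank) :
    CompatAt D (E D (genR hD b i) 1) (Sum.inr (genR hD (!b) j)) := by
  rw [CompatAt, adB_inr]
  by_cases hij : i = j
  · subst hij
    rw [hD.genR_not b i, hD.adV_col_genR_rev, ← hD.genR_not b i]
    have := hD.bracket_gen i i
    rw [if_pos rfl] at this
    cases b
    · simpa [sgn] using this
    · rw [← neg_sub]
      simp [sgn, ← this]
  · have hne : genR hD (!b) j ≠ (genR hD b i).rev := fun e =>
      hij (hD.genR_injective (!b) (e.trans (hD.genR_not b i).symm)).symm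
    have : (fun a => E D (genR hD b i) 1 a (Sum.inr (genR hD (!b) j))) = 0 := by
      funext a
      rw [E_apply_one hD]
      rcases a with k | v
      · simp [hne]
      · simp [chainVal, hD.chainEntry_mixed hij b]
    rw [this, adV_zero]
    have h := hD.bracket_gen (if b then j else i) (if b then i else j)
    cases b
    · simpa [hij] using h
    · rw [← neg_sub]
      simp only [Bool.not_true, if_true] at h ⊢
      rw [h, if_neg (Ne.symm hij), neg_zero]

theorem exists_parent (hD : Good D) {b : Bool} {r : Root D} (hr : OnSide D b r)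
    (hne : ∀ i, genR hD b i ≠ r) :
    ∃ (i : Fin D.rank) (y : Root D) (N : ℤ), OnSide D b y ∧ N ≠ 0 ∧
      (D.chainEntry (genR hD b i) y).head? = some ((r : ℕ), N) ∧
      E D (genR hD b i) 1 * E D y 1 - E D y 1 * E D (genR hD b i) 1 = N • E D r 1 := by
  have h : chkParent D b = true := by cases b; exacts [hD.parentPos, hD.parentNeg]
  simp only [chkParent, chkParentAt, List.all_eq_true, List.mem_range] at h
  have h' := h r r.isLt
  have hany : ((List.range D.rank).any fun i => gen D b i == (r : ℕ)) = false := by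
    rw [List.any_eq_false]
    intro i hi
    simp only [beq_iff_eq]
    exact fun e => hne ⟨i, List.mem_range.1 hi⟩ (Fin.ext e)
  rw [show onSide D b r = true from hr, hany] at h'
  simp only [Bool.not_false, Bool.and_self, cond_true, Bool.and_eq_true, decide_eq_true_eq,
    beq_iff_eq, bne_iff_ne, entryT_eq] at h'
  obtain ⟨⟨⟨⟨h1, h2⟩, h3⟩, h4⟩, h5⟩ := h'
  have hy : (parent D b r).2.1 < D.nroots := by
    simp only [onSide, Bool.and_eq_true, decide_eq_true_eq] at h2
    exact h2.1
  refine ⟨⟨_, h1⟩, ⟨_, hy⟩, (parent D b r).2.2, h2, h4, h3, ?_⟩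
  rw [← hD.toMat_sBracket, E_pos r one_ne_zero]
  exact (SMat.toMat_eq_of_eqB _ _ h5).trans (SMat.toMat_smul ..)

theorem ht_E_gen (hD : Good D) (b : Bool) (j : Fin D.rank) {a y : D.Idx}
    (h : E D (genR hD b j) 1 a y ≠ 0) :
    sgn b * ht D a = sgn b * ht D y + 2 := by
  rw [hD.ht_of_E_ne_zero _ 1 h, Nat.cast_one, one_mul, mul_add, hD.ht_genR]

theorem ht_E_gen_opp (hD : Good D) (b : Bool) (j : Fin D.rank) {a y : D.Idx}
    (h : E D (genR hD (!b) j) 1 a y ≠ 0) :
    sgn b * ht D a = sgn b * ht D y - 2 := by
  have := hD.ht_E_gen (!b) j h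
  cases b <;> simp [sgn] at this ⊢ <;> omega

theorem ht_parent (hD : Good D) {b : Bool} {i : Fin D.rank} {y r : Root D} {N : ℤ} (hN : N ≠ 0)
    (h : (D.chainEntry (genR hD b i) y).head? = some ((r : ℕ), N)) :
    sgn b * ht D (Sum.inr r) = sgn b * ht D (Sum.inr y) + 2 := by
  refine hD.ht_E_gen b i ?_
  have := congrFun (hD.col_of_head h) (Sum.inr r)
  rw [Pi.single_eq_same] at this
  exact this ▸ hN

theorem E_top (hD : Good D) {b : Bool} {r : Root D} (hr : OnSide D b r) {t : Root D}
    (ht : (t : ℕ) = top D b) (a : D.Idx) : E D r 1 a (Sum.inr t) = 0 := by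
  rw [E_apply_one hD]
  have hent : D.chainEntry r t = [] := by
    by_contra hne
    obtain ⟨q, hq⟩ := List.exists_mem_of_ne_nil _ hne
    have := (hD.chainEntry_mem r.isLt hq).2.2.2.2.2.2
    cases b
    · rw [if_pos (onSide_false_iff.1 hr)] at this; exact this ht
    · rw [if_neg (Nat.not_le.2 (onSide_true_iff.1 hr))] at this; exact this ht
  rcases a with k | v
  · have hh := hD.two_half
    have hlt := r.isLt
    simp only
    rw [if_neg]
    intro e
    have e' : (t : ℕ) = D.nroots - (r + 1) := by rw [e, Fin.val_rev]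
    cases b
    · have := onSide_false_iff.1 hr
      simp [top] at ht; omega
    · have := onSide_true_iff.1 hr
      simp [top] at ht; omega
  · simp [chainVal, hent]

theorem exists_top (hD : Good D) (b : Bool) : ∃ t : Root D, (t : ℕ) = top D b := by
  have := hD.basic'.1
  refine ⟨⟨top D b, ?_⟩, rfl⟩
  cases b <;> simp [top] <;> omega

theorem exists_reach (hD : Good D) (b : Bool) (s : Root D) (hs : (s : ℕ) ≠ top D b)
    (hne : ∀ i, genR hD (!b) i ≠ s) :
    ∃ (i : Fin D.rank) (y : Root D) (N : ℤ), N ≠ 0 ∧
      (D.chainEntry (genR hD (!b) i) y).head? = some ((s : ℕ), N) := by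
  have h := hD.reach
  simp only [chkReach, List.all_eq_true, List.mem_range] at h
  have h' := h b (by cases b <;> simp) s s.isLt
  simp only [Bool.or_eq_true, beq_iff_eq, List.any_eq_true, List.mem_range, entryT_eq] at h'
  rcases h' with (h' | ⟨i, hi, e⟩) | ⟨i, hi, e⟩
  · exact absurd h' hs
  · exact absurd (Fin.ext e) (hne ⟨i, hi⟩)
  · cases hc : D.chainEntry (gen D b i) s with
    | nil => simp [hc] at e
    | cons q L =>
      simp only [hc] at e
      cases hc' : D.chainEntry (gen D (!b) i) q.1 with
      | nil => simp [hc'] at e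
      | cons q' L' =>
        simp only [hc', Bool.and_eq_true, beq_iff_eq, bne_iff_ne] at e
        have hq : q.1 < D.nroots :=
          (hD.chainEntry_mem (hD.gen_lt b hi) (hc ▸ List.mem_cons_self ..)).2.2.2.1
        refine ⟨⟨i, hi⟩, ⟨q.1, hq⟩, q'.2, e.2, ?_⟩
        show (D.chainEntry (gen D (!b) i) q.1).head? = _
        rw [hc', List.head?_cons, ← e.1]

/-- A matrix killing the extreme vector of a side and commuting with the fundamental root elements
of the other side is zero. -/
theorem eq_zero_of_commute (hD : Good D) (b : Bool) {X : Matrix D.Idx D.Idx ℤ}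
    (hcomm : ∀ j, E D (genR hD (!b) j) 1 * X = X * E D (genR hD (!b) j) 1)
    {t : Root D} (ht : (t : ℕ) = top D b) (htop : ∀ a, X a (Sum.inr t) = 0) : X = 0 := by
  have step : ∀ (j : Fin D.rank) (y z : D.Idx) (N : ℤ), (∀ a, X a y = 0) → N ≠ 0 →
      (fun a => E D (genR hD (!b) j) 1 a y) = Pi.single z N → ∀ a, X a z = 0 := by
    intro j y z N hy hN hcol a
    have h1 := congrFun (congrFun (hcomm j) a) y
    simp only [Matrix.mul_apply, hy, mul_zero, Finset.sum_const_zero] at h1
    rw [Finset.sum_eq_single z] at h1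
    · rw [congrFun hcol z, Pi.single_eq_same] at h1
      exact (mul_eq_zero.1 h1.symm).resolve_right hN
    · intro c _ hc
      rw [congrFun hcol c, Pi.single_eq_of_ne hc, mul_zero]
    · simp
  let B : ℤ := ∑ a : D.Idx, |CfsgLib.Chevalley.ht D a|
  have hB : ∀ a, sgn b * CfsgLib.Chevalley.ht D a ≤ B := by
    intro a
    have : |CfsgLib.Chevalley.ht D a| ≤ B :=
      Finset.single_le_sum (f := fun a => |CfsgLib.Chevalley.ht D a|) (fun x _ => abs_nonneg _)
        (Finset.mem_univ a)
    have h1 := le_abs_self (CfsgLib.Chevalley.ht D a)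
    have h2 := neg_le_abs (CfsgLib.Chevalley.ht D a)
    cases b <;> simp [sgn] <;> omega
  suffices H : ∀ n : ℕ, ∀ y, B - sgn b * CfsgLib.Chevalley.ht D y ≤ n → ∀ a, X a y = 0 by
    ext a y
    exact H _ y (Int.self_le_toNat _) a
  intro n
  induction n using Nat.strong_induction_on with
  | _ n ih =>
  intro y hy
  have hrec : ∀ y', sgn b * CfsgLib.Chevalley.ht D y + 2 ≤ sgn b * CfsgLib.Chevalley.ht D y' →
      ∀ a, X a y' = 0 := by
    intro y' hy'
    have := hB y'
    exact ih (n - 2) (by omega) y' (by omega)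
  rcases y with i | s
  · -- from the fundamental root vector of this side
    have hcol : (fun a => E D (genR hD (!b) i) 1 a (Sum.inr (genR hD b i))) =
        Pi.single (Sum.inl i) (sgn (!b)) := by
      rw [show genR hD b i = (genR hD (!b) i).rev by rw [hD.genR_not, Fin.rev_rev], hD.col_rev]
      funext a
      rcases a with j | v
      · simp only [Sum.elim_inl]
        rw [hD.coroot_genR, Pi.single_apply]
        exact if_congr ⟨fun e => by rw [e], fun e => (Sum.inl.inj e).symm⟩ rfl rfl
      · simp
    refine step i _ _ _ (hrec _ ?_) (by cases b <;> simp [sgn]) hcol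
    rw [hD.ht_genR, ht_inl]; simp
  · by_cases hst : (s : ℕ) = top D b
    · obtain rfl : s = t := Fin.ext (hst.trans ht.symm)
      exact htop
    by_cases hg : ∃ i, genR hD (!b) i = s
    · obtain ⟨i, rfl⟩ := hg
      refine step i (Sum.inl i) _ _ (hrec _ ?_) ?_ (hD.col_inl _ i)
      · have := hD.ht_genR (!b) i
        rw [ht_inl]
        cases b <;> simp [sgn] at this ⊢ <;> omega
      · rw [hD.cartan_genR_self]; cases b <;> simp [sgn]
    · push Not at hg
      obtain ⟨i, y', N, hN, hh⟩ := hD.exists_reach b s hst hg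
      refine step i _ _ _ (hrec _ ?_) hN (hD.col_of_head hh)
      have := hD.ht_parent hN hh
      cases b <;> simp [sgn] at this ⊢ <;> omega

/-- Both halves of the induction. -/
theorem compat_side (hD : Good D) (b : Bool) (n : ℕ) :
    (∀ y : Root D, OnSide D b y → sgn b * ht D (Sum.inr y) ≤ n + 2 →
      ∀ i, CompatAt D (E D (genR hD (!b) i) 1) (Sum.inr y)) ∧
    (∀ y : Root D, OnSide D b y → sgn b * ht D (Sum.inr y) ≤ n →
      ∀ i, CompatAt D (E D (genR hD b i) 1) (Sum.inr y)) := by
  induction n using Nat.strong_induction_on with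
  | _ n ih =>
  have hlow : ∀ y : Root D, OnSide D b y → sgn b * ht D (Sum.inr y) + 1 ≤ (n : ℤ) →
      ∀ i, CompatAt D (E D (genR hD b i) 1) (Sum.inr y) := fun y hy hle =>
    (ih (n - 1) (by have := hD.onSide_two_le hy; omega)).2 y hy (by omega)
  have hlowT : ∀ y : Root D, OnSide D b y → sgn b * ht D (Sum.inr y) ≤ (n : ℤ) + 1 → 2 ≤ n →
      ∀ i, CompatAt D (E D (genR hD (!b) i) 1) (Sum.inr y) := fun y hy hle hn =>
    (ih (n - 1) (by omega)).1 y hy (by omega)
  -- brackets of a fundamental root element with the image under an opposite one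
  have hS : ∀ (y : Root D), OnSide D b y → sgn b * ht D (Sum.inr y) ≤ (n : ℤ) + 1 →
      ∀ (g i : Fin D.rank) (c : ℤ),
      (∀ a, E D (genR hD (!b) i) 1 a (Sum.inr y) ≠ 0 →
        CompatAt D (E D (genR hD b g) 1) a) := by
    intro y hy hle g i c a ha
    rcases a with k | u
    · exact hD.compat_inl _ k
    · have h2 := hD.ht_E_gen_opp b i ha
      have h3 := hD.onSide_two_le hy
      have hu : OnSide D b u := by
        rw [hD.onSide_iff]
        rcases lt_trichotomy 0 (sgn b * ht D (Sum.inr u)) with h | h | h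
        · exact h
        · exact absurd h.symm (mul_ne_zero (by cases b <;> simp [sgn]) (hD.ht_ne_zero u))
        · omega
      exact hlow u hu (by omega) g
  have core : ∀ (y : Root D), OnSide D b y → sgn b * ht D (Sum.inr y) ≤ (n : ℤ) →
      (∀ i, CompatAt D (E D (genR hD (!b) i) 1) (Sum.inr y)) →
      ∀ g i,
      E D (genR hD (!b) i) 1 * (E D (genR hD b g) 1 * E D y 1 - E D y 1 * E D (genR hD b g) 1) -
        (E D (genR hD b g) 1 * E D y 1 - E D y 1 * E D (genR hD b g) 1) * E D (genR hD (!b) i) 1 =
      adV D (fun a => (E D (genR hD (!b) i) 1 * E D (genR hD b g) 1) a (Sum.inr y)) := by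
    intro y hy hle hT g i
    set O := E D (genR hD (!b) i) 1 with hO
    set A := E D (genR hD b g) 1 with hA
    set Y := E D y 1 with hY
    have hder : IsDer D (adV D fun a => O a (Sum.inr (genR hD b g))) := by
      by_cases hig : i = g
      · subst hig
        rw [hO, show genR hD b i = (genR hD (!b) i).rev by rw [hD.genR_not, Fin.rev_rev],
          hD.adV_col_genR_rev]
        intro z
        have := hD.isDer_hM i z
        rw [CompatAt] at this ⊢
        rw [show (fun a => (sgn (!b) • hM D i) a z) = sgn (!b) • fun a => hM D i a z from rfl,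
          adV_smul, ← this, smul_mul_assoc, mul_smul_comm, smul_sub]
      · have hne : genR hD b g ≠ (genR hD (!b) i).rev := fun e =>
          hig (hD.genR_injective b (by rw [e, hD.genR_not, Fin.rev_rev]))
        have hz : (fun a => O a (Sum.inr (genR hD b g))) = 0 := by
          funext a
          rw [hO, E_apply_one hD]
          rcases a with k | v
          · simp [hne]
          · have := hD.chainEntry_mixed hig (!b)
            rw [Bool.not_not] at this
            simp [chainVal, this]
        rw [hz, adV_zero]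
        intro z
        simp [CompatAt, adV_int]
    have h1 : O * A - A * O = adV D (fun a => O a (Sum.inr (genR hD b g))) := by
      have := hD.compat_gen_opp (!b) i g
      rw [Bool.not_not] at this
      exact this
    have h2 : O * Y - Y * O = adV D (fun a => O a (Sum.inr y)) := hT i
    have h3 := compat_vec (M := A) (v := fun a => O a (Sum.inr y))
      (fun a ha => hS y hy (by omega) g i 0 a ha)
    have h4 := hder (Sum.inr y)
    rw [CompatAt, adB_inr, ← h1] at h4
    rw [← h2, mulVec_col] at h3
    calc O * (A * Y - Y * A) - (A * Y - Y * A) * O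
        = ((O * A - A * O) * Y - Y * (O * A - A * O)) +
            (A * (O * Y - Y * O) - (O * Y - Y * O) * A) := by noncomm_ring
      _ = adV D (fun a => (O * A - A * O) a (Sum.inr y)) +
            adV D (fun a => (A * O) a (Sum.inr y)) := by rw [h4, h3]
      _ = _ := by
          rw [← adV_add]
          congr 1
          funext a
          simp only [Pi.add_apply, Matrix.sub_apply]
          ring
  have hT : ∀ y : Root D, OnSide D b y → sgn b * ht D (Sum.inr y) ≤ n + 2 →
      ∀ i, CompatAt D (E D (genR hD (!b) i) 1) (Sum.inr y) := by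
    intro r hr hle i
    by_cases hg : ∃ j, genR hD b j = r
    · obtain ⟨j, rfl⟩ := hg
      have := hD.compat_gen_opp (!b) i j
      rwa [Bool.not_not] at this
    push Not at hg
    obtain ⟨g, y, N, hy, hN, hh, hbr⟩ := hD.exists_parent hr hg
    have hht := hD.ht_parent hN hh
    have h2 := hD.onSide_two_le hy
    have := core y hy (by omega) (hlowT y hy (by omega) (by omega)) g i
    rw [hbr] at this
    rw [CompatAt, adB_inr]
    apply cancel_zsmul hN
    rw [smul_sub, ← mul_smul_comm, ← smul_mul_assoc, this, ← adV_smul]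
    congr 1
    funext a
    show (E D (genR hD (!b) i) 1).mulVec (fun a => E D (genR hD b g) 1 a (Sum.inr y)) a = _
    rw [hD.col_of_head hh, Matrix.mulVec_single]
    simp [mul_comm]
  refine ⟨hT, fun y hy hle g => ?_⟩
  obtain ⟨t, ht'⟩ := hD.exists_top b
  rw [CompatAt, adB_inr, ← sub_eq_zero]
  refine hD.eq_zero_of_commute b ?_ ht' ?_
  · intro j
    have h1 := core y hy hle (hT y hy (by omega)) g j
    have h2 : E D (genR hD (!b) j) 1 * adV D (fun a => E D (genR hD b g) 1 a (Sum.inr y)) -
        adV D (fun a => E D (genR hD b g) 1 a (Sum.inr y)) * E D (genR hD (!b) j) 1 =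
        adV D (fun a => (E D (genR hD (!b) j) 1 * E D (genR hD b g) 1) a (Sum.inr y)) := by
      rw [← mulVec_col]
      refine compat_vec fun a ha => ?_
      rcases a with k | u
      · exact hD.compat_inl _ k
      · have h3 := hD.ht_E_gen b g ha
        have h4 := hD.onSide_two_le hy
        exact hT u (hD.onSide_iff.2 (by omega)) (by omega) j
    rw [← sub_eq_zero, mul_sub, sub_mul, sub_sub_sub_comm, h1, h2, sub_self]
  · intro a
    have hcol : ∀ c, E D (genR hD b g) 1 c (Sum.inr t) = 0 :=
      hD.E_top (hD.onSide_genR b g) ht'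
    have hY : ∀ c, E D y 1 c (Sum.inr t) = 0 := hD.E_top hy ht'
    simp only [Matrix.sub_apply, Matrix.mul_apply, hcol, hY, mul_zero, Finset.sum_const_zero,
      sub_zero, zero_sub, neg_eq_zero, adV_int, Matrix.sum_apply, Matrix.smul_apply, smul_eq_mul]
    refine Finset.sum_eq_zero fun c _ => ?_
    rcases eq_or_ne (E D (genR hD b g) 1 c (Sum.inr y)) 0 with h0 | h0
    · simp [h0]
    rcases c with k | u
    · have h3 := hD.ht_E_gen b g h0
      have h4 := hD.onSide_two_le hy
      rw [ht_inl] at h3; omega
    · have h3 := hD.ht_E_gen b g h0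
      have h4 := hD.onSide_two_le hy
      rw [adB_inr, hD.E_top (hD.onSide_iff.2 (by omega)) ht', mul_zero]

theorem isDer_gen (hD : Good D) (b : Bool) (i : Fin D.rank) :
    IsDer D (E D (genR hD b i) 1) := by
  rintro (k | y)
  · exact hD.compat_inl _ k
  · by_cases hy : OnSide D b y
    · exact (hD.compat_side b (sgn b * ht D (Sum.inr y)).toNat).2 y hy (Int.self_le_toNat _) i
    · have hy' : OnSide D (!b) y := by
        have h1 := hD.ht_ne_zero y
        rw [hD.onSide_iff] at hy ⊢
        cases b <;> simp [sgn] at hy ⊢ <;> omega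
      have := (hD.compat_side (!b) (sgn (!b) * ht D (Sum.inr y)).toNat).1 y hy'
        (by have := Int.self_le_toNat (sgn (!b) * ht D (Sum.inr y)); omega) i
      rwa [Bool.not_not] at this

end Good

theorem IsDer.commutator {M N : Matrix D.Idx D.Idx ℤ} (hM : IsDer D M) (hN : IsDer D N) :
    IsDer D (M * N - N * M) := by
  intro y
  have e1 : ∀ {P : Matrix D.Idx D.Idx ℤ}, IsDer D P → ∀ v,
      P * adV D v - adV D v * P = adV D (P.mulVec v) := fun hP v => compat_vec fun z _ => hP z
  have h1 := e1 hM fun a => N a y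
  have h2 := e1 hN fun a => M a y
  rw [mulVec_col, ← hN y] at h1
  rw [mulVec_col, ← hM y] at h2
  rw [CompatAt, show (M * N - N * M) * adB D y - adB D y * (M * N - N * M) =
    (M * (N * adB D y - adB D y * N) - (N * adB D y - adB D y * N) * M) -
    (N * (M * adB D y - adB D y * M) - (M * adB D y - adB D y * M) * N) by noncomm_ring, h1, h2,
    sub_eq_iff_eq_add, ← adV_add]
  congr 1
  funext a
  simp [Matrix.sub_apply]

theorem IsDer.of_smul {M : Matrix D.Idx D.Idx ℤ} {c : ℤ} (hc : c ≠ 0) (h : IsDer D (c • M)) :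
    IsDer D M := by
  intro y
  have h' := h y
  rw [CompatAt] at h' ⊢
  refine cancel_zsmul hc ?_
  rw [smul_sub, ← smul_mul_assoc, ← mul_smul_comm, h', ← adV_smul]
  rfl

namespace Good

/-- Every `ad e_r` is a derivation of the tabulated algebra. -/
theorem isDer_root (hD : Good D) (r : Root D) : IsDer D (E D r 1) := by
  have hb : ∃ b, OnSide D b r := by
    rcases Nat.lt_or_ge (r : ℕ) (half D) with h | h
    exacts [⟨true, onSide_true_iff.2 h⟩, ⟨false, onSide_false_iff.2 h⟩]
  obtain ⟨b, hb⟩ := hb
  suffices H : ∀ n : ℕ, ∀ r : Root D, OnSide D b r → sgn b * ht D (Sum.inr r) ≤ n →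
      IsDer D (E D r 1) from H _ r hb (Int.self_le_toNat _)
  intro n
  induction n using Nat.strong_induction_on with
  | _ n ih =>
  intro r hr hle
  by_cases hg : ∃ j, genR hD b j = r
  · obtain ⟨j, rfl⟩ := hg
    exact hD.isDer_gen b j
  push Not at hg
  obtain ⟨g, y, N, hy, hN, hh, hbr⟩ := hD.exists_parent hr hg
  have hht := hD.ht_parent hN hh
  have h2 := hD.onSide_two_le hy
  refine IsDer.of_smul hN ?_
  rw [← hbr]
  exact (hD.isDer_gen b g).commutator (ih (n - 2) (by omega) y hy (by omega))

theorem isDer_adB (hD : Good D) (a : D.Idx) : IsDer D (adB D a) := by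
  rcases a with i | r
  exacts [hD.isDer_hM i, hD.isDer_root r]

/-- The Leibniz rule for the divided powers. -/
theorem leibniz (hD : Good D) (r : Root D) (y : D.Idx) (k : ℕ) :
    E D r k * adB D y =
      ∑ p ∈ Finset.HasAntidiagonal.antidiagonal k, adV D (fun a => E D r p.1 a y) * E D r p.2 := by
  induction k with
  | zero =>
    have : (fun a => (1 : Matrix D.Idx D.Idx ℤ) a y) = Pi.single y 1 := by
      funext a; simp [Matrix.one_apply, Pi.single_apply]
    simp only [Finset.Nat.antidiagonal_zero, Finset.sum_singleton, E_zero, this, adV_single]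
    ext a b
    simp
  | succ k ih =>
    refine cancel_zsmul (c := ((k + 1 : ℕ) : ℤ)) (by omega) ?_
    have hA : ∀ p : ℕ × ℕ,
        E D r 1 * (adV D (fun a => E D r p.1 a y) * E D r p.2) =
          ((p.1 + 1 : ℕ) : ℤ) • (adV D (fun a => E D r (p.1 + 1) a y) * E D r p.2) +
            ((p.2 + 1 : ℕ) : ℤ) • (adV D (fun a => E D r p.1 a y) * E D r (p.2 + 1)) := by
      intro p
      have h := compat_vec (M := E D r 1) (v := fun a => E D r p.1 a y)
        (fun z _ => hD.isDer_root r z)
      rw [mulVec_col, hD.A_mul_E, sub_eq_iff_eq_add] at h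
      rw [← mul_assoc, h, add_mul, mul_assoc, hD.A_mul_E, mul_smul_comm]
      congr 1
      rw [← smul_mul_assoc, ← adV_smul]
      rfl
    rw [← smul_mul_assoc, ← hD.A_mul_E, mul_assoc, ih, Finset.mul_sum]
    simp only [hA, Finset.sum_add_distrib]
    rw [Finset.smul_sum]
    have s1 := Finset.Nat.sum_antidiagonal_succ (n := k)
      (f := fun p : ℕ × ℕ => (p.1 : ℤ) • (adV D (fun a => E D r p.1 a y) * E D r p.2))
    have s2 := Finset.Nat.sum_antidiagonal_succ' (n := k)
      (f := fun p : ℕ × ℕ => (p.2 : ℤ) • (adV D (fun a => E D r p.1 a y) * E D r p.2))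
    simp only [Nat.cast_zero, zero_smul, zero_add, add_zero] at s1 s2
    rw [← s1, ← s2, ← Finset.sum_add_distrib]
    refine Finset.sum_congr rfl fun p hp => ?_
    rw [← add_smul]
    congr 1
    have := Finset.HasAntidiagonal.mem_antidiagonal.1 hp
    omega

end Good

/-- `g` respects the bracket: it intertwines the adjoint matrices. -/
def IsAut (D : ChevalleyDatum) {R : Type*} [CommRing R] (g : Matrix D.Idx D.Idx R) : Prop :=
  ∀ v : D.Idx → R, g * adV D v = adV D (g.mulVec v) * g

theorem IsAut.one {R : Type*} [CommRing R] : IsAut D (1 : Matrix D.Idx D.Idx R) := by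
  intro v; simp

theorem IsAut.mul {R : Type*} [CommRing R] {g h : Matrix D.Idx D.Idx R} (hg : IsAut D g)
    (hh : IsAut D h) : IsAut D (g * h) := by
  intro v
  rw [mul_assoc, hh v, ← mul_assoc, hg, mul_assoc, Matrix.mulVec_mulVec]

theorem isAut_of_basis {R : Type*} [CommRing R] {g : Matrix D.Idx D.Idx R}
    (h : ∀ y, g * (adB D y).map (Int.cast : ℤ → R) = adV D (fun a => g a y) * g) : IsAut D g := by
  intro v
  have e : adV D (g.mulVec v) = ∑ y, v y • adV D (fun a => g a y) := by
    simp only [adV, Matrix.mulVec, dotProduct, Finset.sum_smul, Finset.smul_sum, smul_smul]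
    rw [Finset.sum_comm]
    exact Finset.sum_congr rfl fun y _ => Finset.sum_congr rfl fun a _ => by rw [mul_comm]
  rw [e, adV, Finset.mul_sum, Finset.sum_mul]
  exact Finset.sum_congr rfl fun y _ => by rw [mul_smul_comm, smul_mul_assoc, h]

/-- Root elements are automorphisms over every commutative ring. -/
theorem Good.isAut_xR (hD : Good D) {R : Type*} [CommRing R] (r : Root D) (t : R) :
    IsAut D (xR D R r t) := by
  refine isAut_of_basis fun y => ?_
  let c : Matrix D.Idx D.Idx ℤ → Matrix D.Idx D.Idx R := fun M => M.map (Int.cast : ℤ → R)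
  have hc : ∀ M N, c (M * N) = c M * c N := fun M N => Matrix.map_mul (f := Int.castRingHom R)
  have hadd : ∀ M N, c (M + N) = c M + c N := fun M N =>
    Matrix.map_add _ (fun a b => by simp) M N
  have hV : ∀ i, c (adV D fun a => E D r i a y) = adV D fun a => c (E D r i) a y := fun i =>
    adV_map (Int.castRingHom R) _
  have key : ∀ k, c (E D r k) * c (adB D y) =
      ∑ p ∈ Finset.HasAntidiagonal.antidiagonal k, adV D (fun a => c (E D r p.1) a y) * c (E D r p.2) := by
    intro k
    rw [← hc, hD.leibniz]
    simp only [← hV, ← hc]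
    exact map_sum (AddMonoidHom.mk' c hadd) _ _
  have zz : ∀ k, 4 ≤ k → c (E D r k) = 0 := fun k hk => by
    simp [c, E_high r hk]
  have zero' : c (0 : Matrix D.Idx D.Idx ℤ) = 0 := by simp [c]
  have zv : ∀ k, 4 ≤ k → adV D (fun a => c (E D r k) a y) = 0 := fun k hk => by
    rw [zz k hk]; exact adV_zero
  have expand : adV D (fun a => xR D R r t a y) =
      ∑ k ∈ Finset.range 4, t ^ k • adV D (fun a => c (E D r k) a y) := by
    simp only [← adV_smul, Finset.sum_range_succ, Finset.sum_range_zero, zero_add, ← adV_add]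
    congr 1
    funext a
    simp [xR, Finset.sum_range_succ, c, Matrix.one_apply, apply_ite]
  rw [expand]
  show (∑ k ∈ Finset.range 4, t ^ k • c (E D r k)) * c (adB D y) =
    _ * ∑ k ∈ Finset.range 4, t ^ k • c (E D r k)
  have h4 := key 4
  have h5 := key 5
  have h6 := key 6
  simp only [Finset.Nat.antidiagonal_succ, Finset.Nat.antidiagonal_zero] at h4 h5 h6
  have zfun : adV D (fun _ : D.Idx => (0 : R)) = 0 := adV_zero
  simp [zz, zfun] at h4 h5 h6
  simp only [Finset.sum_range_succ, Finset.sum_range_zero, zero_add, add_mul, mul_add,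
    smul_mul_assoc, mul_smul_comm, smul_smul]
  rw [key 0, key 1, key 2, key 3]
  simp [Finset.Nat.antidiagonal_succ]
  linear_combination (norm := module) (t ^ 4) • h4 + (t ^ 5) • h5 + (t ^ 6) • h6

end CfsgLib.Chevalley
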