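import Cfsg.Agent.Chevalley.Checks
import Mathlib.Data.List.Pairwise
import Mathlib.Data.List.Nodup
import Mathlib.Data.Matrix.Basic
import Mathlib.Tactic.Abel
/-!
The tables of a checked Chevalley datum read as integer matrices: the divided powers `E r k` of
`ad e_r`, and the root elements over any commutative ring.
-/

set_option autoImplicit false

namespace CfsgLib.Chevalley

open Cfsg.Lie

/-- A datum that passes all the checks of `Cfsg.Agent.Chevalley.Checks`. -/
structure Good (D : ChevalleyDatum) : Prop where
  basic : chkBasic D = true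
  chain : chkChain D = true
  weight : chkWeight D = true
  height : chkHeight D = true
  powers : chkPowers D = true
  mixed : chkMixed D = true
  parentPos : chkParent D false = true
  parentNeg : chkParent D true = true
  reach : chkReach D = true

variable {D : ChevalleyDatum}

theorem getD_toList_map {α β : Type} (a : Array α) (f : α → β) (i : ℕ) (d : α) :
    (a.toList.map f).getD i (f d) = f (a.getD i d) := by
  rw [List.getD_map]
  congr 1
  simp [Array.getD_eq_getD_getElem?, List.getD_eq_getElem?_getD]

theorem chainTrie_get (r : ℕ) :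
    (chainTrie D).get r = (D.chain.getD r #[]).toList.map fun e => (e.1, e.2.toList) := by
  rw [chainTrie, Trie.get_ofRows]
  exact getD_toList_map D.chain (fun row => row.toList.map fun e => (e.1, e.2.toList)) r #[]

theorem entryT_eq (r s : ℕ) : entryT D r s = D.chainEntry r s := by
  rw [entryT, ChevalleyDatum.chainEntry, chainTrie_get, List.find?_map]
  simp only [Function.comp_def, beq_iff_eq]
  cases h : List.find? (fun e => e.1 == s) (D.chain.getD r #[]).toList <;>
    simp_all [Option.map, beq_eq_decide]

theorem coTrie_get (r : ℕ) : (coTrie D).get r = (D.coroot.getD r #[]).toList := by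
  rw [coTrie, Trie.get_ofRows]
  exact getD_toList_map D.coroot Array.toList r #[]

theorem coT_eq (r i : ℕ) : coT D r i = (D.coroot.getD r #[]).getD i 0 := by
  rw [coT, coTrie_get]
  simp [Array.getD_eq_getD_getElem?, List.getD_eq_getElem?_getD]

theorem getD_foldr_cons {α : Type} (n : ℕ) (d : α) :
    ∀ (Ls : List (List α)), (∀ L ∈ Ls, L.length = n) →
      (Ls.foldr (List.zipWith List.cons) (List.replicate n [])).length = n ∧
      ∀ r < n, (Ls.foldr (List.zipWith List.cons) (List.replicate n [])).getD r [] =
        Ls.map fun L => L.getD r d := by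
  intro Ls
  induction Ls with
  | nil => simp +contextual [List.getD_eq_getElem?_getD]
  | cons L Ls ih =>
    intro h
    obtain ⟨hlen, hget⟩ := ih (fun M hM => h M (by simp [hM]))
    have hL : L.length = n := h L (by simp)
    refine ⟨by simp [List.length_zipWith, hlen, hL], fun r hr => ?_⟩
    rw [List.map_cons, ← hget r hr, List.foldr_cons, List.getD_eq_getElem?_getD,
      List.getElem?_zipWith', List.getElem?_eq_getElem (by omega),
      List.getD_eq_getElem?_getD, List.getD_eq_getElem?_getD,
      List.getElem?_eq_getElem (by omega)]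
    simp [List.getElem?_eq_getElem (show r < L.length by omega)]

/-- The roots of a datum. -/
abbrev Root (D : ChevalleyDatum) : Type := Fin D.nroots

namespace Good

theorem basic' (hD : Good D) :
    (0 < D.rank ∧ 0 < half D ∧ D.nroots = 2 * half D) ∧
    (D.cartanSR.toList.length = D.rank ∧
      (∀ row ∈ D.cartanSR.toList, row.toList.length = D.nroots) ∧
      D.coroot.toList.length = D.nroots ∧
      (∀ row ∈ D.coroot.toList, row.toList.length = D.rank) ∧
      D.chain.toList.length = D.nroots ∧
      D.negIdx.toList = (List.range D.nroots).map (fun r => opp D r)) ∧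
    (∀ r < D.nroots,
      (((coTrie D).get r).all (fun c => decide (0 ≤ c)) = decide (half D ≤ r)) ∧
      (((coTrie D).get r).all (fun c => decide (c ≤ 0)) = decide (r < half D)) ∧
      (coTrie D).get (opp D r) = ((coTrie D).get r).map (fun c => -c) ∧
      (wtTrie D).get (opp D r) = ((wtTrie D).get r).map (fun c => -c)) ∧
    (∀ i < D.rank, half D ≤ D.simple i ∧ D.simple i < D.nroots ∧ cartanT D i (D.simple i) = 2 ∧
      ∀ j < D.rank, coT D (D.simple i) j = if i = j then 1 else 0) := by
  have h := hD.basic
  simp only [chkBasic, Bool.and_eq_true, decide_eq_true_eq, beq_iff_eq, List.all_eq_true,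
    List.mem_range, Bool.cond_eq_ite] at h
  obtain ⟨⟨⟨⟨⟨⟨⟨⟨⟨⟨h1, h2⟩, h3⟩, h4⟩, h5⟩, h6⟩, h7⟩, h8⟩, h9⟩, h10⟩, h11⟩ := h
  refine ⟨⟨h1, h2, h3⟩, ⟨h4, h5, h6, h7, h8, h9⟩, fun r hr => ?_, fun i hi => ?_⟩
  · obtain ⟨⟨⟨a, b⟩, c⟩, d⟩ := h10 r hr
    exact ⟨a, b, c, d⟩
  · obtain ⟨⟨⟨a, b⟩, c⟩, d⟩ := h11 i hi
    exact ⟨a, b, c, d⟩

theorem two_half (hD : Good D) : D.nroots = 2 * half D := hD.basic'.1.2.2

theorem rank_pos (hD : Good D) : 0 < D.rank := hD.basic'.1.1

theorem neg_eq (hD : Good D) {r : ℕ} (hr : r < D.nroots) : D.neg r = opp D r := by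
  have h : D.negIdx.toList.getD r 0 = opp D r := by
    rw [hD.basic'.2.1.2.2.2.2.2, List.getD_eq_getElem?_getD]
    simp [hr]
  rw [← h, ChevalleyDatum.neg]
  simp [Array.getD_eq_getD_getElem?, List.getD_eq_getElem?_getD]

theorem neg_fin (hD : Good D) (r : Root D) : D.neg r = (r.rev : ℕ) := by
  rw [hD.neg_eq r.isLt, opp, Fin.val_rev]
  omega

theorem cartanT_eq (hD : Good D) {i r : ℕ} (hi : i < D.rank) (hr : r < D.nroots) :
    cartanT D i r = D.cartan i r := by
  obtain ⟨hl, hrow, -⟩ := hD.basic'.2.1
  have h : ∀ L ∈ D.cartanSR.toList.map Array.toList, L.length = D.nroots := by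
    simpa using hrow
  rw [cartanT, wtTrie, Trie.get_ofRows, (getD_foldr_cons _ (0 : ℤ) _ h).2 r hr]
  simp [ChevalleyDatum.cartan, Array.getD_eq_getD_getElem?, List.getD_eq_getElem?_getD,
    List.getElem?_eq_getElem (show i < D.cartanSR.toList.length by omega)]
  simp [Array.getElem?_eq_getElem (show i < D.cartanSR.size by simpa [← hl] using hi)]

theorem wtTrie_get (hD : Good D) {r : ℕ} (hr : r < D.nroots) :
    (wtTrie D).get r = (List.range D.rank).map fun i => D.cartan i r := by
  obtain ⟨hl, hrow, -⟩ := hD.basic'.2.1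
  have h : ∀ L ∈ D.cartanSR.toList.map Array.toList, L.length = D.nroots := by
    simpa using hrow
  have hlen : ((wtTrie D).get r).length = D.rank := by
    rw [wtTrie, Trie.get_ofRows, (getD_foldr_cons _ (0 : ℤ) _ h).2 r hr]
    simpa using hl
  refine List.ext_getElem (by simpa using hlen) fun i h1 h2 => ?_
  rw [List.getElem_map, List.getElem_range, ← hD.cartanT_eq (by omega) hr, cartanT,
    List.getD_eq_getElem?_getD, List.getElem?_eq_getElem h1]
  rfl

theorem coTrie_length (hD : Good D) {r : ℕ} (hr : r < D.nroots) :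
    ((coTrie D).get r).length = D.rank := by
  obtain ⟨-, -, hl, hrow, -⟩ := hD.basic'.2.1
  rw [coTrie_get]
  exact hrow _ (by
    rw [Array.getD_eq_getD_getElem?, Array.getElem?_eq_getElem (show r < D.coroot.size by rw [← hl] at hr; simpa using hr)]
    simp)

theorem isPosRoot_iff (hD : Good D) {r : ℕ} :
    D.IsPosRoot r ↔ half D ≤ r ∧ r < D.nroots := by
  constructor
  · rintro ⟨hr, hc⟩
    refine ⟨?_, hr⟩
    have := (hD.basic'.2.2.1 r hr).1
    rw [coTrie_get] at this
    have h2 : (D.coroot.getD r #[]).toList.all (fun c => decide (0 ≤ c)) = true :=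
      List.all_eq_true.2 fun c h => decide_eq_true (hc c h)
    rw [h2] at this
    simpa using this.symm
  · rintro ⟨hp, hr⟩
    refine ⟨hr, ?_⟩
    have := (hD.basic'.2.2.1 r hr).1
    rw [coTrie_get, decide_eq_true hp] at this
    exact fun c h => of_decide_eq_true (List.all_eq_true.1 this c h)

theorem isNegRoot_iff (hD : Good D) {r : ℕ} : D.IsNegRoot r ↔ r < half D := by
  constructor
  · rintro ⟨hr, hc⟩
    have := (hD.basic'.2.2.1 r hr).2.1
    rw [coTrie_get] at this
    have h2 : (D.coroot.getD r #[]).toList.all (fun c => decide (c ≤ 0)) = true :=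
      List.all_eq_true.2 fun c h => decide_eq_true (hc c h)
    rw [h2] at this
    simpa using this.symm
  · intro hn
    have hr : r < D.nroots := by have := hD.two_half; omega
    refine ⟨hr, ?_⟩
    have := (hD.basic'.2.2.1 r hr).2.1
    rw [coTrie_get, decide_eq_true hn] at this
    exact fun c h => of_decide_eq_true (List.all_eq_true.1 this c h)

theorem coroot_opp (hD : Good D) {r : ℕ} (hr : r < D.nroots) (i : ℕ) :
    (D.coroot.getD (opp D r) #[]).getD i 0 = -(D.coroot.getD r #[]).getD i 0 := by
  rw [← coT_eq, ← coT_eq, coT, coT, (hD.basic'.2.2.1 r hr).2.2.1]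
  simp [List.getD_eq_getElem?_getD, List.getElem?_map]
  cases ((coTrie D).get r)[i]? <;> simp

theorem cartan_opp (hD : Good D) {i r : ℕ} (hi : i < D.rank) (hr : r < D.nroots) :
    D.cartan i (opp D r) = -D.cartan i r := by
  have hr' : opp D r < D.nroots := by unfold opp; omega
  rw [← hD.cartanT_eq hi hr, ← hD.cartanT_eq hi hr', cartanT, cartanT,
    (hD.basic'.2.2.1 r hr).2.2.2]
  simp [List.getD_eq_getElem?_getD, List.getElem?_map]
  cases ((wtTrie D).get r)[i]? <;> simp

theorem simple_lt (hD : Good D) {i : ℕ} (hi : i < D.rank) : D.simple i < D.nroots :=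
  (hD.basic'.2.2.2 i hi).2.1

theorem half_le_simple (hD : Good D) {i : ℕ} (hi : i < D.rank) : half D ≤ D.simple i :=
  (hD.basic'.2.2.2 i hi).1

theorem cartan_simple_self (hD : Good D) {i : ℕ} (hi : i < D.rank) :
    D.cartan i (D.simple i) = 2 := by
  rw [← hD.cartanT_eq hi (hD.simple_lt hi)]
  exact (hD.basic'.2.2.2 i hi).2.2.1

theorem coroot_simple (hD : Good D) {i j : ℕ} (hi : i < D.rank) (hj : j < D.rank) :
    (D.coroot.getD (D.simple i) #[]).getD j 0 = if i = j then 1 else 0 := by
  rw [← coT_eq]
  exact (hD.basic'.2.2.2 i hi).2.2.2 j hj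

/-! ### The chain table -/

theorem chain' (hD : Good D) {r : ℕ} (hr : r < D.nroots) :
    (((chainTrie D).get r).map Prod.fst).Nodup ∧
    ∀ e ∈ (chainTrie D).get r, e.1 < D.nroots ∧ e.1 ≠ r ∧ e.1 ≠ opp D r ∧
      1 ≤ e.2.length ∧ e.2.length ≤ 3 ∧
      (∀ q ∈ e.2, q.1 < D.nroots ∧ if half D ≤ r then e.1 < q.1 else q.1 < e.1) ∧
      if half D ≤ r then e.1 ≠ top D false else e.1 ≠ top D true := by
  have h := hD.chain
  simp only [chkChain, List.all_eq_true, List.mem_range, Bool.and_eq_true, decide_eq_true_eq,
    bne_iff_ne, Bool.cond_eq_ite, apply_ite (· = true), Bool.cond_decide] at h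
  obtain ⟨h1, h2⟩ := h r hr
  refine ⟨?_, fun e he => ?_⟩
  · generalize (chainTrie D).get r = L at h1
    have hp : (L.map Prod.fst).Pairwise (· < ·) := by
      rw [← List.isChain_iff_pairwise]
      clear h2
      induction L with
      | nil => simp
      | cons a L ih =>
        cases L with
        | nil => simp
        | cons b L =>
          simp only [List.map_cons, List.isChain_cons_cons]
          refine ⟨h1 (a, b) (by simp), ih fun p hp => h1 p ?_⟩
          simp only [List.tail_cons, List.zip_cons_cons, List.mem_cons] at hp ⊢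
          exact Or.inr hp
    exact hp.imp (fun h => Nat.ne_of_lt h)
  · obtain ⟨⟨⟨⟨⟨⟨a, b⟩, c⟩, d⟩, e'⟩, f⟩, g⟩ := h2 e he
    exact ⟨a, b, c, d, e', f, g⟩

theorem chainEntry_mem (hD : Good D) {r s : ℕ} (hr : r < D.nroots) {q : ℕ × ℤ}
    (hq : q ∈ D.chainEntry r s) :
    s < D.nroots ∧ s ≠ r ∧ s ≠ opp D r ∧ q.1 < D.nroots ∧
      (if half D ≤ r then s < q.1 else q.1 < s) ∧
      (D.chainEntry r s).length ≤ 3 ∧
      (if half D ≤ r then s ≠ top D false else s ≠ top D true) := by
  rw [← entryT_eq, entryT] at hq ⊢
  cases h : List.find? (fun e => e.1 == s) ((chainTrie D).get r) with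
  | none => simp [h] at hq
  | some e =>
    simp only [h] at hq ⊢
    have he := List.mem_of_find?_eq_some h
    have hs : e.1 = s := by simpa using List.find?_some h
    obtain ⟨a, b, c, -, e', f, g⟩ := (hD.chain' hr).2 e he
    subst hs
    exact ⟨a, b, c, (f q hq).1, (f q hq).2, e', g⟩

theorem chainEntry_self (hD : Good D) {r : ℕ} (hr : r < D.nroots) : D.chainEntry r r = [] := by
  by_contra h
  obtain ⟨q, hq⟩ := List.exists_mem_of_ne_nil _ h
  exact (hD.chainEntry_mem hr hq).2.1 rfl

theorem chainEntry_opp (hD : Good D) {r : ℕ} (hr : r < D.nroots) :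
    D.chainEntry r (opp D r) = [] := by
  by_contra h
  obtain ⟨q, hq⟩ := List.exists_mem_of_ne_nil _ h
  exact (hD.chainEntry_mem hr hq).2.2.1 rfl

theorem chainEntry_length (hD : Good D) {r : ℕ} (hr : r < D.nroots) (s : ℕ) :
    (D.chainEntry r s).length ≤ 3 := by
  by_cases h : D.chainEntry r s = []
  · simp [h]
  · obtain ⟨q, hq⟩ := List.exists_mem_of_ne_nil _ h
    exact (hD.chainEntry_mem hr hq).2.2.2.2.2.1

end Good

/-! ### The integer matrices -/

/-- The `k`-th divided power `(ad e_r)^k / k!` as an integer matrix. -/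
def E (D : ChevalleyDatum) (r : Root D) (k : ℕ) : Matrix D.Idx D.Idx ℤ :=
  if k = 0 then 1 else SMat.toMat D.rank D.nroots (eMat D r k)

@[simp] theorem E_zero (r : Root D) : E D r 0 = 1 := if_pos rfl

theorem E_pos (r : Root D) {k : ℕ} (hk : k ≠ 0) :
    E D r k = SMat.toMat D.rank D.nroots (eMat D r k) := if_neg hk

theorem E_high (r : Root D) {k : ℕ} (hk : 4 ≤ k) : E D r k = 0 := by
  rw [E_pos r (by omega)]
  obtain ⟨m, rfl⟩ : ∃ m, k = m + 4 := ⟨k - 4, by omega⟩
  exact SMat.toMat_nil _ _

/-- The sum of the values of the entries at a position. -/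
def entVal (L : List (ℕ × ℕ × ℤ)) (a b : ℕ) : ℤ :=
  ((L.filter fun p => p.1 == a && p.2.1 == b).map fun p => p.2.2).sum

theorem entVal_nil (a b : ℕ) : entVal [] a b = 0 := rfl

theorem entVal_cons (p : ℕ × ℕ × ℤ) (L : List (ℕ × ℕ × ℤ)) (a b : ℕ) :
    entVal (p :: L) a b = (if p.1 = a ∧ p.2.1 = b then p.2.2 else 0) + entVal L a b := by
  by_cases h : p.1 = a ∧ p.2.1 = b <;> simp [entVal, List.filter_cons, h]

theorem entVal_append (L L' : List (ℕ × ℕ × ℤ)) (a b : ℕ) :
    entVal (L ++ L') a b = entVal L a b + entVal L' a b := by simp [entVal]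

theorem entVal_flatMap {α : Type} (g : α → List (ℕ × ℕ × ℤ)) (L : List α) (a b : ℕ) :
    entVal (L.flatMap g) a b = (L.map fun x => entVal (g x) a b).sum := by
  induction L with
  | nil => simp [entVal_nil]
  | cons x L ih => simp [entVal_append, ih]

theorem sum_map_key {α : Type} (L : List α) (key : α → ℕ) (h : (L.map key).Nodup) (s : ℕ)
    (f : α → ℤ) :
    (L.map fun e => if key e = s then f e else 0).sum =
      ((L.find? fun e => key e == s).map f).getD 0 := by
  induction L with
  | nil => simp
  | cons x L ih =>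
    simp only [List.map_cons, List.nodup_cons] at h
    rw [List.map_cons, List.sum_cons, ih h.2, List.find?_cons]
    by_cases hx : key x = s
    · have : L.find? (fun e => key e == s) = none := by
        rw [List.find?_eq_none]
        intro e he
        simp only [beq_iff_eq]
        exact fun h' => h.1 (List.mem_map.2 ⟨e, he, by omega⟩)
      simp [hx, this]
    · simp [hx, beq_eq_false_iff_ne.2 hx]

/-- The entry of the `r`-chain through `s` at place `j` lies at `u`: its coefficient, else `0`. -/
def chainVal (D : ChevalleyDatum) (r s j u : ℕ) : ℤ :=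
  match (D.chainEntry r s)[j]? with
  | some q => if q.1 = u then q.2 else 0
  | none => 0

theorem entVal_chainEnts (hD : Good D) (r : Root D) (j a b : ℕ) :
    entVal (chainEnts D r j) a b =
      if D.rank ≤ a ∧ D.rank ≤ b then chainVal D r (b - D.rank) j (a - D.rank) else 0 := by
  rw [chainEnts, entVal_flatMap]
  by_cases hb : D.rank ≤ a ∧ D.rank ≤ b
  · rw [if_pos hb, chainVal, ← entryT_eq, entryT]
    have := sum_map_key ((chainTrie D).get r) Prod.fst (hD.chain' r.isLt).1 (b - D.rank)
      (fun e => match e.2[j]? with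
        | some q => if q.1 = a - D.rank then q.2 else 0
        | none => 0)
    convert this using 1
    · congr 1
      apply List.map_congr_left
      intro e _
      cases e.2[j]? with
      | none => simp [entVal_nil]
      | some q =>
        simp only [entVal_cons, entVal_nil, add_zero]
        split_ifs <;> first | rfl | omega
    · cases List.find? (fun e => e.1 == b - D.rank) ((chainTrie D).get r) <;> simp
  · rw [if_neg hb]
    apply List.sum_eq_zero
    intro x hx
    obtain ⟨e, -, rfl⟩ := List.mem_map.1 hx
    cases e.2[j]? with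
    | none => simp [entVal_nil]
    | some q =>
      simp only [entVal_cons, entVal_nil, add_zero]
      rw [if_neg]; omega

theorem sum_range_ite {n : ℕ} {i : ℕ} (hi : i < n) (f : ℕ → ℤ) :
    ((List.range n).map fun j => if j = i then f j else 0).sum = f i := by
  induction n with
  | zero => omega
  | succ n ih =>
    rw [List.range_succ, List.map_append, List.sum_append]
    by_cases h : i = n
    · subst h
      have : ((List.range i).map fun j => if j = i then f j else 0).sum = 0 :=
        List.sum_eq_zero fun x hx => by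
          obtain ⟨j, hj, rfl⟩ := List.mem_map.1 hx
          rw [List.mem_range] at hj
          rw [if_neg (by omega)]
      simp [this]
    · simp [ih (by omega), Ne.symm h]

theorem entVal_torusEnts (hD : Good D) (r : Root D) (a b : ℕ)
    (ha : a < D.rank + D.nroots) (hb : b < D.rank + D.nroots) :
    entVal (torusEnts D r) a b =
      if b < D.rank then (if a = D.rank + r then -D.cartan b r else 0)
      else if a < D.rank ∧ b = D.rank + opp D r then (D.coroot.getD r #[]).getD a 0 else 0 := by
  rw [torusEnts, entVal_flatMap]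
  simp only [entVal_cons, entVal_nil, add_zero]
  by_cases hb' : b < D.rank
  · rw [if_pos hb']
    have : ∀ i ∈ List.range D.rank,
        ((if D.rank + ↑r = a ∧ i = b then -cartanT D i r else 0) +
          if i = a ∧ D.rank + opp D r = b then coT D r i else 0) =
        if i = b then (if a = D.rank + r then -D.cartan i r else 0) else 0 := by
      intro i hi
      rw [List.mem_range] at hi
      rw [hD.cartanT_eq hi r.isLt]
      split_ifs <;> omega
    rw [List.map_congr_left this, sum_range_ite hb']
  · rw [if_neg hb']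
    by_cases hab : a < D.rank ∧ b = D.rank + opp D r
    · rw [if_pos hab]
      have : ∀ i ∈ List.range D.rank,
          ((if D.rank + ↑r = a ∧ i = b then -cartanT D i r else 0) +
            if i = a ∧ D.rank + opp D r = b then coT D r i else 0) =
          if i = a then coT D r i else 0 := by
        intro i _
        split_ifs <;> omega
      rw [List.map_congr_left this, sum_range_ite hab.1, coT_eq]
    · rw [if_neg hab]
      apply List.sum_eq_zero
      intro x hx
      obtain ⟨i, hi, rfl⟩ := List.mem_map.1 hx
      rw [List.mem_range] at hi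
      split_ifs <;> omega

theorem E_apply (r : Root D) {k : ℕ} (hk : k ≠ 0) (a b : D.Idx) :
    E D r k a b = entVal (ents D r k) (finSumFinEquiv a : ℕ) (finSumFinEquiv b : ℕ) := by
  rw [E_pos r hk, SMat.toMat_apply, eMat, SMat.den_ofEntries, entVal]

theorem E_apply_one (hD : Good D) (r : Root D) (a b : D.Idx) :
    E D r 1 a b =
      match a, b with
      | Sum.inr u, Sum.inl i => if u = r then -D.cartan i r else 0
      | Sum.inl _, Sum.inl _ => 0
      | Sum.inl i, Sum.inr s => if s = r.rev then (D.coroot.getD r #[]).getD i 0 else 0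
      | Sum.inr u, Sum.inr s => chainVal D r s 0 u := by
  rw [E_apply r one_ne_zero, ents, entVal_append, entVal_chainEnts hD,
    entVal_torusEnts hD r _ _ (by exact (finSumFinEquiv a).isLt) (by exact (finSumFinEquiv b).isLt)]
  rcases a with i | u <;> rcases b with j | s <;>
    simp [finSumFinEquiv_apply_left, finSumFinEquiv_apply_right, opp, Fin.ext_iff, Fin.val_rev] <;>
    split_ifs <;> first | rfl | omega

theorem E_apply_two (hD : Good D) (r : Root D) (a b : D.Idx) :
    E D r 2 a b =
      match a, b with
      | Sum.inr u, Sum.inr s => (if u = r ∧ s = r.rev then -1 else 0) + chainVal D r s 1 u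
      | _, _ => 0 := by
  rw [E_apply r (by omega), ents, entVal_cons, entVal_chainEnts hD]
  rcases a with i | u <;> rcases b with j | s <;>
    simp [finSumFinEquiv_apply_left, finSumFinEquiv_apply_right, opp, Fin.ext_iff, Fin.val_rev] <;>
    split_ifs <;> first | rfl | omega

theorem E_apply_three (hD : Good D) (r : Root D) (a b : D.Idx) :
    E D r 3 a b =
      match a, b with
      | Sum.inr u, Sum.inr s => chainVal D r s 2 u
      | _, _ => 0 := by
  rw [E_apply r (by omega), ents, entVal_chainEnts hD]
  rcases a with i | u <;> rcases b with j | s <;>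
    simp [finSumFinEquiv_apply_left, finSumFinEquiv_apply_right] <;>
    omega

/-! ### Root elements over a commutative ring -/

/-- The root element `x_r(t)` over a commutative ring. -/
def xR (D : ChevalleyDatum) (R : Type*) [CommRing R] (r : Root D) (t : R) :
    Matrix D.Idx D.Idx R :=
  ∑ k ∈ Finset.range 4, t ^ k • (E D r k).map (Int.cast : ℤ → R)

theorem xR_map (D : ChevalleyDatum) {R S : Type*} [CommRing R] [CommRing S] (f : R →+* S)
    (r : Root D) (t : R) : (xR D R r t).map f = xR D S r (f t) := by
  ext a b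
  simp [xR, Matrix.sum_apply, map_sum]

end CfsgLib.Chevalley
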