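import Mathlib.Data.List.Basic
import Mathlib.LinearAlgebra.Matrix.Defs
import Mathlib.Data.Matrix.Mul
import Mathlib.Logic.Equiv.Fin.Basic
import Mathlib.Algebra.BigOperators.Group.Finset.Basic
import Mathlib.Tactic.Ring
/-!
Binary tries indexed by natural numbers, and sparse integer matrices stored as tries of rows, to be
evaluated by the kernel in `decide` checks about Chevalley tables.
-/

set_option autoImplicit false

namespace CfsgLib.Chevalley

/-- A binary trie indexed by natural numbers, each place holding a list. -/
inductive Trie (α : Type) : Type where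
  | nil : Trie α
  | node (v : List α) (l r : Trie α) : Trie α

namespace Trie

variable {α : Type}

/-- The list stored at index `i`. -/
def get : Trie α → ℕ → List α
  | nil, _ => []
  | node v l r, i =>
    bif i == 0 then v else bif i % 2 == 1 then l.get (i / 2) else r.get (i / 2 - 1)

/-- Prepend `x` at index `i`; `fuel` must exceed `i`. -/
def insAux : ℕ → ℕ → α → Trie α → Trie α
  | 0, _, _, t => t
  | fuel + 1, i, x, t =>
    match t with
    | nil =>
      bif i == 0 then node [x] nil nil
      else bif i % 2 == 1 then node [] (insAux fuel (i / 2) x nil) nil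
      else node [] nil (insAux fuel (i / 2 - 1) x nil)
    | node v l r =>
      bif i == 0 then node (x :: v) l r
      else bif i % 2 == 1 then node v (insAux fuel (i / 2) x l) r
      else node v l (insAux fuel (i / 2 - 1) x r)

/-- Prepend `x` at index `i`. -/
def ins (i : ℕ) (x : α) (t : Trie α) : Trie α := insAux (i + 1) i x t

/-- The trie with, at index `i`, the second components of the pairs with first component `i`. -/
def ofList : List (ℕ × α) → Trie α
  | [] => nil
  | p :: L => (ofList L).ins p.1 p.2

/-- A list cut into its places of even and of odd index. -/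
def split {β : Type} : List β → List β × List β
  | [] => ([], [])
  | x :: L => (x :: (split L).2, (split L).1)

/-- The trie with the lists of `L` at their places; `fuel` bounds the depth. -/
def ofRowsAux : ℕ → List (List α) → Trie α
  | 0, _ => nil
  | _ + 1, [] => nil
  | fuel + 1, v :: L => node v (ofRowsAux fuel (split L).1) (ofRowsAux fuel (split L).2)

/-- The trie with the lists of `L` at their places. -/
def ofRows (L : List (List α)) : Trie α := ofRowsAux L.length L

/-- Apply `f` at every stored place. -/
def mapRows (f : List α → List α) : Trie α → Trie α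
  | nil => nil
  | node v l r => node (f v) (l.mapRows f) (r.mapRows f)

/-- Placewise concatenation. -/
def add : Trie α → Trie α → Trie α
  | nil, t => t
  | node v l r, nil => node v l r
  | node v l r, node v' l' r' => node (v ++ v') (l.add l') (r.add r')

/-- `p` holds at every stored place. -/
def allRows (p : List α → Bool) : Trie α → Bool
  | nil => true
  | node v l r => p v && l.allRows p && r.allRows p

@[simp] theorem get_nil (i : ℕ) : (nil : Trie α).get i = [] := rfl

theorem get_node (v : List α) (l r : Trie α) (i : ℕ) :
    (node v l r).get i =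
      if i = 0 then v else if i % 2 = 1 then l.get (i / 2) else r.get (i / 2 - 1) := by
  simp only [get, Bool.cond_eq_ite, beq_iff_eq]

theorem get_insAux (fuel : ℕ) : ∀ (i j : ℕ) (x : α) (t : Trie α), i < fuel →
    (insAux fuel i x t).get j = if j = i then x :: t.get j else t.get j := by
  induction fuel with
  | zero => intro i j x t h; omega
  | succ fuel ih =>
    intro i j x t h
    cases t with
    | nil =>
      simp only [insAux, Bool.cond_eq_ite, beq_iff_eq]
      by_cases h0 : i = 0
      · subst h0
        simp only [if_true, get_node, get_nil]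
        split_ifs <;> first | rfl | omega
      · rw [if_neg h0]
        by_cases h1 : i % 2 = 1
        · rw [if_pos h1, get_node, ih _ _ _ _ (by omega)]
          simp only [get_nil]
          split_ifs <;> first | rfl | omega
        · rw [if_neg h1, get_node, ih _ _ _ _ (by omega)]
          simp only [get_nil]
          split_ifs <;> first | rfl | omega
    | node v l r =>
      simp only [insAux, Bool.cond_eq_ite, beq_iff_eq]
      by_cases h0 : i = 0
      · subst h0
        rw [if_pos rfl, get_node, get_node]
        split_ifs <;> first | rfl | omega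
      · rw [if_neg h0]
        by_cases h1 : i % 2 = 1
        · rw [if_pos h1, get_node, get_node, ih _ _ _ _ (by omega)]
          split_ifs <;> first | rfl | omega
        · rw [if_neg h1, get_node, get_node, ih _ _ _ _ (by omega)]
          split_ifs <;> first | rfl | omega

theorem get_ins (i j : ℕ) (x : α) (t : Trie α) :
    (t.ins i x).get j = if j = i then x :: t.get j else t.get j :=
  get_insAux _ _ _ _ _ (by omega)

theorem get_ofList (L : List (ℕ × α)) (i : ℕ) :
    (ofList L).get i = (L.filter fun p => p.1 == i).map Prod.snd := by
  induction L with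
  | nil => simp [ofList]
  | cons p L ih =>
    simp only [ofList, get_ins, ih]
    by_cases h : i = p.1
    · subst h; simp
    · simp [h, Ne.symm h]

theorem getD_split {β : Type} (d : β) (L : List β) (i : ℕ) :
    (split L).1.getD i d = L.getD (2 * i) d ∧ (split L).2.getD i d = L.getD (2 * i + 1) d := by
  induction L generalizing i with
  | nil => simp [split]
  | cons x L ih =>
    refine ⟨?_, ?_⟩
    · cases i with
      | zero => simp [split]
      | succ i => simpa [split, Nat.mul_succ] using (ih i).2
    · simpa [split] using (ih i).1

theorem length_split {β : Type} (L : List β) :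
    (split L).1.length ≤ L.length ∧ (split L).2.length ≤ L.length := by
  induction L with
  | nil => simp [split]
  | cons x L ih => simp only [split, List.length_cons]; omega

theorem get_ofRowsAux (fuel : ℕ) : ∀ (L : List (List α)) (i : ℕ), L.length ≤ fuel →
    (ofRowsAux fuel L).get i = L.getD i [] := by
  induction fuel with
  | zero =>
    intro L i h
    cases L with
    | nil => simp [ofRowsAux]
    | cons => simp at h
  | succ fuel ih =>
    intro L i h
    cases L with
    | nil => simp [ofRowsAux]
    | cons v L =>
      simp only [List.length_cons] at h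
      have := length_split L
      rw [ofRowsAux, get_node, ih _ _ (by omega), ih _ _ (by omega)]
      cases i with
      | zero => simp
      | succ i =>
        simp only [Nat.succ_ne_zero, if_false, List.getD_cons_succ]
        split_ifs with hpar
        · rw [(getD_split [] L _).1]; congr 1; omega
        · rw [(getD_split [] L _).2]; congr 1; omega

theorem get_ofRows (L : List (List α)) (i : ℕ) : (ofRows L).get i = L.getD i [] :=
  get_ofRowsAux _ L i le_rfl

theorem get_mapRows (f : List α → List α) (hf : f [] = []) (t : Trie α) (i : ℕ) :
    (t.mapRows f).get i = f (t.get i) := by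
  induction t generalizing i with
  | nil => simp [mapRows, hf]
  | node v l r ihl ihr => simp only [mapRows, get_node, ihl, ihr]; split_ifs <;> rfl

theorem get_add (s t : Trie α) (i : ℕ) : (s.add t).get i = s.get i ++ t.get i := by
  induction s generalizing t i with
  | nil => cases t <;> simp [add]
  | node v l r ihl ihr =>
    cases t with
    | nil => simp [add]
    | node v' l' r' => simp only [add, get_node, ihl, ihr]; split_ifs <;> rfl

theorem allRows_get {p : List α → Bool} (hp : p [] = true) {t : Trie α} (h : t.allRows p = true)
    (i : ℕ) : p (t.get i) = true := by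
  induction t generalizing i with
  | nil => simpa using hp
  | node v l r ihl ihr =>
    simp only [allRows, Bool.and_eq_true] at h
    rw [get_node]
    split_ifs
    · exact h.1.1
    · exact ihl h.1.2 _
    · exact ihr h.2 _

end Trie

/-- A sparse integer matrix: a trie of rows, each row a list of (column, value). -/
abbrev SMat : Type := Trie (ℕ × ℤ)

/-- The sum of the values of a row in column `c`. -/
def rowVal (L : List (ℕ × ℤ)) (c : ℕ) : ℤ := ((L.filter fun p => p.1 == c).map Prod.snd).sum

@[simp] theorem rowVal_nil (c : ℕ) : rowVal [] c = 0 := rfl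

theorem rowVal_cons (p : ℕ × ℤ) (L : List (ℕ × ℤ)) (c : ℕ) :
    rowVal (p :: L) c = (if p.1 = c then p.2 else 0) + rowVal L c := by
  by_cases h : p.1 = c <;> simp [rowVal, h]

theorem rowVal_append (L L' : List (ℕ × ℤ)) (c : ℕ) :
    rowVal (L ++ L') c = rowVal L c + rowVal L' c := by simp [rowVal]

theorem rowVal_map_mul (a : ℤ) (L : List (ℕ × ℤ)) (c : ℕ) :
    rowVal (L.map fun p => (p.1, a * p.2)) c = a * rowVal L c := by
  induction L with
  | nil => simp
  | cons p L ih => simp only [List.map_cons, rowVal_cons, ih]; split_ifs <;> ring

theorem rowVal_eq_zero_of_all {L : List (ℕ × ℤ)}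
    (h : (L.all fun p => rowVal L p.1 == 0) = true) (c : ℕ) : rowVal L c = 0 := by
  by_cases hc : ∃ p ∈ L, p.1 = c
  · obtain ⟨p, hp, rfl⟩ := hc
    simpa using List.all_eq_true.1 h p hp
  · push Not at hc
    have : L.filter (fun p => p.1 == c) = [] := by simpa [List.filter_eq_nil_iff] using fun a b h => hc (a, b) h
    simp [rowVal, this]

namespace SMat

/-- The entry in row `i` and column `j`. -/
def den (A : SMat) (i j : ℕ) : ℤ := rowVal (Trie.get A i) j

/-- The sparse matrix of a list of entries (row, column, value). -/
def ofEntries (L : List (ℕ × ℕ × ℤ)) : SMat := Trie.ofList L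

/-- Scalar multiple. -/
def smul (a : ℤ) (A : SMat) : SMat := Trie.mapRows (List.map fun p => (p.1, a * p.2)) A

/-- The product. -/
def mul (A B : SMat) : SMat :=
  Trie.mapRows (fun row => row.flatMap fun p => (Trie.get B p.1).map fun q => (q.1, p.2 * q.2)) A

/-- `A` is the zero matrix. -/
def isZero (A : SMat) : Bool := Trie.allRows (fun L => L.all fun p => rowVal L p.1 == 0) A

/-- Every column index is below `d`. -/
def bounded (d : ℕ) (A : SMat) : Bool := Trie.allRows (fun L => L.all fun p => decide (p.1 < d)) A

/-- Test for `A = B`. -/
def eqB (A B : SMat) : Bool := isZero (Trie.add A (smul (-1) B))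

theorem den_ofEntries (L : List (ℕ × ℕ × ℤ)) (i j : ℕ) :
    den (ofEntries L) i j
      = ((L.filter fun p => p.1 == i && p.2.1 == j).map fun p => p.2.2).sum := by
  simp only [den, ofEntries, Trie.get_ofList, rowVal, List.filter_map, List.map_map,
    List.filter_filter]
  congr 2
  apply List.filter_congr
  intro p _
  simp [Bool.and_comm]

@[simp] theorem den_nil (i j : ℕ) : den Trie.nil i j = 0 := rfl

theorem den_add (A B : SMat) (i j : ℕ) :
    den (Trie.add A B) i j = den A i j + den B i j := by
  simp [den, Trie.get_add, rowVal_append]

theorem den_smul (a : ℤ) (A : SMat) (i j : ℕ) : den (smul a A) i j = a * den A i j := by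
  simp [den, smul, Trie.get_mapRows, rowVal_map_mul]

theorem rowVal_flatMap_bounded (f : ℕ → List (ℕ × ℤ)) (d : ℕ) :
    ∀ (row : List (ℕ × ℤ)), (∀ p ∈ row, p.1 < d) → ∀ c : ℕ,
      rowVal (row.flatMap fun p => (f p.1).map fun q => (q.1, p.2 * q.2)) c
        = ∑ j ∈ Finset.range d, rowVal row j * rowVal (f j) c := by
  intro row
  induction row with
  | nil => simp
  | cons p row ih =>
    intro h c
    rw [List.flatMap_cons, rowVal_append, rowVal_map_mul, ih (fun q hq => h q (by simp [hq]))]
    simp only [rowVal_cons, add_mul, Finset.sum_add_distrib, ite_mul, zero_mul]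
    rw [Finset.sum_ite_eq, if_pos (Finset.mem_range.2 (h p (by simp)))]

theorem den_mul {d : ℕ} {A : SMat} (hA : bounded d A = true) (B : SMat) (i k : ℕ) :
    den (mul A B) i k = ∑ j ∈ Finset.range d, den A i j * den B j k := by
  rw [den, mul, Trie.get_mapRows _ rfl]
  refine rowVal_flatMap_bounded _ d _ (fun p hp => ?_) k
  simpa using List.all_eq_true.1 (Trie.allRows_get rfl hA i) p hp

theorem den_eq_zero_of_isZero {A : SMat} (h : isZero A = true) (i j : ℕ) : den A i j = 0 :=
  rowVal_eq_zero_of_all (Trie.allRows_get (p := fun L => L.all fun p => rowVal L p.1 == 0) rfl h i) j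

theorem den_eq_of_eqB {A B : SMat} (h : eqB A B = true) (i j : ℕ) : den A i j = den B i j := by
  have := den_eq_zero_of_isZero h i j
  rw [den_add, den_smul] at this
  omega

/-- The matrix with index set `Fin l ⊕ Fin n` denoted by a sparse matrix. -/
def toMat (l n : ℕ) (A : SMat) : Matrix (Fin l ⊕ Fin n) (Fin l ⊕ Fin n) ℤ :=
  Matrix.of fun a b => den A (finSumFinEquiv a : ℕ) (finSumFinEquiv b : ℕ)

theorem toMat_apply (l n : ℕ) (A : SMat) (a b : Fin l ⊕ Fin n) :
    toMat l n A a b = den A (finSumFinEquiv a : ℕ) (finSumFinEquiv b : ℕ) := rfl

theorem toMat_mul {l n : ℕ} {A : SMat} (hA : bounded (l + n) A = true) (B : SMat) :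
    toMat l n (mul A B) = toMat l n A * toMat l n B := by
  ext a b
  rw [toMat_apply, den_mul hA, Matrix.mul_apply,
    ← Fin.sum_univ_eq_sum_range
      (fun j => den A (finSumFinEquiv a : ℕ) j * den B j (finSumFinEquiv b : ℕ)) (l + n)]
  exact (finSumFinEquiv.sum_comp
    (fun j : Fin (l + n) => den A (finSumFinEquiv a : ℕ) j * den B j (finSumFinEquiv b : ℕ))).symm

theorem toMat_add (l n : ℕ) (A B : SMat) :
    toMat l n (Trie.add A B) = toMat l n A + toMat l n B := by
  ext a b; simp [toMat_apply, den_add]

theorem toMat_smul (l n : ℕ) (c : ℤ) (A : SMat) : toMat l n (smul c A) = c • toMat l n A := by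
  ext a b; simp [toMat_apply, den_smul]

theorem toMat_nil (l n : ℕ) : toMat l n Trie.nil = 0 := by
  ext a b; simp [toMat_apply]

theorem toMat_eq_of_eqB (l n : ℕ) {A B : SMat} (h : eqB A B = true) :
    toMat l n A = toMat l n B := by
  ext a b; exact den_eq_of_eqB h _ _

theorem toMat_eq_zero_of_isZero (l n : ℕ) {A : SMat} (h : isZero A = true) :
    toMat l n A = 0 := by
  ext a b; exact den_eq_zero_of_isZero h _ _

end SMat

end CfsgLib.Chevalley
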