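import Cfsg.Prelude.Def_ChevStructure
import Cfsg.Agent.Chevalley.SparseMat
/-!
The finite checks on the tables of a Chevalley datum from which the theory of its groups is derived.
All of them are Boolean functions written so that the kernel can evaluate them quickly.
-/

set_option autoImplicit false

namespace CfsgLib.Chevalley

open Cfsg.Lie

variable (D : ChevalleyDatum)

/-- Half the number of roots: the positive roots are the indices from `half` on. -/
def half : ℕ := D.nroots / 2

/-- The index of the opposite root, by the reversal rule. -/
def opp (r : ℕ) : ℕ := D.nroots - 1 - r

/-- All chain tables, as a trie of (partner, chain). -/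
def chainTrie : Trie (ℕ × List (ℕ × ℤ)) :=
  Trie.ofRows (D.chain.toList.map fun row => row.toList.map fun e => (e.1, e.2.toList))

/-- The weights: at `r`, the list of the Cartan integers of `r` with the fundamental roots. -/
def wtTrie : Trie ℤ :=
  Trie.ofRows ((D.cartanSR.toList.map Array.toList).foldr (List.zipWith List.cons)
    (List.replicate D.nroots []))

/-- The coroots, as a trie. -/
def coTrie : Trie ℤ := Trie.ofRows (D.coroot.toList.map Array.toList)

/-- The Cartan integer of the `i`-th fundamental root and `r`, read off the trie. -/
def cartanT (i r : ℕ) : ℤ := ((wtTrie D).get r).getD i 0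

/-- The `i`-th coefficient of the coroot of `r`, read off the trie. -/
def coT (r i : ℕ) : ℤ := ((coTrie D).get r).getD i 0

/-- The chain of the pair `(r, s)`, read off the trie. -/
def entryT (r s : ℕ) : List (ℕ × ℤ) :=
  match ((chainTrie D).get r).find? (fun e => e.1 == s) with
  | none => []
  | some e => e.2

/-- The entries of the divided powers coming from the chain table (`j = k - 1`). -/
def chainEnts (r j : ℕ) : List (ℕ × ℕ × ℤ) :=
  ((chainTrie D).get r).flatMap fun e =>
    match e.2[j]? with
    | some q => [(D.rank + q.1, D.rank + e.1, q.2)]
    | none => []

/-- The entries of `ad e_r` touching the Cartan subalgebra. -/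
def torusEnts (r : ℕ) : List (ℕ × ℕ × ℤ) :=
  (List.range D.rank).flatMap fun i =>
    [(D.rank + r, i, -cartanT D i r), (i, D.rank + opp D r, coT D r i)]

/-- The entries of the `k`-th divided power of `ad e_r`, for `k = 1, 2, 3`. -/
def ents (r : ℕ) : ℕ → List (ℕ × ℕ × ℤ)
  | 1 => torusEnts D r ++ chainEnts D r 0
  | 2 => (D.rank + r, D.rank + opp D r, -1) :: chainEnts D r 1
  | 3 => chainEnts D r 2
  | _ => []

/-- The `k`-th divided power of `ad e_r` as a sparse matrix, `k = 1, 2, 3`. -/
def eMat (r k : ℕ) : SMat := SMat.ofEntries (ents D r k)

/-- `ad h_i` as a sparse matrix. -/
def hSMat (i : ℕ) : SMat :=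
  SMat.ofEntries ((List.range D.nroots).map fun s => (D.rank + s, D.rank + s, cartanT D i s))

/-- The commutator of two sparse matrices. -/
def sBracket (A B : SMat) : SMat := Trie.add (SMat.mul A B) (SMat.smul (-1) (SMat.mul B A))

/-- The `i`-th fundamental root (`b = false`) or its negative (`b = true`). -/
def gen (b : Bool) (i : ℕ) : ℕ := bif b then opp D (D.simple i) else D.simple i

/-- `r` lies on the side `b`: positive for `false`, negative for `true`. -/
def onSide (b : Bool) (r : ℕ) : Bool :=
  decide (r < D.nroots) && bif b then decide (r < half D) else decide (half D ≤ r)

/-- The extreme root of a side. -/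
def top (b : Bool) : ℕ := bif b then 0 else D.nroots - 1

/-- Twice the sum of the fundamental coweights, on the coroot basis: the sum of the positive coroots. -/
def rhoVec : List ℤ :=
  (List.range D.rank).map fun i =>
    (((List.range D.nroots).drop (half D)).map fun r => coT D r i).sum

/-- Sizes, numbering of signs, fundamental roots. -/
def chkBasic : Bool :=
  decide (0 < D.rank) && decide (0 < half D) && decide (D.nroots = 2 * half D) &&
  (D.cartanSR.toList.length == D.rank) &&
  (D.cartanSR.toList.all fun row => row.toList.length == D.nroots) &&
  (D.coroot.toList.length == D.nroots) &&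
  (D.coroot.toList.all fun row => row.toList.length == D.rank) &&
  (D.chain.toList.length == D.nroots) &&
  (D.negIdx.toList == ((List.range D.nroots).map fun r => opp D r)) &&
  ((List.range D.nroots).all fun r =>
    (((coTrie D).get r).all (fun c => decide (0 ≤ c)) == decide (half D ≤ r)) &&
    (((coTrie D).get r).all (fun c => decide (c ≤ 0)) == decide (r < half D)) &&
    ((coTrie D).get (opp D r) == ((coTrie D).get r).map (fun c => -c)) &&
    ((wtTrie D).get (opp D r) == ((wtTrie D).get r).map (fun c => -c))) &&
  ((List.range D.rank).all fun i =>
    decide (half D ≤ D.simple i) && decide (D.simple i < D.nroots) && (cartanT D i (D.simple i) == 2) &&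
    ((List.range D.rank).all fun j => coT D (D.simple i) j == bif i == j then 1 else 0))

/-- The shape of the chain table. -/
def chkChain : Bool :=
  (List.range D.nroots).all fun r =>
    let es := (chainTrie D).get r
    ((es.zip es.tail).all fun p => decide (p.1.1 < p.2.1)) &&
    es.all fun e =>
      decide (e.1 < D.nroots) && (e.1 != r) && (e.1 != opp D r) &&
      decide (1 ≤ e.2.length) && decide (e.2.length ≤ 3) &&
      (e.2.all fun q =>
        decide (q.1 < D.nroots) &&
          (bif decide (half D ≤ r) then decide (e.1 < q.1) else decide (q.1 < e.1))) &&
      (bif decide (half D ≤ r) then e.1 != top D false else e.1 != top D true)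

/-- The weight of a coordinate. -/
def codeWt (W : Trie ℤ) (c : ℕ) : List ℤ :=
  bif decide (c < D.rank) then List.replicate D.rank 0 else W.get (c - D.rank)

/-- The entries at the root `r` are in range and homogeneous for the weights. -/
def chkWeightAt (r : ℕ) : Bool :=
  let W := wtTrie D
  [1, 2, 3].all fun k =>
    (ents D r k).all fun e =>
      decide (e.1 < D.rank + D.nroots) && decide (e.2.1 < D.rank + D.nroots) &&
        (codeWt D W e.1 == List.zipWith (fun a b => a + (k : ℤ) * b) (codeWt D W e.2.1) (W.get r))

/-- The entries are in range and homogeneous for the weights. -/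
def chkWeight : Bool := (List.range D.nroots).all (chkWeightAt D)

/-- Positive roots have height at least that of the fundamental ones (twice the usual height). -/
def chkHeight : Bool :=
  let W := wtTrie D
  let K := rhoVec D
  (List.range D.nroots).all fun r =>
    let h := (List.zipWith (fun a b => a * b) K (W.get r)).sum
    (bif decide (half D ≤ r) then decide (2 ≤ h) else decide (h ≤ -2)) &&
      (bif (List.range D.rank).any (fun i => D.simple i == r) then h == 2 else true)

/-- The divided powers multiply as they should. -/
def chkPowersAt (r : ℕ) : Bool :=
    let A := eMat D r 1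
    let B := eMat D r 2
    let C := eMat D r 3
    SMat.bounded (D.rank + D.nroots) A &&
      SMat.eqB (SMat.mul A A) (SMat.smul 2 B) && SMat.eqB (SMat.mul A B) (SMat.smul 3 C) &&
      SMat.isZero (SMat.mul A C)

/-- The divided powers of every root multiply as they should. -/
def chkPowers : Bool := (List.range D.nroots).all (chkPowersAt D)

/-- The fundamental root elements of opposite sides commute to the fundamental coroots. -/
def chkMixed : Bool :=
  (List.range D.rank).all fun i =>
    (List.range D.rank).all fun j =>
      (bif i == j then true else (entryT D (gen D false i) (gen D true j)).isEmpty &&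
        (entryT D (gen D true j) (gen D false i)).isEmpty) &&
      SMat.eqB (sBracket (eMat D (gen D false i) 1) (eMat D (gen D true j) 1))
        (bif i == j then hSMat D i else Trie.nil)

/-- The chosen parent of `r`: a fundamental root (of its side) and the difference. -/
def parent (b : Bool) (r : ℕ) : ℕ × ℕ × ℤ :=
  (((List.range D.rank).filterMap fun i =>
    match entryT D (gen D (!b) i) r with
    | q :: _ => some (i, q.1, (((entryT D (gen D b i) q.1).head?).map Prod.snd).getD 0)
    | [] => none).headD (0, 0, 0))

/-- Every root that is not fundamental is, up to a non-zero integer, the bracket of a fundamental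
root of its side and a root. -/
def chkParentAt (b : Bool) (r : ℕ) : Bool :=
      bif onSide D b r && !((List.range D.rank).any fun i => gen D b i == r) then
        let q := parent D b r
        decide (q.1 < D.rank) && onSide D b q.2.1 &&
          ((entryT D (gen D b q.1) q.2.1).head? == some (r, q.2.2)) && (q.2.2 != 0) &&
          SMat.eqB (sBracket (eMat D (gen D b q.1) 1) (eMat D q.2.1 1))
            (SMat.smul q.2.2 (eMat D r 1))
      else true

/-- Every root of the side `b` has a parent. -/
def chkParent (b : Bool) : Bool := (List.range D.nroots).all (chkParentAt D b)

/-- Every root vector is reached from the extreme one by fundamental root elements of the other side. -/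
def chkReach : Bool :=
  [false, true].all fun b =>
    (List.range D.nroots).all fun s =>
      (s == top D b) || ((List.range D.rank).any fun i => gen D (!b) i == s) ||
      ((List.range D.rank).any fun i =>
        match entryT D (gen D b i) s with
        | q :: _ =>
          match entryT D (gen D (!b) i) q.1 with
          | q' :: _ => (q'.1 == s) && (q'.2 != 0)
          | [] => false
        | [] => false)

end CfsgLib.Chevalley
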