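import Cfsg.Agent.Chevalley.Bruhat
import Cfsg.Agent.ChevTorus.Generators
/-!
Standard parabolic subgroups: `P_J = ⟨H, X_r⟩`, the Levi decomposition `P_J = U_J L_J`, and
`N_G(U_J) = P_J`. The grading separating `U_J` from `L_J` is the height averaged over `W_J`.
-/

set_option autoImplicit false

namespace CfsgLib.Chevalley

open Cfsg.Lie
open scoped MatrixGroups

variable {D : ChevalleyDatum}

/-! ### Weights along chains -/

theorem Good.chainRoot_cartan (hC : GoodComm D) {x y : Root D} (hne : y ≠ x.rev) {i k : ℕ}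
    (hi : 0 < i) (h : D.chainRoot x y i = some k) :
    ∃ hk : k < D.nroots, ∀ l : Fin D.rank,
      D.cartan l (⟨k, hk⟩ : Root D) = i * D.cartan l x + D.cartan l y := by
  simp only [ChevalleyDatum.chainRoot, Option.map_eq_some_iff] at h
  obtain ⟨q, hq, rfl⟩ := h
  have hD := hC.good
  have hlt : q.1 < D.nroots := (hD.chainEntry_mem x.isLt (List.mem_of_getElem? hq)).2.2.2.1
  refine ⟨hlt, fun l => ?_⟩
  have hlen := hD.chainEntry_length x.isLt y
  obtain ⟨hlt', -⟩ := List.getElem?_eq_some_iff.1 hq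
  have hne0 : q.2 ≠ 0 := Good.coeff_ne hC x y (List.mem_of_getElem? hq)
  have hE : E D x i (Sum.inr ⟨q.1, hlt⟩) (Sum.inr y) ≠ 0 := by
    rcases (by omega : i = 1 ∨ i = 2 ∨ i = 3) with rfl | rfl | rfl
    · rw [E_apply_one hD]; simpa [chainVal, show (D.chainEntry x y)[0]? = some q from hq] using hne0
    · rw [E_apply_two hD]
      simpa [chainVal, show (D.chainEntry x y)[1]? = some q from hq, hne] using hne0
    · rw [E_apply_three hD]; simpa [chainVal, show (D.chainEntry x y)[2]? = some q from hq] using hne0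
  have := hD.wt_of_E_ne_zero x i l hE
  simp only [wt_inr] at this
  linarith

/-- The roots in the commutator formula are `i r + j s` on weights, `i, j > 0`. -/
theorem Good.commTerms_cartan (hC : GoodComm D) {b : Bool} {r s : Root D} (hr : half D ≤ key b r)
    (hs : half D ≤ key b s) {c : ℕ × ℤ × ℕ × ℕ} (hc : c ∈ D.commTerms r s) :
    ∃ (h : c.1 < D.nroots) (i j : ℕ), 0 < i ∧ 0 < j ∧ ∀ l : Fin D.rank,
      D.cartan l (⟨c.1, h⟩ : Root D) = i * D.cartan l r + j * D.cartan l s := by
  have hsr := hC.good.rev_ne_of_key hr hs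
  have hrs := hC.good.rev_ne_of_key hs hr
  have A : ∀ {i k : ℕ}, 0 < i → D.chainRoot r s i = some k → ∃ (h : k < D.nroots) (i j : ℕ),
      0 < i ∧ 0 < j ∧ ∀ l : Fin D.rank,
        D.cartan l (⟨k, h⟩ : Root D) = i * D.cartan l r + j * D.cartan l s := by
    intro i k hi h
    obtain ⟨hk, e⟩ := Good.chainRoot_cartan hC hsr hi h
    exact ⟨hk, i, 1, hi, one_pos, fun l => by rw [e l]; push_cast; ring⟩
  have B : ∀ {j k : ℕ}, 0 < j → D.chainRoot s r j = some k → ∃ (h : k < D.nroots) (i j : ℕ),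
      0 < i ∧ 0 < j ∧ ∀ l : Fin D.rank,
        D.cartan l (⟨k, h⟩ : Root D) = i * D.cartan l r + j * D.cartan l s := by
    intro j k hj h
    obtain ⟨hk, e⟩ := Good.chainRoot_cartan hC hrs hj h
    exact ⟨hk, 1, j, one_pos, hj, fun l => by rw [e l]; push_cast; ring⟩
  simp only [ChevalleyDatum.commTerms, List.mem_filterMap, Option.map_eq_some_iff] at hc
  obtain ⟨e, he, k, hk, rfl⟩ := hc
  simp only [List.mem_cons, List.not_mem_nil, or_false] at he
  rcases he with rfl | rfl | rfl | rfl | rfl | rfl | rfl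
  · exact A one_pos hk
  · exact A two_pos hk
  · exact B two_pos hk
  · exact A three_pos hk
  · exact B three_pos hk
  · obtain ⟨m, hm, hk⟩ := Option.bind_eq_some_iff.1 hk
    simp only [ChevalleyDatum.chainRoot, Option.map_eq_some_iff] at hm
    obtain ⟨q, hq, rfl⟩ := hm
    obtain ⟨hml, h1, -⟩ := Good.chain_key_gt hC hr hs 2 q hq
    obtain ⟨_, em⟩ := Good.chainRoot_cartan hC hsr three_pos
      (show D.chainRoot r s 3 = some q.1 by simp [ChevalleyDatum.chainRoot, show (D.chainEntry r s)[2]? = some q from hq])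
    obtain ⟨hkl, ek⟩ := Good.chainRoot_cartan hC (x := ⟨q.1, hml⟩)
      (hC.good.rev_ne_of_key (b := b) (by omega) hs) one_pos hk
    exact ⟨hkl, 3, 2, by omega, two_pos, fun l => by rw [ek l, em l]; push_cast; ring⟩
  · obtain ⟨m, hm, hk⟩ := Option.bind_eq_some_iff.1 hk
    simp only [ChevalleyDatum.chainRoot, Option.map_eq_some_iff] at hm
    obtain ⟨q, hq, rfl⟩ := hm
    obtain ⟨hml, h1, -⟩ := Good.chain_key_gt hC hs hr 2 q hq
    obtain ⟨_, em⟩ := Good.chainRoot_cartan hC hrs three_pos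
      (show D.chainRoot s r 3 = some q.1 by simp [ChevalleyDatum.chainRoot, show (D.chainEntry s r)[2]? = some q from hq])
    obtain ⟨hkl, ek⟩ := Good.chainRoot_cartan hC (x := ⟨q.1, hml⟩)
      (hC.good.rev_ne_of_key (b := b) (by omega) hr) one_pos hk
    exact ⟨hkl, 2, 3, two_pos, by omega, fun l => by rw [ek l, em l]; push_cast; ring⟩

/-! ### The root subsystem of `J` and the averaged height -/

open ChevTorus (co co_wPerm co_pRoot co_sign_iff)

/-- The roots in the span of the fundamental roots in `J`. -/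
def rootJ (D : ChevalleyDatum) (J : Set (Fin D.rank)) : Set (Root D) :=
  {r | ∀ i ∉ J, co D r i = 0}

/-- The positive roots outside the span of `J`. -/
def radJ (D : ChevalleyDatum) (J : Set (Fin D.rank)) : Set (Root D) :=
  {r | half D ≤ r ∧ r ∉ rootJ D J}

/-- The group generated by the fundamental reflections in `J`, on the roots. -/
def wJ (hW : GoodWeyl D) (J : Set (Fin D.rank)) : Subgroup (Equiv.Perm (Root D)) :=
  Subgroup.closure (wPerm hW '' J)

variable {J : Set (Fin D.rank)}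

theorem co_rev (hW : GoodWeyl D) (r : Root D) (k : Fin D.rank) : co D r.rev k = -co D r k := by
  revert k
  refine hW.root_induction (P := fun r => ∀ k, co D r.rev k = -co D r k) (fun i k => ?_) ?_ r
  · rw [← hW.wPerm_pRoot, co_wPerm hW, co_pRoot hW, hW.pairing_pRoot,
      show D.cartan i (pRoot hW i) = 2 from hW.good.cartan_simple_self i.isLt]
    split_ifs <;> norm_num
  · intro i s hs k
    rw [← hW.wPerm_rev, co_wPerm hW, co_wPerm hW, hs]
    split_ifs
    · rw [pairing_eq_sum, pairing_eq_sum]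
      have : ∀ l : Fin D.rank, (D.coroot.getD (s.rev : Root D) #[]).getD (l : ℕ) 0 =
          -((D.coroot.getD s #[]).getD (l : ℕ) 0) := fun l : Fin D.rank => hs l
      simp only [this, neg_mul, Finset.sum_neg_distrib]
      ring
    · ring

theorem pRoot_mem_rootJ (hW : GoodWeyl D) {j : Fin D.rank} (hj : j ∈ J) :
    pRoot hW j ∈ rootJ D J := by
  intro i hi
  rw [co_pRoot hW, if_neg]
  exact fun e => hi (e ▸ hj)

theorem wPerm_mem_rootJ (hW : GoodWeyl D) {j : Fin D.rank} (hj : j ∈ J) {r : Root D}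
    (hr : r ∈ rootJ D J) : wPerm hW j r ∈ rootJ D J := by
  intro i hi
  rw [co_wPerm hW, hr i hi, if_neg, sub_zero]
  exact fun e => hi (e ▸ hj)

theorem rev_mem_rootJ (hW : GoodWeyl D) {r : Root D} (hr : r ∈ rootJ D J) : r.rev ∈ rootJ D J :=
  fun i hi => by rw [co_rev hW, hr i hi, neg_zero]

theorem wPerm_mem_radJ (hW : GoodWeyl D) {j : Fin D.rank} (hj : j ∈ J) {r : Root D}
    (hr : r ∈ radJ D J) : wPerm hW j r ∈ radJ D J :=
  ⟨(hW.wPerm_pos j hr.1 fun e => hr.2 (e ▸ pRoot_mem_rootJ hW hj)).1,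
    fun h => hr.2 (hW.wPerm_wPerm j r ▸ wPerm_mem_rootJ hW hj h)⟩

theorem wJ_induction (hW : GoodWeyl D) {P : Equiv.Perm (Root D) → Prop}
    {w : Equiv.Perm (Root D)} (hw : w ∈ wJ hW J) (h1 : P 1)
    (hs : ∀ j ∈ J, ∀ v, P v → P (wPerm hW j * v)) : P w := by
  induction hw using Subgroup.closure_induction_left with
  | one => exact h1
  | mul_left x hx v _ ih => obtain ⟨j, hj, rfl⟩ := hx; exact hs j hj v ih
  | inv_mul_cancel x hx v _ ih =>
    obtain ⟨j, hj, rfl⟩ := hx
    rw [show (wPerm hW j)⁻¹ = wPerm hW j from rfl]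
    exact hs j hj v ih

theorem wJ_apply_radJ (hW : GoodWeyl D) {w : Equiv.Perm (Root D)} (hw : w ∈ wJ hW J) :
    ∀ {r : Root D}, r ∈ radJ D J → w r ∈ radJ D J :=
  wJ_induction hW (P := fun w => ∀ {r : Root D}, r ∈ radJ D J → w r ∈ radJ D J) hw (fun h => h)
    fun _ hj _ ih _ hr => wPerm_mem_radJ hW hj (ih hr)

theorem pairing_self (hW : GoodWeyl D) (r : Root D) : D.pairing r r = 2 := by
  refine hW.root_induction (P := fun r => D.pairing r r = 2) (fun i => ?_) ?_ r
  · rw [hW.pairing_pRoot]; exact hW.good.cartan_simple_self i.isLt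
  · intro i s hs
    rw [hW.pairing_wPerm, hW.wPerm_wPerm, hs]

theorem ht_wPerm (hW : GoodWeyl D) (i : Fin D.rank) (r : Root D) :
    ht D (Sum.inr (wPerm hW i r)) = ht D (Sum.inr r) - 2 * D.cartan i r := by
  have h2 : sgn false * ht D (Sum.inr (pRoot hW i)) = 2 := hW.good.ht_genR false i
  simp only [sgn, Bool.false_eq_true, if_false, one_mul] at h2
  rw [← h2, ht_inr, ht_inr, ht_inr, Finset.sum_mul, ← Finset.sum_sub_distrib]
  exact Finset.sum_congr rfl fun k _ => by rw [hW.cartan_wPerm]; ring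

/-- Induction over the positive roots in the span of `J`. -/
theorem rootJ_induction (hW : GoodWeyl D) {P : Root D → Prop} (h0 : ∀ j ∈ J, P (pRoot hW j))
    (hstep : ∀ j ∈ J, ∀ r, P r → P (wPerm hW j r)) {r : Root D} (hp : half D ≤ r)
    (hr : r ∈ rootJ D J) : P r := by
  generalize hn : (ht D (Sum.inr r)).toNat = n
  induction n using Nat.strong_induction_on generalizing r with
  | _ n ih =>
    obtain ⟨j, -, hj⟩ : ∃ j ∈ Finset.univ, 0 < co D r j * D.cartan j r := by
      by_contra hc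
      push Not at hc
      have := Finset.sum_nonpos hc
      have h2 := pairing_self hW r
      rw [pairing_eq_sum] at h2
      unfold ChevTorus.co at this
      omega
    have hcj : 0 < co D r j := lt_of_le_of_ne (((co_sign_iff hW.good r).1).1 hp j)
      (fun e => by rw [← e, zero_mul] at hj; exact lt_irrefl _ hj)
    have hjJ : j ∈ J := by
      by_contra h
      rw [hr j h] at hcj
      exact lt_irrefl _ hcj
    have hpj : 0 < D.cartan j r := pos_of_mul_pos_right hj hcj.le
    by_cases he : r = pRoot hW j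
    · exact he ▸ h0 j hjJ
    have hp' := (hW.wPerm_pos j hp he).1
    have h1 := (hW.good.pos_iff_ht _).1 hp'
    have h3 := ht_wPerm hW j r
    have := hstep j hjJ _ (ih _ (by omega) hp' (wPerm_mem_rootJ hW hjJ hr) rfl)
    rwa [hW.wPerm_wPerm] at this

/-! ### The grading -/

noncomputable instance wJFintype (hW : GoodWeyl D) (J : Set (Fin D.rank)) : Fintype (wJ hW J) :=
  Fintype.ofFinite _

/-- The height averaged over `W_J`. -/
noncomputable def grade (hW : GoodWeyl D) (J : Set (Fin D.rank)) (a : D.Idx) : ℤ :=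
  ∑ w : wJ hW J, ht D (Sum.map id (w : Equiv.Perm (Root D)) a)

theorem wt_map_wPerm (hW : GoodWeyl D) (i l : Fin D.rank) (a : D.Idx) :
    wt D l (Sum.map id (wPerm hW i) a) = wt D l a - wt D i a * D.cartan l (pRoot hW i) := by
  rcases a with k | s
  · simp
  · simp [hW.cartan_wPerm]

theorem wt_map_linear (hW : GoodWeyl D) {w : Equiv.Perm (Root D)} (hw : w ∈ wJ hW J)
    {a b c : D.Idx} {x y : ℤ} (h : ∀ l, wt D l c = x * wt D l a + y * wt D l b) :
    ∀ l, wt D l (Sum.map id w c) = x * wt D l (Sum.map id w a) + y * wt D l (Sum.map id w b) :=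
  wJ_induction hW (P := fun w : Equiv.Perm (Root D) => ∀ l,
    wt D l (Sum.map id w c) = x * wt D l (Sum.map id w a) + y * wt D l (Sum.map id w b)) hw
    (fun l => by simpa using h l) fun i _ v ih l => by
      have e : ∀ z : D.Idx, Sum.map id (wPerm hW i * v : Equiv.Perm (Root D)) z =
          Sum.map id (wPerm hW i) (Sum.map id v z) := fun z => by cases z <;> simp
      rw [e, e, e, wt_map_wPerm, wt_map_wPerm, wt_map_wPerm, ih l, ih i]
      ring

theorem grade_linear (hW : GoodWeyl D) (J : Set (Fin D.rank)) {a b c : D.Idx} {x y : ℤ}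
    (h : ∀ l, wt D l c = x * wt D l a + y * wt D l b) :
    grade hW J c = x * grade hW J a + y * grade hW J b := by
  simp only [grade, Finset.mul_sum, ← Finset.sum_add_distrib]
  refine Finset.sum_congr rfl fun w _ => ?_
  simp only [ht, Finset.mul_sum, ← Finset.sum_add_distrib]
  exact Finset.sum_congr rfl fun l _ => by rw [wt_map_linear hW w.2 h l]; ring

theorem grade_wPerm (hW : GoodWeyl D) {j : Fin D.rank} (hj : j ∈ J) (r : Root D) :
    grade hW J (Sum.inr (wPerm hW j r)) = grade hW J (Sum.inr r) :=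
  Fintype.sum_equiv
    (Equiv.mulRight (⟨wPerm hW j, Subgroup.subset_closure ⟨j, hj, rfl⟩⟩ : wJ hW J)) _ _
    fun w => rfl

theorem grade_rev (hW : GoodWeyl D) (r : Root D) :
    grade hW J (Sum.inr r.rev) = -grade hW J (Sum.inr r) := by
  rw [grade, grade, ← Finset.sum_neg_distrib]
  refine Finset.sum_congr rfl fun w _ => ?_
  have : ∀ s, (w : Equiv.Perm (Root D)) s.rev = ((w : Equiv.Perm (Root D)) s).rev :=
    wJ_induction hW (P := fun v => ∀ s, v s.rev = (v s).rev) w.2 (fun _ => rfl)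
      fun i _ v ih s => by simp [ih, hW.wPerm_rev]
  simp [this, hW.good.ht_rev]

theorem grade_eq_zero (hW : GoodWeyl D) {r : Root D} (hr : r ∈ rootJ D J) :
    grade hW J (Sum.inr r) = 0 := by
  have H : ∀ s : Root D, half D ≤ s → s ∈ rootJ D J → grade hW J (Sum.inr s) = 0 := by
    intro s hs hsJ
    refine rootJ_induction hW (P := fun s => grade hW J (Sum.inr s) = 0) (fun j hj => ?_)
      (fun j hj t ht => (grade_wPerm hW hj t).trans ht) hs hsJ
    have := grade_wPerm hW hj (pRoot hW j)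
    rw [hW.wPerm_pRoot, grade_rev hW] at this
    omega
  by_cases hp : half D ≤ r
  · exact H r hp hr
  · have := H r.rev (by have := hW.good.two_half; rw [Fin.val_rev]; omega) (rev_mem_rootJ hW hr)
    rw [grade_rev hW] at this
    omega

theorem grade_pos (hW : GoodWeyl D) {r : Root D} (hr : r ∈ radJ D J) :
    0 < grade hW J (Sum.inr r) :=
  Finset.sum_pos (fun w _ => (hW.good.pos_iff_ht _).1 (wJ_apply_radJ hW w.2 hr).1)
    ⟨1, Finset.mem_univ _⟩

theorem grade_nonneg (hW : GoodWeyl D) {r : Root D} (hr : half D ≤ r) :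
    0 ≤ grade hW J (Sum.inr r) := by
  by_cases h : r ∈ rootJ D J
  · exact (grade_eq_zero hW h).ge
  · exact (grade_pos hW ⟨hr, h⟩).le

/-- The commutator formula does not leave `Φ⁺ \ Φ_J`. -/
theorem commTerms_radJ (hW : GoodWeyl D) {r s : Root D} (hr : r ∈ radJ D J)
    (hs : half D ≤ (s : ℕ)) {c : ℕ × ℤ × ℕ × ℕ} (hc : c ∈ D.commTerms r s) :
    ∃ h : c.1 < D.nroots, (⟨c.1, h⟩ : Root D) ∈ radJ D J ∧ (r : ℕ) < c.1 := by
  obtain ⟨h, i, j, hi, -, e⟩ :=
    Good.commTerms_cartan (b := false) hW.toGoodComm hr.1 hs hc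
  obtain ⟨_, h1, -⟩ := Good.commTerms_key (b := false) hW.toGoodComm hr.1 hs hc
  simp only [key, Bool.false_eq_true, if_false] at h1
  refine ⟨h, ⟨by have := hr.1; simp only [key]; omega, fun hJ => ?_⟩, h1⟩
  have := grade_linear hW J (a := Sum.inr r) (b := Sum.inr s) (c := Sum.inr ⟨c.1, h⟩)
    (x := i) (y := j) (fun l => by simpa using e l)
  rw [grade_eq_zero hW hJ] at this
  nlinarith [grade_pos hW hr, grade_nonneg (J := J) hW hs]

variable {F : Type*} [Field F]

/-! ### The radical, the Levi subgroup and the parabolic -/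

theorem X_conj_rad (hW : GoodWeyl D) {a : Root D} (ha : half D ≤ (a : ℕ)) (v : F)
    {g : GL D.Idx F} (hg : g ∈ rootGen hW.good F (radJ D J)) :
    X hW.good a v * g * (X hW.good a v)⁻¹ ∈ rootGen hW.good F (radJ D J) := by
  suffices H : ∀ k m, D.nroots ≤ m + k → ∀ {g : GL D.Idx F},
      g ∈ rootGen hW.good F (radJ D J ∩ {r | m ≤ (r : ℕ)}) →
      X hW.good a v * g * (X hW.good a v)⁻¹ ∈
        rootGen hW.good F (radJ D J ∩ {r | m ≤ (r : ℕ)}) by
    refine rootGen_mono hW.good (fun r hr => hr.1) (H D.nroots 0 (by omega) ?_)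
    exact rootGen_mono hW.good (fun r hr => show r ∈ radJ D J ∧ 0 ≤ (r : ℕ) from ⟨hr, Nat.zero_le _⟩) hg
  intro k
  induction k with
  | zero =>
    intro m hm g hg
    have : g ∈ (⊥ : Subgroup (GL D.Idx F)) :=
      rootGen_le hW.good (fun r hr t => absurd (Nat.le_trans hm hr.2) (by simpa using r.isLt)) hg
    rw [Subgroup.mem_bot] at this
    simp [this]
  | succ k ih =>
    intro m hm g hg
    refine (rootGen_le hW.good (K := (rootGen hW.good F (radJ D J ∩ {r | m ≤ (r : ℕ)})).comap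
      (MulAut.conj (X hW.good a v)).toMonoidHom) fun c hc w => ?_) hg
    show X hW.good a v * X hW.good c w * (X hW.good a v)⁻¹ ∈
      rootGen hW.good F (radJ D J ∩ {r | m ≤ (r : ℕ)})
    rcases eq_or_ne a c with rfl | hac
    · rw [X_mul, X_inv, X_mul, show v + w + -v = w by ring]
      exact X_mem_rootGen _ hc _
    have hC : GoodComm D := hW.toGoodComm
    rw [X_comm hC c a hac (hW.good.rev_ne_of_key (b := false) hc.1.1 ha) w v,
      show ∀ p q W : GL D.Idx F, p * q * W * q⁻¹ = p * (q * W * q⁻¹) from fun p q W => by group]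
    refine mul_mem (X_mem_rootGen _ hc _) (rootGen_mono hW.good (fun r hr => show r ∈ radJ D J ∧ m ≤ (r : ℕ) from ⟨hr.1, by
      have : m + 1 ≤ (r : ℕ) := hr.2; omega⟩) (ih (m + 1) (by omega) ?_))
    refine Subgroup.list_prod_mem _ fun x hx => ?_
    simp only [List.map_map, List.mem_map] at hx
    obtain ⟨e, he, rfl⟩ := hx
    obtain ⟨h, h1, h2⟩ := commTerms_radJ hW hc.1 ha he
    simp only [Function.comp_apply, dif_pos h]
    exact X_mem_rootGen _ (S := radJ D J ∩ {r | m + 1 ≤ (r : ℕ)}) ⟨h1, by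
      have := hc.2; simp only [Set.mem_setOf_eq] at this ⊢; omega⟩ _

/-- The parabolic subgroup `⟨B, n_j : j ∈ J⟩`. -/
def pJ (hW : GoodWeyl D) (F : Type*) [Field F] (J : Set (Fin D.rank)) : Subgroup (GL D.Idx F) :=
  D.borelSubgroup F ⊔ Subgroup.closure (nR hW '' J)

/-- The Levi subgroup `⟨H, X_r : r ∈ Φ_J⟩`. -/
def lJ (hW : GoodWeyl D) (F : Type*) [Field F] (J : Set (Fin D.rank)) : Subgroup (GL D.Idx F) :=
  D.diagonalSubgroup F ⊔ rootGen hW.good F (rootJ D J)

theorem parabolicSubgroup_eq_pJ (hW : GoodWeyl D) (J : Set ℕ) :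
    D.parabolicSubgroup F J = pJ hW F {i : Fin D.rank | (i : ℕ) ∈ J} := by
  rw [ChevalleyDatum.parabolicSubgroup, pJ]
  congr 2
  ext g
  constructor
  · rintro ⟨j, hj, hlt, e⟩
    exact ⟨⟨j, hlt⟩, hj, Units.ext ((coe_nR hW ⟨j, hlt⟩).trans e.symm)⟩
  · rintro ⟨j, hj, rfl⟩
    exact ⟨j, hj, j.isLt, coe_nR hW j⟩

theorem inRootSub_iff (J : Set ℕ) (r : Root D) :
    D.InRootSub J r ↔ r ∈ rootJ D {i : Fin D.rank | (i : ℕ) ∈ J} :=
  ⟨fun h i hi => h.2 i i.isLt hi, fun h => ⟨r.isLt, fun i hi hiJ => h ⟨i, hi⟩ hiJ⟩⟩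

theorem closure_x_eq_rootGen (hD : Good D) {P : ℕ → Prop} (hP : ∀ r, P r → r < D.nroots) :
    Subgroup.closure {g : GL D.Idx F | ∃ (r : ℕ) (t : F), P r ∧
      (g : Matrix D.Idx D.Idx F) = D.x F r t} = rootGen hD F {r : Root D | P r} := by
  rw [rootGen]
  congr 1
  ext g
  constructor
  · rintro ⟨r, t, hr, e⟩
    exact ⟨⟨r, hP r hr⟩, hr, t, ((coe_eq_x_iff hD (hP r hr)).1 e).symm⟩
  · rintro ⟨r, hr, t, rfl⟩
    exact ⟨r, t, hr, by rw [coe_X, x_eq_xR hD F]⟩

theorem unipotentRadical_eq (hW : GoodWeyl D) (J : Set ℕ) :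
    D.unipotentRadical F J = rootGen hW.good F (radJ D {i : Fin D.rank | (i : ℕ) ∈ J}) := by
  have e : radJ D {i : Fin D.rank | (i : ℕ) ∈ J} =
      {r : Root D | D.IsPosRoot r ∧ ¬ D.InRootSub J r} := by
    ext r
    simp only [radJ, Set.mem_setOf_eq, hW.good.isPosRoot_iff, inRootSub_iff, r.isLt, and_true]
  rw [e, ← closure_x_eq_rootGen hW.good (P := fun r => D.IsPosRoot r ∧ ¬ D.InRootSub J r)
    fun r h => h.1.1, ChevalleyDatum.unipotentRadical]
  simp only [and_assoc]

theorem leviSubgroup_eq (hW : GoodWeyl D) (J : Set ℕ) :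
    D.leviSubgroup F J = lJ hW F {i : Fin D.rank | (i : ℕ) ∈ J} := by
  have e : rootJ D {i : Fin D.rank | (i : ℕ) ∈ J} = {r : Root D | D.InRootSub J r} := by
    ext r
    exact (inRootSub_iff J r).symm
  rw [lJ, e, ← closure_x_eq_rootGen hW.good (P := fun r => D.InRootSub J r)
    fun r h => h.1, ChevalleyDatum.leviSubgroup]

theorem X_rootJ_mem_pJ (hW : GoodWeyl D) {r : Root D} (hr : r ∈ rootJ D J) (t : F) :
    X hW.good r t ∈ pJ hW F J := by
  have hn : ∀ j ∈ J, (nR hW j : GL D.Idx F) ∈ pJ hW F J := fun j hj =>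
    Subgroup.mem_sup_right (Subgroup.subset_closure ⟨j, hj, rfl⟩)
  have H : ∀ s : Root D, half D ≤ s → s ∈ rootJ D J →
      ∀ t : F, X hW.good s t ∈ pJ hW F J ∧ X hW.good s.rev t ∈ pJ hW F J := by
    intro s hs hsJ
    have hconj : ∀ j ∈ J, ∀ (u : Root D), (∀ t : F, X hW.good u t ∈ pJ hW F J) →
        ∀ t : F, X hW.good (wPerm hW j u) t ∈ pJ hW F J := by
      intro j hj u hu t
      have := mul_mem (mul_mem (hn j hj) (hu ((eta D j u : F) * t))) (inv_mem (hn j hj))
      rwa [nR_conj, ← mul_assoc, ← Int.cast_mul, hW.eta_sq, Int.cast_one, one_mul] at this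
    refine rootJ_induction hW (P := fun s => ∀ t : F, X hW.good s t ∈ pJ hW F J ∧
      X hW.good s.rev t ∈ pJ hW F J) (fun j hj t => ?_) (fun j hj u hu t => ?_) hs hsJ
    · have hx : ∀ t : F, X hW.good (pRoot hW j) t ∈ pJ hW F J := fun t =>
        Subgroup.mem_sup_left (X_pRoot_mem_borel hW j t)
      exact ⟨hx t, hW.wPerm_pRoot j ▸ hconj j hj _ hx t⟩
    · exact ⟨hconj j hj u (fun t => (hu t).1) t,
        hW.wPerm_rev j u ▸ hconj j hj u.rev (fun t => (hu t).2) t⟩
  by_cases hp : half D ≤ r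
  · exact (H r hp hr t).1
  · have := (H r.rev (by have := hW.good.two_half; rw [Fin.val_rev]; omega)
      (rev_mem_rootJ hW hr) t).2
    rwa [Fin.rev_rev] at this

theorem nR_mem_lJ (hW : GoodWeyl D) {j : Fin D.rank} (hj : j ∈ J) :
    (nR hW j : GL D.Idx F) ∈ lJ hW F J :=
  have h := pRoot_mem_rootJ hW hj
  Subgroup.mem_sup_right (mul_mem (mul_mem (X_mem_rootGen _ h _)
    (X_mem_rootGen _ (rev_mem_rootJ hW h) _)) (X_mem_rootGen _ h _))

theorem pJ_eq (hW : GoodWeyl D) :
    pJ hW F J = D.diagonalSubgroup F ⊔ rootGen hW.good F (posSet D ∪ rootJ D J) := by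
  refine le_antisymm (sup_le ?_ ((Subgroup.closure_le _).2 ?_))
    (sup_le ((diag_le_borel D).trans le_sup_left) (rootGen_le _ ?_))
  · refine sup_le ?_ le_sup_left
    rw [posUnipotent_eq_rootGen hW.good]
    exact (rootGen_mono hW.good Set.subset_union_left).trans le_sup_right
  · rintro _ ⟨j, hj, rfl⟩
    exact sup_le_sup_left (rootGen_mono hW.good Set.subset_union_right) _ (nR_mem_lJ hW hj)
  · rintro r (hr | hr) t
    · exact Subgroup.mem_sup_left (pos_le_borel D (X_mem_pos _ hr t))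
    · exact X_rootJ_mem_pJ hW hr t

theorem pJ_le_normalizer (hW : GoodWeyl D) :
    pJ hW F J ≤ Subgroup.normalizer (rootGen hW.good F (radJ D J) : Set (GL D.Idx F)) := by
  refine sup_le (sup_le ?_ (diag_le_normalizer_rootGen hW _)) ((Subgroup.closure_le _).2 ?_)
  · rw [posUnipotent_eq_rootGen hW.good]
    refine rootGen_le _ fun a ha v => Subgroup.mem_normalizer_iff.2 fun g =>
      ⟨fun hg => X_conj_rad hW ha v hg, fun hg => ?_⟩
    have := X_conj_rad hW ha (-v) hg
    rwa [← X_inv, show ∀ q h : GL D.Idx F, q⁻¹ * (q * h * q⁻¹) * q⁻¹⁻¹ = h from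
      fun q h => by group] at this
  · rintro _ ⟨j, hj, rfl⟩
    refine Subgroup.mem_normalizer_iff.2 fun g =>
      ⟨fun hg => (monBy_nR hW j).conj_rootGen (fun _ hr => wPerm_mem_radJ hW hj hr) hg,
        fun hg => ?_⟩
    have := (monBy_nR (F := F) hW j).inv.conj_rootGen (T := radJ D J)
      (fun r hr => wPerm_mem_radJ hW hj hr) hg
    rwa [show ∀ q h : GL D.Idx F, q⁻¹ * (q * h * q⁻¹) * q⁻¹⁻¹ = h from
      fun q h => by group] at this

theorem lJ_le_pJ (hW : GoodWeyl D) : lJ hW F J ≤ pJ hW F J :=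
  sup_le ((diag_le_borel D).trans le_sup_left) (rootGen_le _ fun _ hr t => X_rootJ_mem_pJ hW hr t)

theorem rad_le_pJ (hW : GoodWeyl D) : rootGen hW.good F (radJ D J) ≤ pJ hW F J :=
  rootGen_le _ fun _ hr t => Subgroup.mem_sup_left (pos_le_borel D (X_mem_pos _ hr.1 t))

/-- `P_J = U_J L_J`. -/
theorem rad_sup_lJ (hW : GoodWeyl D) :
    rootGen hW.good F (radJ D J) ⊔ lJ hW F J = pJ hW F J := by
  refine le_antisymm (sup_le (rad_le_pJ hW) (lJ_le_pJ hW)) ?_
  rw [pJ_eq hW]
  refine sup_le (le_sup_left.trans le_sup_right) (rootGen_le _ ?_)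
  rintro r hr t
  by_cases h : r ∈ rootJ D J
  · exact Subgroup.mem_sup_right (Subgroup.mem_sup_right (X_mem_rootGen _ h t))
  · rcases hr with hr | hr
    · exact Subgroup.mem_sup_left
        (X_mem_rootGen _ (S := radJ D J) (show half D ≤ (r : ℕ) ∧ r ∉ rootJ D J from ⟨hr, h⟩) t)
    · exact absurd hr h

/-! ### Separation by the grading -/

theorem xR_grade (hW : GoodWeyl D) (J : Set (Fin D.rank)) (r : Root D) (t : F) {a b : D.Idx}
    (h : (xR D F r t) a b ≠ 0) :
    a = b ∨ ∃ k : ℕ, 0 < k ∧ grade hW J a = k * grade hW J (Sum.inr r) + grade hW J b := by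
  obtain ⟨k, -, hk⟩ : ∃ k ∈ Finset.range 4, E D r k a b ≠ 0 := by
    by_contra hc
    push Not at hc
    apply h
    simp only [xR, Matrix.sum_apply, Matrix.smul_apply, Matrix.map_apply, smul_eq_mul]
    exact Finset.sum_eq_zero fun k hk => by simp [hc k hk]
  rcases Nat.eq_zero_or_pos k with rfl | hk0
  · left
    by_contra hab
    exact hk (by simp [hab])
  · refine Or.inr ⟨k, hk0, ?_⟩
    have := grade_linear hW J (a := Sum.inr r) (b := b) (c := a) (x := k) (y := 1) fun l => by
      rw [hW.good.wt_of_E_ne_zero r k l hk, wt_inr]; ring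
    simpa using this

theorem lJ_entry (hW : GoodWeyl D) {g : GL D.Idx F} (hg : g ∈ lJ hW F J) (a b : D.Idx) :
    ((g : Matrix D.Idx D.Idx F) a b ≠ 0 → grade hW J a = grade hW J b) := by
  suffices H : ∀ a b, ((g : Matrix D.Idx D.Idx F) a b ≠ 0 → grade hW J a = grade hW J b) ∧
      (((g⁻¹ : GL D.Idx F) : Matrix D.Idx D.Idx F) a b ≠ 0 → grade hW J a = grade hW J b) from
    (H a b).1
  clear a b
  have hdiag : ∀ k ∈ D.diagonalSubgroup F, ∀ a b,
      ((k : GL D.Idx F) : Matrix D.Idx D.Idx F) a b ≠ 0 → grade hW J a = grade hW J b := by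
    intro k hk a b hne
    rw [diagonalSubgroup_eq_range hW] at hk
    obtain ⟨c, rfl⟩ := hk
    by_contra hab
    exact hne (Matrix.diagonal_apply_ne _ fun e => hab (by rw [e]))
  have hX : ∀ r ∈ rootJ D J, ∀ (t : F) a b,
      (xR D F r t) a b ≠ 0 → grade hW J a = grade hW J b := by
    intro r hr t a b hne
    rcases xR_grade hW J r t hne with rfl | ⟨k, -, e⟩
    · rfl
    · rw [e, grade_eq_zero hW hr, mul_zero, zero_add]
  rw [lJ, rootGen, ← Subgroup.closure_eq (D.diagonalSubgroup F), ← Subgroup.closure_union] at hg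
  induction hg using Subgroup.closure_induction with
  | mem x hx =>
    rcases hx with hx | ⟨r, hr, t, rfl⟩
    · exact fun a b => ⟨hdiag x hx a b, hdiag _ (inv_mem hx) a b⟩
    · exact fun a b => ⟨hX r hr t a b, by rw [X_inv]; exact hX r hr (-t) a b⟩
  | one =>
    intro a b
    simp only [inv_one, Units.val_one, and_self]
    intro hne
    by_contra hab
    exact hne (Matrix.one_apply_ne fun e => hab (by rw [e]))
  | mul x y _ _ hx hy =>
    have hmul : ∀ (M N : Matrix D.Idx D.Idx F), (∀ a b, M a b ≠ 0 → grade hW J a = grade hW J b) →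
        (∀ a b, N a b ≠ 0 → grade hW J a = grade hW J b) →
        ∀ a b, (M * N) a b ≠ 0 → grade hW J a = grade hW J b := by
      intro M N hM hN a b hne
      rw [Matrix.mul_apply] at hne
      obtain ⟨c, -, hc⟩ := Finset.exists_ne_zero_of_sum_ne_zero hne
      exact (hM a c (left_ne_zero_of_mul hc)).trans (hN c b (right_ne_zero_of_mul hc))
    intro a b
    refine ⟨?_, ?_⟩
    · rw [Units.val_mul]
      exact hmul _ _ (fun a b => (hx a b).1) (fun a b => (hy a b).1) a b
    · rw [mul_inv_rev, Units.val_mul]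
      exact hmul _ _ (fun a b => (hy a b).2) (fun a b => (hx a b).2) a b
  | inv x _ hx =>
    intro a b
    rw [inv_inv]
    exact (hx a b).symm

theorem rad_entry (hW : GoodWeyl D) {g : GL D.Idx F} (hg : g ∈ rootGen hW.good F (radJ D J)) :
    ∀ a b, ((g : Matrix D.Idx D.Idx F) a b ≠ (1 : Matrix D.Idx D.Idx F) a b →
      grade hW J b < grade hW J a) := by
  suffices H : ∀ a b, ((g : Matrix D.Idx D.Idx F) a b ≠ (1 : Matrix D.Idx D.Idx F) a b →
        grade hW J b < grade hW J a) ∧
      (((g⁻¹ : GL D.Idx F) : Matrix D.Idx D.Idx F) a b ≠ (1 : Matrix D.Idx D.Idx F) a b →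
        grade hW J b < grade hW J a) from fun a b => (H a b).1
  have hmul : ∀ (M N : Matrix D.Idx D.Idx F),
      (∀ a b, M a b ≠ (1 : Matrix D.Idx D.Idx F) a b → grade hW J b < grade hW J a) →
      (∀ a b, N a b ≠ (1 : Matrix D.Idx D.Idx F) a b → grade hW J b < grade hW J a) →
      ∀ a b, (M * N) a b ≠ (1 : Matrix D.Idx D.Idx F) a b → grade hW J b < grade hW J a := by
    intro M N hM hN a b hne
    have e : M * N - 1 = (M - 1) * (N - 1) + (M - 1) + (N - 1) := by noncomm_ring
    have hne' : ((M - 1) * (N - 1) + (M - 1) + (N - 1)) a b ≠ 0 := by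
      rw [← e, Matrix.sub_apply, sub_ne_zero]; exact hne
    by_contra hlt
    apply hne'
    have z1 : (M - 1) a b = 0 := by
      rw [Matrix.sub_apply, sub_eq_zero]; by_contra h; exact hlt (hM a b h)
    have z2 : (N - 1) a b = 0 := by
      rw [Matrix.sub_apply, sub_eq_zero]; by_contra h; exact hlt (hN a b h)
    rw [Matrix.add_apply, Matrix.add_apply, z1, z2, Matrix.mul_apply, add_zero, add_zero]
    refine Finset.sum_eq_zero fun c _ => ?_
    by_contra hc
    have p1 : grade hW J c < grade hW J a := by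
      refine hM a c fun h => left_ne_zero_of_mul hc ?_
      rw [Matrix.sub_apply, h, sub_self]
    have p2 : grade hW J b < grade hW J c := by
      refine hN c b fun h => right_ne_zero_of_mul hc ?_
      rw [Matrix.sub_apply, h, sub_self]
    exact hlt (p2.trans p1)
  induction hg using Subgroup.closure_induction with
  | mem x hx =>
    obtain ⟨r, hr, t, rfl⟩ := hx
    have hX : ∀ (t : F) a b, (xR D F r t) a b ≠ (1 : Matrix D.Idx D.Idx F) a b →
        grade hW J b < grade hW J a := by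
      intro t a b hne
      rcases eq_or_ne a b with rfl | hab
      · exfalso
        apply hne
        rw [Matrix.one_apply_eq]
        exact (hW.good.isLower_xR (b := false) (show half D ≤ key false r from hr.1) t).1 a
      · rw [Matrix.one_apply_ne hab] at hne
        rcases xR_grade hW J r t hne with e | ⟨k, hk, e⟩
        · exact absurd e hab
        · have h0 := grade_pos hW hr
          have h1 : 0 < (k : ℤ) * grade hW J (Sum.inr r) := mul_pos (by exact_mod_cast hk) h0
          omega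
    intro a b
    rw [X_inv]
    exact ⟨hX t a b, hX (-t) a b⟩
  | one => intro a b; simp
  | mul x y _ _ hx hy =>
    intro a b
    refine ⟨?_, ?_⟩
    · rw [Units.val_mul]
      exact hmul _ _ (fun a b => (hx a b).1) (fun a b => (hy a b).1) a b
    · rw [mul_inv_rev, Units.val_mul]
      exact hmul _ _ (fun a b => (hy a b).2) (fun a b => (hx a b).2) a b
  | inv x _ hx =>
    intro a b
    rw [inv_inv]
    exact (hx a b).symm

theorem rad_inf_lJ (hW : GoodWeyl D) : rootGen hW.good F (radJ D J) ⊓ lJ hW F J = ⊥ := by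
  rw [eq_bot_iff]
  rintro g ⟨hu, hl⟩
  rw [Subgroup.mem_bot]
  refine Units.ext (Matrix.ext fun a b => ?_)
  by_contra hne
  rw [Units.val_one] at hne
  have h1 := rad_entry hW hu a b hne
  by_cases hz : (g : Matrix D.Idx D.Idx F) a b = 0
  · rw [hz] at hne
    rcases eq_or_ne a b with rfl | hab
    · exact lt_irrefl _ h1
    · exact hne (Matrix.one_apply_ne hab).symm
  · have := lJ_entry hW hl a b hz
    omega

theorem mem_radJ_of_X_mem (hW : GoodWeyl D) {r : Root D} {t : F} (ht : t ≠ 0)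
    (h : X hW.good r t ∈ rootGen hW.good F (radJ D J)) : r ∈ radJ D J := by
  have hp : half D ≤ key false r := by
    refine key_of_X_mem hW.toGoodUni ht (m := half D) ?_
    rw [← posUnipotent_eq hW.good, posUnipotent_eq_rootGen hW.good]
    exact rootGen_mono hW.good (fun _ hs => hs.1) h
  refine ⟨hp, fun hJ => ?_⟩
  have h2 : X hW.good r t ∈ rootGen hW.good F (radJ D J) ⊓ lJ hW F J :=
    Subgroup.mem_inf.2 ⟨h, Subgroup.mem_sup_right (X_mem_rootGen _ hJ t)⟩
  rw [rad_inf_lJ hW, Subgroup.mem_bot, ← X_zero hW.good r] at h2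
  exact ht (X_injective hW.good r h2)

/-! ### The normaliser of `U_J` -/

variable {C : Weyl.Cert D.rank} {M : CoxeterMatrix (Fin D.rank)} {R : Weyl.RootTable}

theorem nW_mem_pJ (hW : GoodWeyl D) (h : Weyl.RootGood C M R) (w : M.Group)
    (hw : ∀ r ∈ radJ D J, h.rootPerm w r ∈ radJ D J) : nW hW h F w ∈ pJ hW F J := by
  induction hn : M.toCoxeterSystem.length w using Nat.strong_induction_on generalizing w with
  | _ n ih =>
    by_cases hw1 : w = 1
    · subst hw1
      have h1 := nW_mem_cell (F := F) hW h 1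
      rw [cell_one hW h] at h1
      exact Subgroup.mem_sup_left h1
    obtain ⟨i, hi⟩ := M.toCoxeterSystem.exists_rightDescent_of_ne_one hw1
    rw [CoxeterSystem.IsRightDescent, CoxeterMatrix.toCoxeterSystem_simple] at hi
    have hneg := (h.length_mul_simple_lt_iff w i).1 hi
    rw [posIdx_iff hW.good h, simpleRoot_eq hW h] at hneg
    have hiJ : i ∈ J := by
      by_contra hc
      refine hneg (hw _ ⟨pRoot_pos hW i, fun hJ => ?_⟩).1
      have := hJ i hc
      rw [co_pRoot hW, if_pos rfl] at this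
      exact one_ne_zero this
    obtain ⟨v, rfl⟩ : ∃ v, w = v * M.simple i := ⟨w * M.simple i, by
      rw [mul_assoc, show M.simple i * M.simple i = 1 from
        M.toCoxeterSystem.simple_mul_simple_self i, mul_one]⟩
    rw [mul_assoc, show M.simple i * M.simple i = 1 from
      M.toCoxeterSystem.simple_mul_simple_self i, mul_one] at hi
    have hv : ∀ r ∈ radJ D J, h.rootPerm v r ∈ radJ D J := by
      intro r hr
      have := hw _ (wPerm_mem_radJ hW hiJ hr)
      rwa [map_mul, Equiv.Perm.mul_apply, ← wPerm_eq_rootPerm hW h, hW.wPerm_wPerm] at this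
    have hmem := ih _ (by omega) v hv rfl
    obtain ⟨k, hk, e⟩ := exists_eq_nW_mul (F := F) hW h (⟨nW hW h F v, nW_mem hW h v⟩ *
      (⟨nR hW i, nR_mem_monomial hW i⟩ : ↥(D.monomialSubgroup F)))
    rw [map_mul, weylHom_nW, weylHom_nR, Subgroup.coe_mul] at e
    change nW hW h F v * nR hW i = _ at e
    rw [show nW hW h F (v * M.simple i) = nW hW h F v * nR hW i * k⁻¹ by
      rw [e, mul_inv_cancel_right]]
    exact mul_mem (mul_mem hmem (Subgroup.mem_sup_right (Subgroup.subset_closure ⟨i, hiJ, rfl⟩)))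
      (inv_mem (Subgroup.mem_sup_left (diag_le_borel D hk)))

theorem pJ_le_group (hW : GoodWeyl D) : pJ hW F J ≤ D.group F :=
  sup_le (borel_le_group hW) ((Subgroup.closure_le _).2 (by
    rintro _ ⟨j, -, rfl⟩; exact nR_mem_group hW j))

theorem normalizer_rad_inf_group (hW : GoodWeyl D) (h : Weyl.RootGood C M R) :
    Subgroup.normalizer (rootGen hW.good F (radJ D J) : Set (GL D.Idx F)) ⊓ D.group F =
      pJ hW F J := by
  refine le_antisymm ?_ (le_inf (pJ_le_normalizer hW) (pJ_le_group hW))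
  rintro g ⟨hgN, hg⟩
  obtain ⟨w, b, hb, b', hb', rfl⟩ := exists_mem_cell hW h hg
  have hN : ∀ x ∈ D.borelSubgroup F,
      x ∈ Subgroup.normalizer (rootGen hW.good F (radJ D J) : Set (GL D.Idx F)) :=
    fun x hx => pJ_le_normalizer hW (Subgroup.mem_sup_left hx)
  have hgN' : b * nW hW h F w * b' ∈
      Subgroup.normalizer (rootGen hW.good F (radJ D J) : Set (GL D.Idx F)) := hgN
  have hn : nW hW h F w ∈
      Subgroup.normalizer (rootGen hW.good F (radJ D J) : Set (GL D.Idx F)) := by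
    have := mul_mem (mul_mem (inv_mem (hN b hb)) hgN') (inv_mem (hN b' hb'))
    rwa [show b⁻¹ * (b * nW hW h F w * b') * b'⁻¹ = nW hW h F w by group] at this
  refine mul_mem (mul_mem (Subgroup.mem_sup_left hb) (nW_mem_pJ hW h w fun r hr => ?_))
    (Subgroup.mem_sup_left hb')
  obtain ⟨c, hc⟩ := (monBy_nW (F := F) hW h w).conj_X r
  have := (Subgroup.mem_normalizer_iff.1 hn _).1 (X_mem_rootGen hW.good hr (1 : F))
  rw [hc] at this
  exact mem_radJ_of_X_mem hW (by simp) this

end CfsgLib.Chevalley
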