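import Cfsg.Agent.Chevalley.Basic
import Mathlib.Data.Int.Order.Basic
import Mathlib.Data.Nat.Choose.Basic
import Mathlib.Data.Matrix.Diagonal
import Mathlib.Tactic.Module
/-!
Weights, heights, fundamental roots and the multiplication rule of the divided powers.
-/

set_option autoImplicit false

namespace CfsgLib.Chevalley

open Cfsg.Lie

variable {D : ChevalleyDatum}

theorem cancel_zsmul {ι κ : Type*} {c : ℤ} (hc : c ≠ 0) {M N : Matrix ι κ ℤ}
    (h : c • M = c • N) : M = N := by
  ext a b
  have := congrFun (congrFun h a) b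
  simp only [Matrix.smul_apply, smul_eq_mul] at this
  exact mul_left_cancel₀ hc this

/-- The weight with the `i`-th fundamental coroot: `0` on the Cartan subalgebra, the Cartan integer
on a root vector. -/
def wt (D : ChevalleyDatum) (i : Fin D.rank) : D.Idx → ℤ :=
  Sum.elim (fun _ => 0) fun s => D.cartan i s

/-- Twice the height. -/
def ht (D : ChevalleyDatum) (a : D.Idx) : ℤ :=
  ∑ i : Fin D.rank, (rhoVec D).getD i 0 * wt D i a

@[simp] theorem wt_inl (i j : Fin D.rank) : wt D i (Sum.inl j) = 0 := rfl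
@[simp] theorem wt_inr (i : Fin D.rank) (s : Root D) : wt D i (Sum.inr s) = D.cartan i s := rfl

@[simp] theorem ht_inl (j : Fin D.rank) : ht D (Sum.inl j) = 0 := by simp [ht]

theorem ht_inr (s : Root D) :
    ht D (Sum.inr s) = ∑ i : Fin D.rank, (rhoVec D).getD i 0 * D.cartan i s := rfl

/-- The root vector as a coordinate vector. -/
def eVec (D : ChevalleyDatum) (R : Type*) [Zero R] [One R] (s : Root D) : D.Idx → R :=
  Pi.single (Sum.inr s) 1

namespace Good

theorem codeWt_eq (hD : Good D) (a : D.Idx) :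
    codeWt D (wtTrie D) (finSumFinEquiv a : ℕ) =
      (List.range D.rank).map fun i =>
        Sum.elim (fun _ => (0 : ℤ)) (fun s : Root D => D.cartan i s) a := by
  rcases a with j | s
  · rw [codeWt, finSumFinEquiv_apply_left]
    simp only [Bool.cond_decide, Fin.val_castAdd, if_pos j.isLt, Sum.elim_inl, List.map_const', List.length_range]
  · rw [codeWt, finSumFinEquiv_apply_right]
    simp [Bool.cond_decide, hD.wtTrie_get s.isLt]

theorem wt_of_E_ne_zero (hD : Good D) (r : Root D) (k : ℕ) (i : Fin D.rank) {a b : D.Idx}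
    (h : E D r k a b ≠ 0) : wt D i a = wt D i b + k * D.cartan i r := by
  rcases Nat.lt_or_ge k 4 with hk4 | hk4
  swap; · simp [E_high r hk4] at h
  rcases Nat.eq_zero_or_pos k with rfl | hk
  · obtain rfl : a = b := by
      by_contra hab
      exact h (by simp [hab])
    simp
  rw [E_apply r (by omega)] at h
  obtain ⟨e, he, hea, heb⟩ : ∃ e ∈ ents D r k,
      e.1 = (finSumFinEquiv a : ℕ) ∧ e.2.1 = (finSumFinEquiv b : ℕ) := by
    by_contra hne
    push Not at hne
    apply h
    rw [entVal, List.filter_eq_nil_iff.2]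
    · rfl
    · intro e he
      simpa using hne e he
  have hw := hD.weight
  simp only [chkWeight, chkWeightAt, List.all_eq_true, List.mem_range, Bool.and_eq_true, decide_eq_true_eq,
    beq_iff_eq] at hw
  obtain ⟨-, hw⟩ := hw r r.isLt k (by
    have : k = 1 ∨ k = 2 ∨ k = 3 := by omega
    simpa using this) e he
  rw [hea, heb, hD.codeWt_eq, hD.codeWt_eq, hD.wtTrie_get r.isLt] at hw
  have := congrArg (fun L : List ℤ => L.getD i 0) hw
  simp [List.getD_eq_getElem?_getD, List.getElem?_zipWith', List.getElem?_map] at this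
  rcases a with a | a <;> rcases b with b | b <;> simp_all [wt]

theorem ht_of_E_ne_zero (hD : Good D) (r : Root D) (k : ℕ) {a b : D.Idx}
    (h : E D r k a b ≠ 0) : ht D a = ht D b + k * ht D (Sum.inr r) := by
  simp only [ht, Finset.mul_sum, ← Finset.sum_add_distrib, wt_inr]
  refine Finset.sum_congr rfl fun i _ => ?_
  rw [hD.wt_of_E_ne_zero r k i h]; ring

theorem cartan_rev (hD : Good D) (i : Fin D.rank) (r : Root D) :
    D.cartan i r.rev = -D.cartan i r := by
  have : (r.rev : ℕ) = opp D r := by rw [opp, Fin.val_rev]; omega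
  rw [this, hD.cartan_opp i.isLt r.isLt]

theorem ht_rev (hD : Good D) (r : Root D) : ht D (Sum.inr r.rev) = -ht D (Sum.inr r) := by
  simp only [ht_inr, hD.cartan_rev, mul_neg, Finset.sum_neg_distrib]

theorem ht_eq_sum_zip (hD : Good D) (r : Root D) :
    ht D (Sum.inr r) =
      (List.zipWith (fun a b => a * b) (rhoVec D) ((wtTrie D).get r)).sum := by
  rw [hD.wtTrie_get r.isLt, ht_inr, rhoVec, List.zipWith_map, List.zipWith_self,
    ← List.sum_toFinset _ List.nodup_range, List.toFinset_range, ← Fin.sum_univ_eq_sum_range]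
  exact Finset.sum_congr rfl fun i _ => by simp [List.getD_eq_getElem?_getD]

theorem height_sign (hD : Good D) (r : Root D) :
    (half D ≤ r → 2 ≤ ht D (Sum.inr r)) ∧ ((r : ℕ) < half D → ht D (Sum.inr r) ≤ -2) ∧
      ((∃ i < D.rank, D.simple i = r) → ht D (Sum.inr r) = 2) := by
  have h := hD.height
  simp only [chkHeight, List.all_eq_true, List.mem_range, Bool.and_eq_true] at h
  obtain ⟨h1, h2⟩ := h r r.isLt
  rw [← hD.ht_eq_sum_zip r] at h1 h2
  refine ⟨fun hp => ?_, fun hn => ?_, fun ⟨i, hi, hir⟩ => ?_⟩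
  · simpa [hp] using h1
  · simpa [Nat.not_le.2 hn] using h1
  · rw [List.any_eq_true.2 ⟨i, List.mem_range.2 hi, by simp [hir]⟩] at h2
    simpa using h2

theorem pos_iff_ht (hD : Good D) (r : Root D) : half D ≤ r ↔ 0 < ht D (Sum.inr r) := by
  obtain ⟨h1, h2, -⟩ := hD.height_sign r
  constructor
  · intro h; have := h1 h; omega
  · intro h; by_contra hn; have := h2 (by omega); omega

theorem ht_ne_zero (hD : Good D) (r : Root D) : ht D (Sum.inr r) ≠ 0 := by
  obtain ⟨h1, h2, -⟩ := hD.height_sign r
  rcases Nat.lt_or_ge (r : ℕ) (half D) with h | h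
  · have := h2 h; omega
  · have := h1 h; omega

theorem rev_ne (hD : Good D) (r : Root D) : r.rev ≠ r := by
  intro h
  have := hD.ht_rev r
  rw [h] at this
  exact hD.ht_ne_zero r (by omega)

/-! ### Divided powers -/

theorem powers' (hD : Good D) (r : Root D) :
    E D r 1 * E D r 1 = (2 : ℤ) • E D r 2 ∧ E D r 1 * E D r 2 = (3 : ℤ) • E D r 3 ∧
      E D r 1 * E D r 3 = 0 := by
  have h := hD.powers
  simp only [chkPowers, chkPowersAt, List.all_eq_true, List.mem_range, Bool.and_eq_true] at h
  obtain ⟨⟨⟨hb, h1⟩, h2⟩, h3⟩ := h r r.isLt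
  refine ⟨?_, ?_, ?_⟩ <;> simp only [E_pos r (show (1:ℕ) ≠ 0 by omega), E_pos r (show (2:ℕ) ≠ 0 by omega),
    E_pos r (show (3:ℕ) ≠ 0 by omega)] <;> rw [← SMat.toMat_mul hb]
  · rw [SMat.toMat_eq_of_eqB _ _ h1, SMat.toMat_smul]
  · rw [SMat.toMat_eq_of_eqB _ _ h2, SMat.toMat_smul]
  · exact SMat.toMat_eq_zero_of_isZero _ _ h3

theorem A_mul_E (hD : Good D) (r : Root D) (k : ℕ) :
    E D r 1 * E D r k = ((k + 1 : ℕ) : ℤ) • E D r (k + 1) := by
  obtain ⟨h1, h2, h3⟩ := hD.powers' r
  match k with
  | 0 => simp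
  | 1 => simpa using h1
  | 2 => simpa using h2
  | 3 => rw [h3, E_high r le_rfl, smul_zero]
  | k + 4 =>
    rw [E_high r (show 4 ≤ k + 4 by omega), E_high r (show 4 ≤ k + 4 + 1 by omega)]
    simp

theorem A_pow (hD : Good D) (r : Root D) (k : ℕ) :
    E D r 1 ^ k = (k.factorial : ℤ) • E D r k := by
  induction k with
  | zero => simp
  | succ k ih =>
    rw [pow_succ', ih, mul_smul_comm, hD.A_mul_E, smul_smul]
    congr 1
    rw [Nat.factorial_succ]; push_cast; ring

theorem E_mul_E (hD : Good D) (r : Root D) (i j : ℕ) :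
    E D r i * E D r j = ((i + j).choose i : ℤ) • E D r (i + j) := by
  apply cancel_zsmul (c := (i.factorial * j.factorial : ℤ))
    (by exact_mod_cast Nat.mul_ne_zero i.factorial_ne_zero j.factorial_ne_zero)
  rw [← smul_mul_smul_comm, ← hD.A_pow, ← hD.A_pow, ← pow_add, hD.A_pow, smul_smul]
  congr 1
  have := congrArg (Nat.cast : ℕ → ℤ) (Nat.add_choose_mul_factorial_mul_factorial i j)
  push_cast at this ⊢
  rw [Nat.choose_symm_add] at *
  linear_combination -this

theorem xR_add (hD : Good D) {R : Type*} [CommRing R] (r : Root D) (t u : R) :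
    xR D R r t * xR D R r u = xR D R r (t + u) := by
  have key : ∀ i j : ℕ, (E D r i).map (Int.cast : ℤ → R) * (E D r j).map (Int.cast : ℤ → R) =
      ((i + j).choose i : R) • (E D r (i + j)).map (Int.cast : ℤ → R) := by
    intro i j
    rw [show (Int.cast : ℤ → R) = (Int.castRingHom R : ℤ → R) from rfl, ← Matrix.map_mul,
      hD.E_mul_E]
    ext a b
    simp only [Matrix.map_apply, Matrix.smul_apply, smul_eq_mul, Int.coe_castRingHom, Int.cast_mul,
      Int.cast_natCast]
  simp only [xR, Finset.sum_range_succ, Finset.sum_range_zero, zero_add, add_mul, mul_add,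
    smul_mul_smul_comm, key]
  norm_num [Nat.choose, E_high r, E_zero]
  module

theorem xR_zero (D : ChevalleyDatum) {R : Type*} [CommRing R] (r : Root D) :
    xR D R r 0 = 1 := by
  simp [xR, Finset.sum_range_succ, Matrix.map_one]

/-! ### Fundamental roots of the two sides -/

theorem gen_lt (hD : Good D) (b : Bool) {i : ℕ} (hi : i < D.rank) : gen D b i < D.nroots := by
  have := hD.simple_lt hi
  cases b <;> simp [gen, opp] <;> omega

end Good

/-- The `i`-th fundamental root of a side. -/
def genR (hD : Good D) (b : Bool) (i : Fin D.rank) : Root D := ⟨gen D b i, hD.gen_lt b i.isLt⟩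

/-- A root lies on a side. -/
def OnSide (D : ChevalleyDatum) (b : Bool) (r : Root D) : Prop := onSide D b r = true

theorem onSide_false_iff {r : Root D} : OnSide D false r ↔ half D ≤ r := by
  simp [OnSide, onSide]

theorem onSide_true_iff {r : Root D} : OnSide D true r ↔ (r : ℕ) < half D := by
  simp [OnSide, onSide]

/-- The sign of a side. -/
def sgn (b : Bool) : ℤ := if b then -1 else 1

namespace Good

theorem genR_not (hD : Good D) (b : Bool) (i : Fin D.rank) :
    genR hD (!b) i = (genR hD b i).rev := by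
  have := hD.simple_lt i.isLt
  apply Fin.ext
  cases b <;> simp [genR, gen, opp, Fin.val_rev] <;> omega

theorem onSide_iff (hD : Good D) {b : Bool} {r : Root D} :
    OnSide D b r ↔ 0 < sgn b * ht D (Sum.inr r) := by
  cases b
  · rw [onSide_false_iff, hD.pos_iff_ht]; simp [sgn]
  · rw [onSide_true_iff]
    have := hD.pos_iff_ht r
    have := hD.ht_ne_zero r
    simp [sgn]; omega

theorem onSide_two_le (hD : Good D) {b : Bool} {r : Root D} (h : OnSide D b r) :
    2 ≤ sgn b * ht D (Sum.inr r) := by
  obtain ⟨h1, h2, -⟩ := hD.height_sign r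
  cases b
  · have := h1 (onSide_false_iff.1 h); simp [sgn]; omega
  · have := h2 (onSide_true_iff.1 h); simp [sgn]; omega

theorem ht_genR (hD : Good D) (b : Bool) (i : Fin D.rank) :
    sgn b * ht D (Sum.inr (genR hD b i)) = 2 := by
  have h : ht D (Sum.inr (genR hD false i)) = 2 :=
    (hD.height_sign _).2.2 ⟨i, i.isLt, rfl⟩
  cases b
  · simpa [sgn] using h
  · rw [show genR hD true i = (genR hD false i).rev from hD.genR_not false i, hD.ht_rev, h]
    rfl

theorem onSide_genR (hD : Good D) (b : Bool) (i : Fin D.rank) : OnSide D b (genR hD b i) := by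
  rw [hD.onSide_iff, hD.ht_genR]; norm_num

theorem coroot_rev (hD : Good D) (r : Root D) (j : ℕ) :
    (D.coroot.getD r.rev #[]).getD j 0 = -(D.coroot.getD r #[]).getD j 0 := by
  have : (r.rev : ℕ) = opp D r := by rw [opp, Fin.val_rev]; omega
  rw [this, hD.coroot_opp r.isLt]

theorem coroot_genR (hD : Good D) (b : Bool) (i j : Fin D.rank) :
    (D.coroot.getD (genR hD b i) #[]).getD j 0 = if i = j then sgn b else 0 := by
  have h := hD.coroot_simple i.isLt j.isLt
  cases b
  · simpa [genR, gen, sgn, Fin.ext_iff] using h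
  · rw [show genR hD true i = (genR hD false i).rev from hD.genR_not false i, hD.coroot_rev]
    rw [show ((genR hD false i : Root D) : ℕ) = D.simple i from rfl, h]
    simp only [sgn, Fin.ext_iff]
    split_ifs <;> simp

theorem genR_injective (hD : Good D) (b : Bool) : Function.Injective (genR hD b) := by
  intro i j h
  have := hD.coroot_genR b i i
  rw [h, hD.coroot_genR b j i] at this
  by_contra hne
  rw [if_neg (Ne.symm hne), if_pos rfl] at this
  cases b <;> simp [sgn] at this

theorem cartan_genR_self (hD : Good D) (b : Bool) (i : Fin D.rank) :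
    D.cartan i (genR hD b i) = 2 * sgn b := by
  have h := hD.cartan_simple_self i.isLt
  cases b
  · simpa [genR, gen, sgn] using h
  · rw [show genR hD true i = (genR hD false i).rev from hD.genR_not false i, hD.cartan_rev]
    rw [show ((genR hD false i : Root D) : ℕ) = D.simple i from rfl, h]
    rfl

end Good

end CfsgLib.Chevalley
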