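import Cfsg.Agent.Chevalley.Reflection
import Cfsg.Prelude.Def_ChevAutomorphisms
import Mathlib.Algebra.GroupWithZero.Units.Basic
import Mathlib.Algebra.Field.Basic
/-!
The elements `h_r(t)`: they are diagonal, with entries `t ^ ⟨s, r^∨⟩`; the diagonal subgroup.
-/

set_option autoImplicit false

namespace CfsgLib.Chevalley

open Cfsg.Lie
open scoped MatrixGroups

variable {D : ChevalleyDatum} {F : Type*} [Field F]

/-- The diagonal element with the given units on the root vectors, `1` on the Cartan subalgebra. -/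
def tor (χ : Root D → Fˣ) : GL D.Idx F where
  val := Matrix.diagonal (Sum.elim (fun _ => 1) fun s => (χ s : F))
  inv := Matrix.diagonal (Sum.elim (fun _ => 1) fun s => ((χ s)⁻¹ : Fˣ))
  val_inv := by
    rw [Matrix.diagonal_mul_diagonal, ← Matrix.diagonal_one]
    congr 1
    funext a
    rcases a with i | s <;> simp
  inv_val := by
    rw [Matrix.diagonal_mul_diagonal, ← Matrix.diagonal_one]
    congr 1
    funext a
    rcases a with i | s <;> simp

theorem tor_mul (χ ψ : Root D → Fˣ) : tor χ * tor ψ = tor (fun s => χ s * ψ s) := by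
  apply Units.ext
  show Matrix.diagonal _ * Matrix.diagonal _ = Matrix.diagonal _
  rw [Matrix.diagonal_mul_diagonal]
  congr 1
  funext a
  rcases a with i | s <;> simp

theorem tor_one : tor (fun _ : Root D => (1 : Fˣ)) = (1 : GL D.Idx F) := by
  apply Units.ext
  show Matrix.diagonal _ = (1 : Matrix D.Idx D.Idx F)
  rw [← Matrix.diagonal_one]
  congr 1
  funext a
  rcases a with i | s <;> simp

theorem tor_inv (χ : Root D → Fˣ) : (tor χ : GL D.Idx F)⁻¹ = tor fun s => (χ s)⁻¹ := Units.ext rfl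

theorem tor_injective : Function.Injective (tor : (Root D → Fˣ) → GL D.Idx F) := by
  intro χ ψ h
  funext s
  apply Units.ext
  have := congrArg (fun g : GL D.Idx F => (g : Matrix D.Idx D.Idx F) (Sum.inr s) (Sum.inr s)) h
  simpa [tor] using this

/-- `2(r,s)/(r,r)`, summed over the coroot coordinates of `r`. -/
theorem pairing_eq_sum (r : ℕ) (s : ℕ) :
    D.pairing r s = ∑ k : Fin D.rank, (D.coroot.getD r #[]).getD k 0 * D.cartan k s := by
  rw [ChevalleyDatum.pairing, ← List.sum_toFinset _ List.nodup_range, List.toFinset_range,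
    ← Fin.sum_univ_eq_sum_range]

/-- The element `diag(t ^ ⟨s, r^∨⟩)`. -/
def hT (F : Type*) [Field F] (r : Root D) (t : Fˣ) : GL D.Idx F :=
  tor fun s => t ^ D.pairing r s

theorem hT_mul (r : Root D) (t u : Fˣ) : hT F r t * hT F r u = hT F r (t * u) := by
  simp [hT, tor_mul, mul_zpow]

theorem hT_one (r : Root D) : hT F r 1 = 1 := by simp [hT, tor_one]

theorem hT_inv (r : Root D) (t : Fˣ) : (hT F r t)⁻¹ = hT F r t⁻¹ := by
  simp [hT, tor_inv]

namespace GoodWeyl

variable (hW : GoodWeyl D)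
include hW

theorem pairing_pRoot (i : Fin D.rank) (s : Root D) : D.pairing (pRoot hW i) s = D.cartan i s := by
  rw [pairing_eq_sum, Finset.sum_eq_single i]
  · rw [show ((pRoot hW i : Root D) : ℕ) = D.simple i from rfl,
      hW.good.coroot_simple i.isLt i.isLt, if_pos rfl, one_mul]
  · intro k _ hk
    rw [show ((pRoot hW i : Root D) : ℕ) = D.simple i from rfl,
      hW.good.coroot_simple i.isLt k.isLt, if_neg (fun e => hk (Fin.ext e.symm)), zero_mul]
  · simp

/-- The pairing is invariant under the fundamental reflections. -/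
theorem pairing_wPerm (i : Fin D.rank) (r s : Root D) :
    D.pairing (wPerm hW i r) s = D.pairing r (wPerm hW i s) := by
  have hco : ∀ j : Fin D.rank, (D.coroot.getD (wPerm hW i r) #[]).getD j 0 =
      (D.coroot.getD r #[]).getD j 0 - if i = j then D.pairing r (pRoot hW i) else 0 := by
    intro j
    have h := (((hW.refl_facts i).2.2.2.2 r r.isLt).2.2.2.2.2.2.2 j j.isLt).2
    rw [coT_eq, coT_eq] at h
    refine Eq.trans h (congrArg₂ _ rfl (if_congr Fin.ext_iff.symm ?_ rfl))
    rw [ChevalleyDatum.pairing]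
    congr 1
    apply List.map_congr_left
    intro k hk
    rw [coT_eq, hW.good.cartanT_eq (List.mem_range.1 hk) (hW.good.simple_lt i.isLt)]
    rfl
  rw [pairing_eq_sum, pairing_eq_sum]
  simp only [hco, sub_mul, ite_mul, zero_mul, Finset.sum_sub_distrib, Finset.sum_ite_eq,
    Finset.mem_univ, if_true, hW.cartan_wPerm, mul_sub, ← mul_assoc, pairing_eq_sum,
    Finset.sum_mul]
  exact congrArg _ (Finset.sum_congr rfl fun k _ => by ring)

end GoodWeyl

theorem tor_mul_nR (hW : GoodWeyl D) (i : Fin D.rank) (χ : Root D → Fˣ) :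
    nR hW i * tor χ = tor (fun s => χ (wPerm hW i s)) * nR hW i := by
  apply Units.ext
  ext a b
  simp only [Units.val_mul]
  show ((_ : Matrix D.Idx D.Idx F) * Matrix.diagonal _ : Matrix D.Idx D.Idx F) a b =
    (Matrix.diagonal _ * (_ : Matrix D.Idx D.Idx F) : Matrix D.Idx D.Idx F) a b
  rw [Matrix.mul_diagonal, Matrix.diagonal_mul, nR_apply hW]
  rcases a with j' | v <;> rcases b with j | s <;> simp
  split_ifs with h
  · subst h; simp [hW.wPerm_wPerm, mul_comm]
  · simp

/-- Conjugation by `n_p` carries `h_r` to `h_{w r}`. -/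
theorem nR_conj_hT (hW : GoodWeyl D) (i : Fin D.rank) (r : Root D) (t : Fˣ) :
    nR hW i * hT F r t * (nR hW i)⁻¹ = hT F (wPerm hW i r) t := by
  rw [hT, tor_mul_nR, mul_inv_cancel_right, hT]
  congr 1
  funext s
  rw [hW.pairing_wPerm]

/-- `M` is `N` with its entries scaled by powers of `c` fixed by the `i`-th weight. -/
def IsScaled (D : ChevalleyDatum) (i : Fin D.rank) (c : F) (M N : Matrix D.Idx D.Idx F) : Prop :=
  ∀ a b, (¬ (2 : ℤ) ∣ wt D i a - wt D i b → N a b = 0) ∧
    M a b = c ^ ((wt D i a - wt D i b) / 2) * N a b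

theorem IsScaled.mul {i : Fin D.rank} {c : F} (hc : c ≠ 0) {M N M' N' : Matrix D.Idx D.Idx F}
    (h : IsScaled D i c M N) (h' : IsScaled D i c M' N') : IsScaled D i c (M * M') (N * N') := by
  intro a b
  refine ⟨fun hodd => ?_, ?_⟩
  · rw [Matrix.mul_apply]
    refine Finset.sum_eq_zero fun x _ => ?_
    by_cases h1 : (2 : ℤ) ∣ wt D i a - wt D i x
    · rw [(h' x b).1 (by omega), mul_zero]
    · rw [(h a x).1 h1, zero_mul]
  · rw [Matrix.mul_apply, Matrix.mul_apply, Finset.mul_sum]
    refine Finset.sum_congr rfl fun x _ => ?_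
    rw [(h a x).2, (h' x b).2]
    by_cases h1 : (2 : ℤ) ∣ wt D i a - wt D i x
    · by_cases h2 : (2 : ℤ) ∣ wt D i x - wt D i b
      · rw [show (wt D i a - wt D i b) / 2 =
          (wt D i a - wt D i x) / 2 + (wt D i x - wt D i b) / 2 by omega, zpow_add₀ hc]
        ring
      · rw [(h' x b).1 h2]; ring
    · rw [(h a x).1 h1]; ring

theorem isScaled_xR (hD : Good D) (i : Fin D.rank) (c : F) (r : Root D) (ε : ℤ) (u : F)
    (hε : ε = 1 ∨ ε = -1) (hr : D.cartan i r = 2 * ε) :
    IsScaled D i c (xR D F r (c ^ ε * u)) (xR D F r u) := by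
  intro a b
  have hwt : ∀ k, E D r k a b ≠ 0 → wt D i a - wt D i b = 2 * ((k : ℤ) * ε) := by
    intro k hk
    rw [hD.wt_of_E_ne_zero r k i hk, hr]; ring
  simp only [xR, Matrix.sum_apply, Matrix.smul_apply, Matrix.map_apply, smul_eq_mul]
  refine ⟨fun hodd => Finset.sum_eq_zero fun k _ => ?_, ?_⟩
  · by_cases hk : E D r k a b = 0
    · simp [hk]
    · exact absurd ⟨_, hwt k hk⟩ hodd
  · rw [Finset.mul_sum]
    refine Finset.sum_congr rfl fun k _ => ?_
    by_cases hk : E D r k a b = 0
    · simp [hk]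
    · rw [show (wt D i a - wt D i b) / 2 = (k : ℤ) * ε by rw [hwt k hk]; omega, mul_pow,
        mul_comm (k : ℤ) ε, zpow_mul, zpow_natCast]
      ring

/-- `n_p(t) = h_p(t) n_p`. -/
theorem nWord_eq (hW : GoodWeyl D) (i : Fin D.rank) (t : Fˣ) :
    X hW.good (pRoot hW i) (t : F) * X hW.good (pRoot hW i).rev (-(t⁻¹ : Fˣ) : F) *
        X hW.good (pRoot hW i) (t : F) = hT F (pRoot hW i) t * nR hW i := by
  have hD := hW.good
  have hp : D.cartan i (pRoot hW i) = 2 := hD.cartan_simple_self i.isLt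
  have h1 := isScaled_xR hD i (t : F) (pRoot hW i) 1 1 (Or.inl rfl) (by rw [hp]; norm_num)
  have h2 := isScaled_xR hD i (t : F) (pRoot hW i).rev (-1) (-1) (Or.inr rfl)
    (by rw [hD.cartan_rev, hp]; norm_num)
  rw [zpow_one, mul_one] at h1
  rw [zpow_neg_one, mul_neg_one, ← Units.val_inv_eq_inv_val] at h2
  have h := (h1.mul t.ne_zero h2).mul t.ne_zero h1
  apply Units.ext
  ext a b
  simp only [Units.val_mul, coe_X]
  rw [(h a b).2]
  have hn : (xR D F (pRoot hW i) 1 * xR D F (pRoot hW i).rev (-1) * xR D F (pRoot hW i) 1) a b =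
      ((nR hW i : GL D.Idx F) : Matrix D.Idx D.Idx F) a b := by
    simp only [nR, Units.val_mul, coe_X]
  rw [hn]
  show _ = (Matrix.diagonal _ * ((nR hW i : GL D.Idx F) : Matrix D.Idx D.Idx F) :
    Matrix D.Idx D.Idx F) a b
  rw [Matrix.diagonal_mul, nR_apply hW]
  rcases a with j' | v <;> rcases b with j | s <;> simp only [mul_zero]
  · simp
  · split_ifs with hv
    · subst hv
      congr 1
      simp only [wt_inr, Sum.elim_inr, hW.pairing_pRoot, hW.cartan_wPerm_self,
        Units.val_zpow_eq_zpow_val]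
      congr 1
      omega
    · simp

/-- `n_r(t) = x_r(t) x_{-r}(-t⁻¹) x_r(t)`. -/
def nElt (hD : Good D) (r : Root D) (t : Fˣ) : GL D.Idx F :=
  X hD r (t : F) * X hD r.rev (-(t⁻¹ : Fˣ) : F) * X hD r (t : F)

theorem nElt_one (hW : GoodWeyl D) (i : Fin D.rank) :
    nElt hW.good (pRoot hW i) (1 : Fˣ) = nR hW i := by
  simp [nElt, nR]

theorem nR_sq (hW : GoodWeyl D) (i : Fin D.rank) :
    (nR hW i : GL D.Idx F) * nR hW i = hT F (pRoot hW i) (-1) := by
  apply Units.ext
  ext a b
  rw [Units.val_mul, Matrix.mul_apply, Fintype.sum_sum_type]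
  show _ = (Matrix.diagonal _ : Matrix D.Idx D.Idx F) a b
  rcases a with j' | v
  · rcases b with j | s
    · simp only [nR_apply hW, Matrix.diagonal_apply, Sum.inl.injEq]
      simp only [mul_sub, sub_mul, ite_mul, mul_ite, one_mul, mul_one, zero_mul, mul_zero,
        Finset.sum_const_zero, Finset.sum_sub_distrib, Finset.sum_ite_eq, Finset.sum_ite_eq',
        Finset.mem_univ, if_true, add_zero, Sum.elim_inl]
      by_cases hj : j' = i
      · subst hj
        simp [show D.cartan j' (pRoot hW j') = 2 from hW.good.cartan_simple_self j'.isLt]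
        ring
      · simp [hj]
    · simp [nR_apply hW]
  · rcases b with j | s
    · simp [nR_apply hW]
    · simp only [nR_apply hW, Matrix.diagonal_apply, Sum.inr.injEq, mul_zero, zero_mul,
        Finset.sum_const_zero, zero_add, ite_mul, mul_ite, Sum.elim_inr]
      rw [Finset.sum_eq_single (wPerm hW i s)]
      · simp only [hW.wPerm_wPerm, if_true]
        by_cases hvs : v = s
        · subst hvs
          simp only [if_true]
          rw [← Int.cast_mul, mul_comm, hW.eta_mul_wPerm, hW.pairing_pRoot, Int.cast_pow,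
            Int.cast_neg, Int.cast_one, Units.val_zpow_eq_zpow_val, Units.val_neg, Units.val_one,
            neg_one_zpow_eq_ite, neg_one_pow_eq_ite]
          simp [Int.natAbs_even]
        · simp [hvs]
      · intro k _ hk
        simp [hk]
      · simp

/-- `h_p(t) = n_p(t) n_p(-1)` is diagonal. -/
theorem hElt_pRoot (hW : GoodWeyl D) (i : Fin D.rank) (t : Fˣ) :
    nElt hW.good (pRoot hW i) t * nElt hW.good (pRoot hW i) (-1) = hT F (pRoot hW i) t := by
  rw [show nElt hW.good (pRoot hW i) t = hT F (pRoot hW i) t * nR hW i from nWord_eq hW i t,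
    show nElt hW.good (pRoot hW i) (-1 : Fˣ) = hT F (pRoot hW i) (-1) * nR hW i from nWord_eq hW i _]
  have hn : (nR hW i : GL D.Idx F) * hT F (pRoot hW i) (-1) =
      hT F (pRoot hW i) (-1)⁻¹ * nR hW i := by
    rw [hT, tor_mul_nR, hT]
    congr 2
    funext s
    rw [hW.pairing_pRoot, hW.pairing_pRoot, hW.cartan_wPerm_self, zpow_neg, inv_zpow]
  calc hT F (pRoot hW i) t * nR hW i * (hT F (pRoot hW i) (-1) * nR hW i)
      = hT F (pRoot hW i) t * (nR hW i * hT F (pRoot hW i) (-1)) * nR hW i := by group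
    _ = hT F (pRoot hW i) t * hT F (pRoot hW i) (-1)⁻¹ * (nR hW i * nR hW i) := by rw [hn]; group
    _ = hT F (pRoot hW i) t := by
        rw [nR_sq hW, mul_assoc, hT_mul, inv_mul_cancel, hT_one, mul_one]

theorem nElt_neg (hD : Good D) (r : Root D) (t : Fˣ) :
    nElt hD r (-t) = (nElt hD r t)⁻¹ := by
  simp [nElt, mul_inv_rev, X_inv, mul_assoc, Units.val_neg]

theorem nElt_conj (hW : GoodWeyl D) (i : Fin D.rank) (r : Root D) (t c : Fˣ)
    (hc : (c : F) = (eta D i r : F)) :
    nR hW i * nElt hW.good r t * (nR hW i)⁻¹ = nElt hW.good (wPerm hW i r) (c * t) := by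
  have hcc : c * c = 1 := Units.ext (by
    rw [Units.val_mul, hc, ← Int.cast_mul, hW.eta_sq, Int.cast_one, Units.val_one])
  rw [nElt, show ∀ n x y z : GL D.Idx F,
    n * (x * y * z) * n⁻¹ = (n * x * n⁻¹) * (n * y * n⁻¹) * (n * z * n⁻¹) from
    fun n x y z => by group, nR_conj, nR_conj, hW.eta_rev, hW.wPerm_rev, ← hc, nElt]
  have : (c * t)⁻¹ = c * t⁻¹ := by rw [mul_inv_rev, mul_comm, inv_eq_of_mul_eq_one_right hcc]
  rw [this, Units.val_mul, Units.val_mul, mul_neg]

/-- `h_r(t) = n_r(t) n_r(-1)` is `diag(t ^ ⟨s, r^∨⟩)` for every root. -/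
theorem hElt_eq (hW : GoodWeyl D) (r : Root D) :
    ∀ t : Fˣ, nElt hW.good r t * nElt hW.good r (-1) = hT F r t := by
  refine hW.root_induction (P := fun r => ∀ t : Fˣ,
    nElt hW.good r t * nElt hW.good r (-1) = hT F r t) (fun i => hElt_pRoot hW i) ?_ r
  intro i r hr t
  obtain ⟨c, hc⟩ : ∃ c : Fˣ, (c : F) = (eta D i r : F) := by
    have h : (eta D i r : F) * eta D i r = 1 := by rw [← Int.cast_mul, hW.eta_sq, Int.cast_one]
    exact ⟨⟨_, _, h, h⟩, rfl⟩
  have hcc : c * c = 1 := Units.ext (by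
    rw [Units.val_mul, hc, ← Int.cast_mul, hW.eta_sq, Int.cast_one, Units.val_one])
  have e : ∀ u : Fˣ, nElt hW.good (wPerm hW i r) u =
      nR hW i * nElt hW.good r (c * u) * (nR hW i)⁻¹ := by
    intro u
    rw [nElt_conj hW i r (c * u) c hc, ← mul_assoc, hcc, one_mul]
  rw [e, e, show ∀ n x y : GL D.Idx F, n * x * n⁻¹ * (n * y * n⁻¹) = n * (x * y) * n⁻¹ from
    fun n x y => by group, ← nR_conj_hT hW i r t]
  congr 2
  have hfac : nElt hW.good r (c * -1) = nElt hW.good r (-1) * (hT F r c⁻¹) := by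
    rw [show c * -1 = -c by simp, nElt_neg, show (hT F r c⁻¹) = (hT F r c)⁻¹ from (hT_inv r c).symm,
      ← hr c, mul_inv_rev, mul_inv_cancel_left]
  rw [hfac, ← mul_assoc, hr, hT_mul]
  congr 1
  rw [mul_comm c t, mul_assoc, mul_inv_cancel, mul_one]

theorem coe_hT_eq_hMat (hW : GoodWeyl D) (r : Root D) (t : Fˣ) :
    ((hT F r t : GL D.Idx F) : Matrix D.Idx D.Idx F) = D.hMat F r t := by
  rw [← hElt_eq hW, ChevalleyDatum.hMat, ← coe_wordGL hW.good, ChevalleyDatum.hWord,
    ChevalleyDatum.nWord, ChevalleyDatum.nWord, hW.good.neg_fin r]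
  congr 1
  simp only [List.cons_append, List.nil_append, wordGL_cons, nElt, Units.val_neg, Units.val_one,
    Units.val_inv_eq_inv_val, inv_neg, inv_one, neg_neg]
  simp [wordGL, mul_assoc]

theorem diagonalSubgroup_eq (hW : GoodWeyl D) :
    D.diagonalSubgroup F = Subgroup.closure {g | ∃ (r : Root D) (t : Fˣ), hT F r t = g} := by
  rw [ChevalleyDatum.diagonalSubgroup]
  congr 1
  ext g
  constructor
  · rintro ⟨r, t, hr, ht, h⟩
    exact ⟨⟨r, hr⟩, Units.mk0 t ht, Units.ext ((coe_hT_eq_hMat hW _ _).trans h.symm)⟩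
  · rintro ⟨r, t, rfl⟩
    exact ⟨r, t, r.isLt, t.ne_zero, coe_hT_eq_hMat hW r t⟩

theorem hT_mem_diagonal (hW : GoodWeyl D) (r : Root D) (t : Fˣ) :
    hT F r t ∈ D.diagonalSubgroup F := by
  rw [diagonalSubgroup_eq hW]
  exact Subgroup.subset_closure ⟨r, t, rfl⟩

/-- `diag(∏ c_i ^ cartan i s)`, the general element of the diagonal subgroup. -/
def torC (D : ChevalleyDatum) {F : Type*} [Field F] (c : Fin D.rank → Fˣ) : GL D.Idx F :=
  tor fun s => ∏ k : Fin D.rank, c k ^ D.cartan k s

theorem torC_mul (c d : Fin D.rank → Fˣ) : torC D c * torC D d = torC D (c * d) := by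
  simp [torC, tor_mul, ← Finset.prod_mul_distrib, mul_zpow]

/-- `c ↦ diag(∏ c_i ^ cartan i s)` as a homomorphism. -/
def torHom (D : ChevalleyDatum) (F : Type*) [Field F] : (Fin D.rank → Fˣ) →* GL D.Idx F where
  toFun := torC D
  map_one' := by simp [torC, tor_one]
  map_mul' c d := (torC_mul c d).symm

theorem hT_eq_torC (r : Root D) (t : Fˣ) :
    hT F r t = torC D fun k => t ^ (D.coroot.getD r #[]).getD k 0 := by
  simp only [hT, torC]
  congr 1
  funext s
  rw [pairing_eq_sum]
  simp only [← zpow_mul]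
  induction (Finset.univ : Finset (Fin D.rank)) using Finset.induction_on with
  | empty => simp
  | insert k S hk ih => rw [Finset.sum_insert hk, Finset.prod_insert hk, zpow_add, ih]

theorem torC_eq_prod (hW : GoodWeyl D) (c : Fin D.rank → Fˣ) :
    torC D c = ((List.finRange D.rank).map fun k => hT F (pRoot hW k) (c k)).prod := by
  have h : ∀ L : List (Fin D.rank), (L.map fun k => hT F (pRoot hW k) (c k)).prod =
      tor fun s => (L.map fun k => c k ^ D.cartan k s).prod := by
    intro L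
    induction L with
    | nil => simp [tor_one]
    | cons k L ih =>
      rw [List.map_cons, List.prod_cons, ih, hT, tor_mul]
      simp only [hW.pairing_pRoot, List.map_cons, List.prod_cons]
  rw [h, torC]
  simp [← List.ofFn_eq_map, List.prod_ofFn]

theorem diagonalSubgroup_eq_range (hW : GoodWeyl D) :
    D.diagonalSubgroup F = (torHom D F).range := by
  apply le_antisymm
  · rw [diagonalSubgroup_eq hW, Subgroup.closure_le]
    rintro _ ⟨r, t, rfl⟩
    exact ⟨_, (hT_eq_torC r t).symm⟩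
  · rintro _ ⟨c, rfl⟩
    show torC D c ∈ _
    rw [torC_eq_prod hW]
    refine Subgroup.list_prod_mem _ fun x hx => ?_
    obtain ⟨k, -, rfl⟩ := List.mem_map.1 hx
    exact hT_mem_diagonal hW _ _

end CfsgLib.Chevalley
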