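import Cfsg.Agent.Chevalley.Commutator
import Mathlib.GroupTheory.Nilpotent
import Mathlib.SetTheory.Cardinal.Finite
import Mathlib.LinearAlgebra.Matrix.ToLin
/-!
The two unipotent subgroups: triangularity, the series by index, unique factorisation into root
elements, order and nilpotency. Everything is stated for a side `b` (`false` positive, `true`
negative) and the key of a root, its index counted from the negative end of that side.
-/

set_option autoImplicit false

namespace CfsgLib.Chevalley

open Cfsg.Lie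
open scoped MatrixGroups

variable {D : ChevalleyDatum}

/-- The index of a root counted so that the roots of side `b` come last. -/
def key (b : Bool) (r : Root D) : ℕ := if b then (r.rev : ℕ) else r

/-- The position of a coordinate: other side, then the Cartan subalgebra, then this side. -/
def ord (b : Bool) : D.Idx → ℕ :=
  Sum.elim (fun _ => half D) fun r => if key b r < half D then key b r else key b r + 1

/-- The roots of side `b` with key at least `m` generate this subgroup. -/
def uGe (hD : Good D) (F : Type*) [Field F] (b : Bool) (m : ℕ) : Subgroup (GL D.Idx F) :=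
  Subgroup.closure {g | ∃ r : Root D, half D ≤ key b r ∧ m ≤ key b r ∧ ∃ t, X hD r t = g}

/-- A matrix is lower unitriangular for the positions. -/
def IsLower {R : Type*} [CommRing R] (b : Bool) (g : Matrix D.Idx D.Idx R) : Prop :=
  (∀ a, g a a = 1) ∧ ∀ a c, a ≠ c → ord b a ≤ ord b c → g a c = 0

theorem IsLower.one {R : Type*} [CommRing R] (b : Bool) :
    IsLower b (1 : Matrix D.Idx D.Idx R) :=
  ⟨fun a => Matrix.one_apply_eq a, fun _ _ h _ => Matrix.one_apply_ne h⟩

theorem IsLower.mul {R : Type*} [CommRing R] {b : Bool} {g h : Matrix D.Idx D.Idx R}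
    (hg : IsLower b g) (hh : IsLower b h) : IsLower b (g * h) := by
  refine ⟨fun a => ?_, fun a c hac hle => ?_⟩ <;> rw [Matrix.mul_apply]
  · rw [Finset.sum_eq_single a, hg.1, hh.1, one_mul]
    · intro x _ hx
      rcases le_total (ord b a) (ord b x) with hle | hle
      · rw [hg.2 a x hx.symm hle, zero_mul]
      · rw [hh.2 x a hx hle, mul_zero]
    · simp
  · refine Finset.sum_eq_zero fun x _ => ?_
    by_cases h1 : ord b a ≤ ord b x
    · by_cases h2 : a = x
      · subst h2; rw [hh.2 a c hac hle, mul_zero]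
      · rw [hg.2 a x h2 h1, zero_mul]
    · by_cases h2 : x = c
      · subst h2; omega
      · rw [hh.2 x c h2 (by omega), mul_zero]

theorem rev_rev_val (r : Root D) : ((r.rev : Root D) : ℕ) = D.nroots - (r + 1) := Fin.val_rev r

theorem key_rev (b : Bool) (r : Root D) : key b r.rev + key b r + 1 = D.nroots := by
  have := r.isLt
  cases b <;> simp [key, Fin.val_rev] <;> omega

theorem key_lt (b : Bool) (r : Root D) : key b r < D.nroots := by
  cases b
  · exact r.isLt
  · exact r.rev.isLt

theorem key_injective (b : Bool) : Function.Injective (key b : Root D → ℕ) := by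
  intro r s h
  cases b <;> simp [key, Fin.ext_iff, Fin.val_rev] at h ⊢ <;> omega

theorem key_surjective (b : Bool) {k : ℕ} (hk : k < D.nroots) : ∃ r : Root D, key b r = k := by
  cases b
  · exact ⟨⟨k, hk⟩, rfl⟩
  · exact ⟨(⟨k, hk⟩ : Root D).rev, by simp [key]⟩

namespace Good

theorem onSide_iff_key (hD : Good D) (b : Bool) (r : Root D) :
    OnSide D b r ↔ half D ≤ key b r := by
  have := hD.two_half
  have := r.isLt
  cases b
  · simp [onSide_false_iff, key]
  · simp [onSide_true_iff, key, Fin.val_rev]; omega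

theorem chainEntry_key (hD : Good D) {b : Bool} {r : Root D} (hr : half D ≤ key b r) {s : Root D}
    {q : ℕ × ℤ} (hq : q ∈ D.chainEntry r s) :
    ∃ h : q.1 < D.nroots, key b s < key b ⟨q.1, h⟩ := by
  obtain ⟨-, -, -, hlt, hmono, -, -⟩ := hD.chainEntry_mem r.isLt hq
  refine ⟨hlt, ?_⟩
  have := hD.two_half
  have := s.isLt
  cases b
  · simp [key] at hr ⊢
    rw [if_pos hr] at hmono; exact hmono
  · simp [key, Fin.val_rev] at hr ⊢
    rw [if_neg (by omega)] at hmono; omega

theorem isLower_xR (hD : Good D) {R : Type*} [CommRing R] {b : Bool} {r : Root D}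
    (hr : half D ≤ key b r) (t : R) : IsLower b (xR D R r t) := by
  have hh := hD.two_half
  have hkey : key b r.rev < half D := by have := key_rev b r; omega
  have hE : ∀ k, 1 ≤ k → ∀ a c, E D r k a c ≠ 0 → ord b c < ord b a := by
    intro k hk a c hne
    have hchain : ∀ j (s u : Root D), chainVal D r s j u ≠ 0 →
        ord b (Sum.inr s) < ord b (Sum.inr u) := by
      intro j s u h
      cases hq : (D.chainEntry r s)[j]? with
      | none => simp [chainVal, hq] at h
      | some q =>
        simp only [chainVal, hq] at h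
        obtain ⟨hlt, hk'⟩ := hD.chainEntry_key hr (List.mem_of_getElem? hq)
        have hu : (⟨q.1, hlt⟩ : Root D) = u := Fin.ext (by by_contra hc; simp [hc] at h)
        rw [hu] at hk'
        simp only [ord, Sum.elim_inr]
        split_ifs <;> omega
    have hspecial : ord b (Sum.inr r.rev) < half D ∧ half D < ord b (Sum.inr r : D.Idx) := by
      simp only [ord, Sum.elim_inr, if_pos hkey, if_neg (Nat.not_lt.2 hr)]
      omega
    rcases Nat.lt_or_ge k 4 with h4 | h4
    swap; · simp [E_high r h4] at hne
    rcases (by omega : k = 1 ∨ k = 2 ∨ k = 3) with rfl | rfl | rfl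
    · rw [E_apply_one hD] at hne
      rcases a with i | u <;> rcases c with j | s <;> simp only at hne
      · simp at hne
      · obtain ⟨rfl, -⟩ := ite_ne_right_iff.1 hne
        exact hspecial.1
      · obtain ⟨rfl, -⟩ := ite_ne_right_iff.1 hne
        exact hspecial.2
      · exact hchain 0 s u hne
    · rw [E_apply_two hD] at hne
      rcases a with i | u <;> rcases c with j | s <;> simp only at hne
      · simp at hne
      · simp at hne
      · simp at hne
      · by_cases hc : u = r ∧ s = r.rev
        · obtain ⟨rfl, rfl⟩ := hc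
          exact hspecial.1.trans hspecial.2
        · rw [if_neg hc, zero_add] at hne
          exact hchain 1 s u hne
    · rw [E_apply_three hD] at hne
      rcases a with i | u <;> rcases c with j | s <;> simp only at hne
      · simp at hne
      · simp at hne
      · simp at hne
      · exact hchain 2 s u hne
  have hz : ∀ k, 1 ≤ k → ∀ a c, ord b a ≤ ord b c → E D r k a c = 0 := by
    intro k hk a c hle
    by_contra hne
    have := hE k hk a c hne
    omega
  refine ⟨fun a => ?_, fun a c hac hle => ?_⟩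
  · simp [xR, Finset.sum_range_succ, Matrix.one_apply, hz]
  · simp [xR, Finset.sum_range_succ, Matrix.one_apply, hz _ _ a c hle, hac]

/-! ### The terms of the formula lie beyond both roots -/

theorem coeff_ne (hC : GoodComm D) (a b : Root D) {q : ℕ × ℤ} (hq : q ∈ D.chainEntry a b) :
    q.2 ≠ 0 := by
  have h := hC.comm
  simp only [chkComm, List.all_eq_true, List.mem_range] at h
  rw [← entryT_eq, entryT] at hq
  cases hf : List.find? (fun e => e.1 == (b : ℕ)) ((chainTrie D).get a) with
  | none => simp [hf] at hq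
  | some e =>
    rw [hf] at hq
    have := h a a.isLt e (List.mem_of_find?_eq_some hf)
    simp only [Bool.and_eq_true, List.all_eq_true, bne_iff_ne] at this
    exact this.1 q hq

theorem rev_ne_of_key (hD : Good D) {b : Bool} {r s : Root D} (hr : half D ≤ key b r)
    (hs : half D ≤ key b s) : s ≠ r.rev := by
  intro e
  have := key_rev b r
  have := hD.two_half
  rw [← e] at *
  omega

theorem chain_key_gt (hC : GoodComm D) {b : Bool} {r s : Root D} (hr : half D ≤ key b r)
    (hs : half D ≤ key b s) : ∀ (j : ℕ) (q : ℕ × ℤ), (D.chainEntry r s)[j]? = some q →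
      ∃ h : q.1 < D.nroots, key b r < key b ⟨q.1, h⟩ ∧ key b s < key b ⟨q.1, h⟩ := by
  have hD := hC.good
  have hne := hD.rev_ne_of_key hr hs
  intro j
  induction j with
  | zero =>
    intro q hj
    obtain ⟨h, hks⟩ := hD.chainEntry_key hr (List.mem_of_getElem? hj)
    refine ⟨h, ?_, hks⟩
    obtain ⟨cs, hcs⟩ : ∃ cs, D.chainEntry r s = q :: cs := by
      cases hc : D.chainEntry r s with
      | nil => simp [hc] at hj
      | cons a cs => exact ⟨cs, by simp [hc] at hj; rw [hj]⟩
    obtain ⟨ds, hds⟩ := hD.chainEntry_head (fun a b q hq => coeff_ne hC a b hq) hne hcs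
    obtain ⟨_, hkr⟩ := hD.chainEntry_key hs (s := r) (q := (q.1, -q.2)) (hds ▸ List.mem_cons_self ..)
    exact hkr
  | succ j ih =>
    intro q hj
    have hlen := hD.chainEntry_length r.isLt s
    obtain ⟨hj', -⟩ := List.getElem?_eq_some_iff.1 hj
    have hp : j < (D.chainEntry r s).length := by omega
    obtain ⟨hplt, hpr, hps⟩ := ih _ (List.getElem?_eq_getElem hp)
    obtain ⟨hq, hqs⟩ := hD.chainEntry_key hr (List.mem_of_getElem? hj)
    refine ⟨hq, ?_, hqs⟩
    set p := (D.chainEntry r s)[j] with hpdef
    have hpe : (D.chainEntry r s)[j]? = some p := List.getElem?_eq_getElem hp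
    have hM : q.2 ≠ 0 := coeff_ne hC r s (List.mem_of_getElem? hj)
    have hpne : (⟨p.1, hplt⟩ : Root D) ≠ r.rev := hD.rev_ne_of_key hr (le_trans hs hps.le)
    have key' := congrFun (congrFun (hD.A_mul_E r (j + 1)) (Sum.inr ⟨q.1, hq⟩)) (Sum.inr s)
    rw [Matrix.mul_apply, Fintype.sum_sum_type] at key'
    have hEval : ∀ u : Root D, E D r (j + 1) (Sum.inr u) (Sum.inr s) = chainVal D r s j u := by
      intro u
      rcases (by omega : j = 0 ∨ j = 1) with rfl | rfl
      · rw [E_apply_one hD]
      · rw [E_apply_two hD]; simp [hne]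
    have hEinl : ∀ i, E D r (j + 1) (Sum.inl i) (Sum.inr s) = 0 := by
      intro i
      rcases (by omega : j = 0 ∨ j = 1) with rfl | rfl
      · rw [E_apply_one hD]; simp [hne]
      · rw [E_apply_two hD]
    have hEq : E D r (j + 1 + 1) (Sum.inr ⟨q.1, hq⟩) (Sum.inr s) = q.2 := by
      rcases (by omega : j = 0 ∨ j = 1) with rfl | rfl
      · rw [E_apply_two hD]; simp [chainVal, hj, hne]
      · rw [E_apply_three hD]; simp [chainVal, hj]
    simp only [hEinl, mul_zero, Finset.sum_const_zero, zero_add, Matrix.smul_apply, hEq,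
      smul_eq_mul, hEval] at key'
    rw [Finset.sum_eq_single (⟨p.1, hplt⟩ : Root D)] at key'
    · rw [E_apply_one hD] at key'
      simp only at key'
      cases hc : (D.chainEntry r p.1)[0]? with
      | none =>
        simp [chainVal, hc, hM] at key'
        omega
      | some q' =>
        by_cases hqq : q'.1 = q.1
        · obtain ⟨h', hgt⟩ := hD.chainEntry_key hr (s := (⟨p.1, hplt⟩ : Root D))
            (List.mem_of_getElem? hc)
          have : (⟨q'.1, h'⟩ : Root D) = ⟨q.1, hq⟩ := Fin.ext hqq
          rw [this] at hgt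
          exact lt_trans hpr hgt
        · simp [chainVal, hc, hqq, hM] at key'
          omega
    · intro u _ hu
      have : chainVal D r s j u = 0 := by
        rw [chainVal, hpe]
        exact if_neg (fun e => hu (Fin.ext e.symm))
      rw [this, mul_zero]
    · simp

theorem mem_chain_key_gt (hC : GoodComm D) {b : Bool} {r s : Root D} (hr : half D ≤ key b r)
    (hs : half D ≤ key b s) {q : ℕ × ℤ} (hq : q ∈ D.chainEntry r s) :
      ∃ h : q.1 < D.nroots, key b r < key b ⟨q.1, h⟩ ∧ key b s < key b ⟨q.1, h⟩ := by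
  obtain ⟨j, hj⟩ := List.mem_iff_getElem?.1 hq
  exact chain_key_gt hC hr hs j q hj

theorem commTerms_key (hC : GoodComm D) {b : Bool} {r s : Root D} (hr : half D ≤ key b r)
    (hs : half D ≤ key b s) {c : ℕ × ℤ × ℕ × ℕ} (hc : c ∈ D.commTerms r s) :
    ∃ h : c.1 < D.nroots, key b r < key b ⟨c.1, h⟩ ∧ key b s < key b ⟨c.1, h⟩ := by
  have step : ∀ {x y : Root D}, half D ≤ key b x → half D ≤ key b y → ∀ {i : ℕ} {k : ℕ},
      D.chainRoot x y i = some k →
      ∃ h : k < D.nroots, key b x < key b ⟨k, h⟩ ∧ key b y < key b ⟨k, h⟩ := by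
    intro x y hx hy i k h
    simp only [ChevalleyDatum.chainRoot, Option.map_eq_some_iff] at h
    obtain ⟨q, hq, rfl⟩ := h
    exact mem_chain_key_gt hC hx hy (List.mem_of_getElem? hq)
  have flip : ∀ {k : ℕ}, (∃ h : k < D.nroots, key b s < key b ⟨k, h⟩ ∧ key b r < key b ⟨k, h⟩) →
      ∃ h : k < D.nroots, key b r < key b ⟨k, h⟩ ∧ key b s < key b ⟨k, h⟩ :=
    fun ⟨h, h1, h2⟩ => ⟨h, h2, h1⟩
  simp only [ChevalleyDatum.commTerms, List.mem_filterMap, Option.map_eq_some_iff] at hc
  obtain ⟨e, he, k, hk, rfl⟩ := hc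
  simp only [List.mem_cons, List.not_mem_nil, or_false] at he
  rcases he with rfl | rfl | rfl | rfl | rfl | rfl | rfl
  · exact step hr hs hk
  · exact step hr hs hk
  · exact flip (step hs hr hk)
  · exact step hr hs hk
  · exact flip (step hs hr hk)
  · obtain ⟨m, hm, hk⟩ := Option.bind_eq_some_iff.1 hk
    obtain ⟨hml, h1, h2⟩ := step hr hs hm
    obtain ⟨hkl, h3, h4⟩ := step (x := ⟨m, hml⟩) (by omega) hs hk
    exact ⟨hkl, lt_trans h1 h3, h4⟩
  · obtain ⟨m, hm, hk⟩ := Option.bind_eq_some_iff.1 hk
    obtain ⟨hml, h1, h2⟩ := step hs hr hm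
    obtain ⟨hkl, h3, h4⟩ := step (x := ⟨m, hml⟩) (by omega) hr hk
    exact ⟨hkl, h4, lt_trans h1 h3⟩

end Good

/-! ### The series by key -/

section Series

variable {F : Type*} [Field F] {b : Bool}

theorem X_mem_uGe (hD : Good D) {r : Root D} {m : ℕ} (hr : half D ≤ key b r) (hm : m ≤ key b r)
    (t : F) : X hD r t ∈ uGe hD F b m := Subgroup.subset_closure ⟨r, hr, hm, t, rfl⟩

theorem uGe_mono (hD : Good D) {m m' : ℕ} (h : m ≤ m') : uGe hD F b m' ≤ uGe hD F b m :=
  Subgroup.closure_mono fun _ ⟨r, h1, h2, h3⟩ => ⟨r, h1, h.trans h2, h3⟩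

theorem uGe_eq_bot (hD : Good D) {m : ℕ} (h : D.nroots ≤ m) : uGe hD F b m = ⊥ := by
  rw [uGe, Subgroup.closure_eq_bot_iff]
  rintro g ⟨r, -, hm, -⟩
  have := key_lt b r
  omega

theorem uGe_half (hD : Good D) {m : ℕ} (h : m ≤ half D) :
    uGe hD F b m = uGe hD F b (half D) := by
  refine le_antisymm (Subgroup.closure_mono ?_) (uGe_mono hD h)
  exact fun _ ⟨r, h1, _, h3⟩ => ⟨r, h1, h1, h3⟩

theorem posUnipotent_eq (hD : Good D) : D.posUnipotent F = uGe hD F false (half D) := by
  rw [posUnipotent_eq_closure hD, uGe]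
  congr 1
  ext g
  exact ⟨fun ⟨r, h, t⟩ => ⟨r, h, h, t⟩, fun ⟨r, h, _, t⟩ => ⟨r, h, t⟩⟩

theorem negUnipotent_eq (hD : Good D) : D.negUnipotent F = uGe hD F true (half D) := by
  rw [negUnipotent_eq_closure hD, uGe]
  have hh := hD.two_half
  congr 1
  ext g
  have e : ∀ r : Root D, (r : ℕ) < half D ↔ half D ≤ key true r := by
    intro r
    have := r.isLt
    simp [key, Fin.val_rev]
    omega
  exact ⟨fun ⟨r, h, t⟩ => ⟨r, (e r).1 h, (e r).1 h, t⟩, fun ⟨r, h, _, t⟩ => ⟨r, (e r).2 h, t⟩⟩

theorem commRhs_mem_uGe (hC : GoodComm D) {r s : Root D} (hr : half D ≤ key b r)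
    (hs : half D ≤ key b s) {m : ℕ} (h : m ≤ key b r + 1 ∨ m ≤ key b s + 1) (t u : F) :
    commRhs hC.good r s t u ∈ uGe hC.good F b m := by
  refine Subgroup.list_prod_mem _ ?_
  intro x hx
  simp only [List.map_map, List.mem_map] at hx
  obtain ⟨c, hc, rfl⟩ := hx
  obtain ⟨hlt, h1, h2⟩ := Good.commTerms_key hC hr hs hc
  simp only [Function.comp_apply, dif_pos hlt]
  exact X_mem_uGe _ (by omega) (by omega) _

/-- The root elements of a side normalise the series. -/
theorem conj_mem_uGe (hC : GoodComm D) {a : Root D} (ha : half D ≤ key b a) (v : F) (m : ℕ)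
    {g : GL D.Idx F} (hg : g ∈ uGe hC.good F b m) :
    X hC.good a v * g * (X hC.good a v)⁻¹ ∈ uGe hC.good F b m := by
  suffices H : ∀ k m, D.nroots ≤ m + k → ∀ {g : GL D.Idx F}, g ∈ uGe hC.good F b m →
      X hC.good a v * g * (X hC.good a v)⁻¹ ∈ uGe hC.good F b m from H D.nroots m (by omega) hg
  intro k
  induction k with
  | zero =>
    intro m hm g hg
    rw [uGe_eq_bot _ (by omega), Subgroup.mem_bot] at hg ⊢
    simp [hg]
  | succ k ih =>
    intro m hm g hg
    induction hg using Subgroup.closure_induction with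
    | mem x hx =>
      obtain ⟨c, hc, hcm, w, rfl⟩ := hx
      rcases eq_or_ne a c with rfl | hac
      · rw [X_mul, X_inv, X_mul, show v + w + -v = w by ring]
        exact X_mem_uGe _ hc hcm _
      have hac' := hC.good.rev_ne_of_key hc ha
      rw [X_comm hC c a hac hac' w v,
        show ∀ p q W : GL D.Idx F, p * q * W * q⁻¹ = p * (q * W * q⁻¹) from fun p q W => by group]
      refine mul_mem (X_mem_uGe _ hc hcm _) (uGe_mono _ (Nat.le_succ m) ?_)
      exact ih (m + 1) (by omega) (commRhs_mem_uGe hC hc ha (Or.inl (by omega)) w v)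
    | one => simp
    | mul x y _ _ hx hy =>
      rw [show ∀ q x y : GL D.Idx F, q * (x * y) * q⁻¹ = (q * x * q⁻¹) * (q * y * q⁻¹) from
        fun q x y => by group]
      exact mul_mem hx hy
    | inv x _ hx =>
      rw [show ∀ q x : GL D.Idx F, q * x⁻¹ * q⁻¹ = (q * x * q⁻¹)⁻¹ from fun q x => by group]
      exact inv_mem hx

/-- The series is normal in the whole unipotent subgroup of its side. -/
theorem uGe_half_le_normalizer (hC : GoodComm D) (m : ℕ) :
    uGe hC.good F b (half D) ≤
      Subgroup.normalizer (uGe hC.good F b m : Set (GL D.Idx F)) := by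
  rw [uGe, Subgroup.closure_le]
  rintro _ ⟨r, hr, -, t, rfl⟩
  refine Subgroup.mem_normalizer_iff.2 fun h => ⟨fun hh => conj_mem_uGe hC hr t m hh, fun hh => ?_⟩
  have := conj_mem_uGe hC hr (-t) m hh
  rwa [← X_inv, show ∀ q h : GL D.Idx F, q⁻¹ * (q * h * q⁻¹) * q⁻¹⁻¹ = h from fun q h => by group]
    at this

/-- Two root elements commute up to the next term of the series. -/
theorem X_commutator_mem (hC : GoodComm D) {r s : Root D} (hr : half D ≤ key b r)
    (hs : half D ≤ key b s) (t u : F) :
    (X hC.good s u * X hC.good r t)⁻¹ * (X hC.good r t * X hC.good s u) ∈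
      uGe hC.good F b (key b r + 1) := by
  rcases eq_or_ne s r with rfl | hne
  · simp only [X_mul, X_inv]
    rw [show -(u + t) + (t + u) = (0 : F) by ring, X_zero]
    exact one_mem _
  rw [X_comm hC r s hne (hC.good.rev_ne_of_key hr hs) t u,
    show ∀ p q W : GL D.Idx F, (p * q * W)⁻¹ * (p * q) = W⁻¹ from fun p q W => by group]
  exact inv_mem (commRhs_mem_uGe hC hr hs (Or.inl le_rfl) t u)

/-- The root with the given key. -/
noncomputable def rootOf (hD : Good D) (b : Bool) (k : ℕ) : Root D :=
  if h : k < D.nroots then (key_surjective b h).choose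
  else ⟨0, by have := hD.two_half; have := hD.basic'.1.2.1; omega⟩

theorem key_rootOf (hD : Good D) {k : ℕ} (hk : k < D.nroots) : key b (rootOf hD b k) = k := by
  rw [rootOf, dif_pos hk]
  exact (key_surjective b hk).choose_spec

theorem rootOf_key (hD : Good D) (r : Root D) : rootOf hD b (key b r) = r :=
  key_injective b (key_rootOf hD (key_lt b r))

/-- The ordered product `x(t_m) x(t_{m+1}) ⋯` over the keys from `m` to `m + k`. -/
noncomputable def prodFrom (hD : Good D) (b : Bool) (t : ℕ → F) (m k : ℕ) : GL D.Idx F :=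
  ((List.range' m k).map fun j => X hD (rootOf hD b j) (t j)).prod

theorem prodFrom_succ (hD : Good D) (t : ℕ → F) (m k : ℕ) :
    prodFrom hD b t m (k + 1) = X hD (rootOf hD b m) (t m) * prodFrom hD b t (m + 1) k := by
  simp [prodFrom, List.range'_succ]

theorem prodFrom_mem (hD : Good D) (t : ℕ → F) {m k : ℕ} (hm : half D ≤ m)
    (hk : m + k ≤ D.nroots) : prodFrom hD b t m k ∈ uGe hD F b m := by
  refine Subgroup.list_prod_mem _ fun x hx => ?_
  obtain ⟨j, hj, rfl⟩ := List.mem_map.1 hx
  rw [List.mem_range'_1] at hj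
  have := key_rootOf (b := b) hD (show j < D.nroots by omega)
  exact X_mem_uGe hD (by omega) (by omega) _

theorem exists_prodFrom (hC : GoodComm D) : ∀ (k m : ℕ), half D ≤ m → m + k = D.nroots →
    ∀ g ∈ uGe hC.good F b m, ∃ t : ℕ → F, prodFrom hC.good b t m k = g := by
  intro k
  induction k with
  | zero =>
    intro m _ hm g hg
    rw [uGe_eq_bot _ (by omega), Subgroup.mem_bot] at hg
    exact ⟨0, by simp [prodFrom, hg]⟩
  | succ k ih =>
    intro m hm hmk g hg
    set r := rootOf hC.good b m
    have hkey : key b r = m := key_rootOf hC.good (by omega)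
    -- the set `X_r * U_{>m}` is closed
    suffices H : ∃ u : F, (X hC.good r u)⁻¹ * g ∈ uGe hC.good F b (m + 1) by
      obtain ⟨u, hu⟩ := H
      obtain ⟨t, ht⟩ := ih (m + 1) (by omega) (by omega) _ hu
      refine ⟨Function.update t m u, ?_⟩
      rw [prodFrom_succ, Function.update_self]
      have : prodFrom hC.good b (Function.update t m u) (m + 1) k =
          prodFrom hC.good b t (m + 1) k := by
        simp only [prodFrom]
        congr 1
        apply List.map_congr_left
        intro j hj
        rw [List.mem_range'_1] at hj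
        rw [Function.update_of_ne (by omega)]
      rw [this, ht]
      exact mul_inv_cancel_left _ _
    induction hg using Subgroup.closure_induction with
    | mem x hx =>
      obtain ⟨c, hc, hcm, w, rfl⟩ := hx
      by_cases hcr : key b c = m
      · obtain rfl : c = r := key_injective b (hcr.trans hkey.symm)
        exact ⟨w, by simp⟩
      · exact ⟨0, by rw [X_zero, inv_one, one_mul]; exact X_mem_uGe _ hc (by omega) _⟩
    | one => exact ⟨0, by simp [X_zero]⟩
    | mul x y _ _ hx hy =>
      obtain ⟨u, hu⟩ := hx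
      obtain ⟨v, hv⟩ := hy
      refine ⟨u + v, ?_⟩
      have := conj_mem_uGe hC (b := b) (a := r) (by omega) (-v) (m + 1) hu
      rw [← X_mul, ← X_inv] at *
      rw [show (X hC.good r u * X hC.good r v)⁻¹ * (x * y) =
        ((X hC.good r v)⁻¹ * ((X hC.good r u)⁻¹ * x) * (X hC.good r v)⁻¹⁻¹) *
          ((X hC.good r v)⁻¹ * y) by group]
      exact mul_mem this hv
    | inv x _ hx =>
      obtain ⟨u, hu⟩ := hx
      refine ⟨-u, ?_⟩
      have := conj_mem_uGe hC (b := b) (a := r) (by omega) u (m + 1) (inv_mem hu)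
      rw [← X_inv, inv_inv]
      rwa [show X hC.good r u * ((X hC.good r u)⁻¹ * x)⁻¹ * (X hC.good r u)⁻¹ =
        X hC.good r u * x⁻¹ by group] at this

/-! ### Triangularity -/

theorem isLower_of_mem (hD : Good D) {m : ℕ} {g : GL D.Idx F} (hg : g ∈ uGe hD F b m) :
    IsLower b (g : Matrix D.Idx D.Idx F) := by
  suffices H : IsLower b (g : Matrix D.Idx D.Idx F) ∧
      IsLower b ((g⁻¹ : GL D.Idx F) : Matrix D.Idx D.Idx F) from H.1
  induction hg using Subgroup.closure_induction with
  | mem x hx =>
    obtain ⟨c, hc, -, w, rfl⟩ := hx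
    rw [X_inv]
    exact ⟨hD.isLower_xR hc w, hD.isLower_xR hc (-w)⟩
  | one => simp [IsLower.one]
  | mul x y _ _ hx hy => exact ⟨hx.1.mul hy.1, by rw [mul_inv_rev]; exact hy.2.mul hx.2⟩
  | inv x _ hx => exact ⟨hx.2, by rw [inv_inv]; exact hx.1⟩

theorem ord_lt_half_iff (hD : Good D) (a : D.Idx) :
    ord b a < half D ↔ ∃ r : Root D, a = Sum.inr r.rev ∧ half D ≤ key b r := by
  have hh := hD.two_half
  rcases a with i | s
  · simp [ord]
  · simp only [ord, Sum.elim_inr, Sum.inr.injEq]
    have := key_rev b s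
    constructor
    · intro h
      refine ⟨s.rev, (Fin.rev_rev s).symm, ?_⟩
      split_ifs at h <;> omega
    · rintro ⟨r, rfl, hr⟩
      have := key_rev b r
      rw [if_pos (by omega)]; omega

/-- Elements of the series beyond `m` do not detect the roots up to `m`. -/
theorem entry_eq_zero (hD : Good D) {m : ℕ} {g : GL D.Idx F} (hg : g ∈ uGe hD F b (m + 1))
    (i : Fin D.rank) {r : Root D} (hr : half D ≤ key b r) (hrm : key b r ≤ m) :
    (g : Matrix D.Idx D.Idx F) (Sum.inl i) (Sum.inr r.rev) = 0 := by
  suffices H : ∀ (i : Fin D.rank) (r : Root D), half D ≤ key b r → key b r ≤ m →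
      (g : Matrix D.Idx D.Idx F) (Sum.inl i) (Sum.inr r.rev) = 0 from H i r hr hrm
  clear hr hrm r i
  induction hg using Subgroup.closure_induction'' with
  | mem x hx =>
    obtain ⟨c, hc, hcm, w, rfl⟩ := hx
    intro i r hr hrm
    have hne : r.rev ≠ c.rev := fun e => by rw [Fin.rev_inj] at e; subst e; omega
    simp [xR, Finset.sum_range_succ, E_apply_one hD, E_apply_two hD, E_apply_three hD, hne]
  | inv_mem x hx =>
    obtain ⟨c, hc, hcm, w, rfl⟩ := hx
    intro i r hr hrm
    have hne : r.rev ≠ c.rev := fun e => by rw [Fin.rev_inj] at e; subst e; omega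
    simp [X_inv, xR, Finset.sum_range_succ, E_apply_one hD, E_apply_two hD, E_apply_three hD, hne]
  | one => intro i r _ _; simp
  | mul x y hx hy ihx ihy =>
    intro i r hr hrm
    rw [Units.val_mul, Matrix.mul_apply]
    refine Finset.sum_eq_zero fun a _ => ?_
    rcases eq_or_ne a (Sum.inr r.rev) with rfl | ha
    · rw [ihx i r hr hrm, zero_mul]
    have hy' := isLower_of_mem hD hy
    have hx' := isLower_of_mem hD hx
    by_cases hle : ord b a ≤ ord b (Sum.inr r.rev : D.Idx)
    · rw [hy'.2 a _ ha hle, mul_zero]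
    by_cases hlt : ord b a < half D
    · obtain ⟨r', rfl, hr'⟩ := (ord_lt_half_iff hD a).1 hlt
      refine mul_eq_zero_of_left (ihx i r' hr' ?_) _
      have := key_rev b r
      have := key_rev b r'
      have := hD.two_half
      simp only [ord, Sum.elim_inr] at hle
      rw [if_pos (by omega), if_pos (by omega)] at hle
      omega
    · rcases a with j | v
      · rw [ihy j r hr hrm, mul_zero]
      · refine mul_eq_zero_of_left (hx'.2 _ _ (by simp) ?_) _
        simp only [ord, Sum.elim_inl, Sum.elim_inr] at hlt ⊢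
        omega

end Series

end CfsgLib.Chevalley
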